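import Groth.Agent.Neron.K487.MapProp

/-!
# The Néron lft-mapping property may be checked over the local rings at the closed points
-/

universe u

open CategoryTheory CategoryTheory.Limits AlgebraicGeometry

namespace K487.LftLocal

variable {S : Scheme.{u}} [IsIntegral S] [IsNoetherian S]

/-- The mapping property over the local rings at closed points, in terms of plain morphisms. -/
def LocHyp (G : Over S) : Prop :=
  ∀ p : S, IsClosed ({p} : Set S) →
      ∀ (Z ZT : Scheme.{u}) (z : Z ⟶ Spec (S.presheaf.stalk p)) (_ : Smooth z) (a : ZT ⟶ Z)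
        (b : ZT ⟶ Spec (S.presheaf.stalk (genericPoint S)))
        (_ : IsPullback a b z (Spec.map (S.presheaf.stalkSpecializes (genericPoint_specializes p))))
        (f : ZT ⟶ G.left) (_ : f ≫ G.hom = a ≫ z ≫ S.fromSpecStalk p),
        ∃! g : Z ⟶ G.left, g ≫ G.hom = z ≫ S.fromSpecStalk p ∧ a ≫ g = f

omit [IsIntegral S] in
theorem exists_closed (s : S) : ∃ p : S, IsClosed ({p} : Set S) ∧ s ⤳ p := by
  obtain ⟨p, hp, hc⟩ := IsClosed.exists_closed_singleton (isClosed_closure (s := ({s} : Set S)))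
    ⟨s, subset_closure rfl⟩
  exact ⟨p, hc, specializes_iff_mem_closure.mpr hp⟩

/-- The comparison of the generic fibre of `Y` with the generic fibre of its restriction to a local ring. -/
noncomputable def aMap {Y : Scheme.{u}} (y : Y ⟶ S) (p : S) :
    pullback y (S.fromSpecStalk (genericPoint S)) ⟶ pullback y (S.fromSpecStalk p) :=
  pullback.lift (pullback.fst _ _)
    (pullback.snd _ _ ≫ Spec.map (S.presheaf.stalkSpecializes (genericPoint_specializes p)))
    (by rw [Category.assoc, Scheme.SpecMap_stalkSpecializes_fromSpecStalk, pullback.condition])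

omit [AlgebraicGeometry.IsNoetherian S] in
@[reassoc (attr := simp)]
theorem aMap_fst {Y : Scheme.{u}} (y : Y ⟶ S) (p : S) : aMap y p ≫ pullback.fst _ _ = pullback.fst _ _ :=
  pullback.lift_fst _ _ _

omit [AlgebraicGeometry.IsNoetherian S] in
@[reassoc (attr := simp)]
theorem aMap_snd {Y : Scheme.{u}} (y : Y ⟶ S) (p : S) : aMap y p ≫ pullback.snd _ _ =
    pullback.snd _ _ ≫ Spec.map (S.presheaf.stalkSpecializes (genericPoint_specializes p)) :=
  pullback.lift_snd _ _ _

omit [AlgebraicGeometry.IsNoetherian S] in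
theorem isPullback_aMap {Y : Scheme.{u}} (y : Y ⟶ S) (p : S) :
    IsPullback (aMap y p) (pullback.snd _ _) (pullback.snd _ _)
      (Spec.map (S.presheaf.stalkSpecializes (genericPoint_specializes p))) := by
  refine IsPullback.of_right (h₁₂ := pullback.fst y (S.fromSpecStalk p)) (v₁₃ := y)
    (h₂₂ := S.fromSpecStalk p) ?_ ?_ ?_
  · rw [aMap_fst, Scheme.SpecMap_stalkSpecializes_fromSpecStalk]
    exact IsPullback.of_hasPullback _ _
  · rw [aMap_snd]
  · exact IsPullback.of_hasPullback _ _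

/-- The local scheme at a point of `Y` maps to the restriction of `Y` to a local ring of `S`. -/
theorem exists_local_lift {Y : Scheme.{u}} (y : Y ⟶ S) (t : Y) (p : S) (h : y t ⤳ p) :
    ∃ φ : Spec (Y.presheaf.stalk t) ⟶ pullback y (S.fromSpecStalk p),
      φ ≫ pullback.fst _ _ = Y.fromSpecStalk t := by
  refine ⟨pullback.lift (Y.fromSpecStalk t) (Spec.map (y.stalkMap t) ≫ Spec.map (S.presheaf.stalkSpecializes h)) ?_, ?_⟩
  · rw [Category.assoc, Scheme.SpecMap_stalkSpecializes_fromSpecStalk, Scheme.SpecMap_stalkMap_fromSpecStalk]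
  · exact pullback.lift_fst _ _ _

/-- Two extensions of a morphism on the generic fibre agree. -/
theorem ext_aux {G : Over S} (hloc : LocHyp G)
    {Y : Scheme.{u}} (y : Y ⟶ S) [Smooth y] (g g' : Y ⟶ G.left) (hg : g ≫ G.hom = y) (hg' : g' ≫ G.hom = y)
    (h : pullback.fst y (S.fromSpecStalk (genericPoint S)) ≫ g =
      pullback.fst y (S.fromSpecStalk (genericPoint S)) ≫ g') : g = g' := by
  have : IsLocallyNoetherian Y := LocallyOfFiniteType.isLocallyNoetherian y
  refine Scheme.hom_ext_of_forall g g' fun t => ?_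
  obtain ⟨p, hp, hsp⟩ := exists_closed (y t)
  obtain ⟨φ, hφ⟩ := exists_local_lift y t p hsp
  have key : pullback.fst y (S.fromSpecStalk p) ≫ g = pullback.fst y (S.fromSpecStalk p) ≫ g' := by
    obtain ⟨g₀, -, hu⟩ := hloc p hp _ _ (pullback.snd y (S.fromSpecStalk p)) inferInstance _ _
      (isPullback_aMap y p) (pullback.fst _ _ ≫ g) (by
        rw [Category.assoc, hg, ← pullback.condition, aMap_fst_assoc])
    rw [hu (pullback.fst y (S.fromSpecStalk p) ≫ g) ⟨by rw [Category.assoc, hg, pullback.condition],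
      by rw [aMap_fst_assoc]⟩]
    exact (hu _ ⟨by rw [Category.assoc, hg', pullback.condition], by rw [aMap_fst_assoc, h]⟩).symm
  refine spread_out_unique_of_isGermInjective' g g' ?_
  rw [← hφ, Category.assoc, Category.assoc, key]

/-- Functoriality of the local scheme at a point. -/
theorem exists_stalk_map {X Y : Scheme.{u}} (f : X ⟶ Y) (x : X) (t : Y) (e : f x = t) :
    ∃ ψ : Spec (X.presheaf.stalk x) ⟶ Spec (Y.presheaf.stalk t), ψ ≫ Y.fromSpecStalk t = X.fromSpecStalk x ≫ f := by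
  subst e
  exact ⟨Spec.map (f.stalkMap x), Scheme.SpecMap_stalkMap_fromSpecStalk _⟩

/-- The local extension of a morphism on the generic fibre. -/
theorem exists_local_ext {G : Over S} (hloc : LocHyp G) [LocallyOfFiniteType G.hom]
    {Y : Scheme.{u}} (y : Y ⟶ S) [Smooth y] (f : pullback y (S.fromSpecStalk (genericPoint S)) ⟶ G.left)
    (hf : f ≫ G.hom = pullback.fst _ _ ≫ y) (t : Y) :
    ∃ (U : Y.Opens) (_ : t ∈ U) (h : U.toScheme ⟶ G.left), h ≫ G.hom = U.ι ≫ y ∧
      ∀ (W : Scheme.{u}) (m : W ⟶ pullback y (S.fromSpecStalk (genericPoint S))) (n : W ⟶ U.toScheme)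
        (_ : m ≫ pullback.fst _ _ = n ≫ U.ι), m ≫ f = n ≫ h := by
  have : IsLocallyNoetherian Y := LocallyOfFiniteType.isLocallyNoetherian y
  obtain ⟨p, hp, hsp⟩ := exists_closed (y t)
  obtain ⟨φ, hφ⟩ := exists_local_lift y t p hsp
  obtain ⟨gp, ⟨hgp1, hgp2⟩, -⟩ := hloc p hp _ _ (pullback.snd y (S.fromSpecStalk p)) inferInstance _ _
      (isPullback_aMap y p) f (by rw [hf, ← pullback.condition, aMap_fst_assoc])
  obtain ⟨U, hU, h, hh1, hh2⟩ := spread_out_of_isGermInjective' (sX := y) (sY := G.hom) (x := t) (φ ≫ gp) (by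
    rw [Category.assoc, hgp1, ← pullback.condition, reassoc_of% hφ])
  let π := pullback.fst y (S.fromSpecStalk p)
  obtain ⟨x₀, hx₀⟩ : ∃ x₀ : ↥(pullback y (S.fromSpecStalk p)), π x₀ = t := by
    refine ⟨φ (IsLocalRing.closedPoint (Y.presheaf.stalk t)), ?_⟩
    have h := congr($hφ (IsLocalRing.closedPoint (Y.presheaf.stalk t)))
    rw [Scheme.fromSpecStalk_closedPoint] at h
    exact h
  let V := π ⁻¹ᵁ U
  have hV : x₀ ∈ V := by
    show π x₀ ∈ U
    rw [hx₀]; exact hU
  let v : ↥(V.toScheme) := ⟨x₀, hV⟩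
  have hv : (V.ι ≫ π) v = t := hx₀
  obtain ⟨ψ, hψ⟩ := exists_stalk_map (V.ι ≫ π) v t hv
  have h1 : ψ ≫ φ = V.toScheme.fromSpecStalk v ≫ V.ι := by
    rw [← cancel_mono π, Category.assoc, Category.assoc, ← hψ, hφ]
  have hres : (π ∣_ U) ≫ U.ι = V.ι ≫ π := morphismRestrict_ι π U
  have h2 : ψ ≫ U.fromSpecStalkOfMem t hU = V.toScheme.fromSpecStalk v ≫ (π ∣_ U) := by
    rw [← cancel_mono U.ι, Category.assoc, Category.assoc, hres, ← hψ, Scheme.Opens.fromSpecStalkOfMem_ι]
  have h3 : V.toScheme.fromSpecStalk v ≫ V.ι ≫ gp = V.toScheme.fromSpecStalk v ≫ (π ∣_ U) ≫ h := by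
    rw [← reassoc_of% h1, ← reassoc_of% h2, hh1]
  have : IsLocallyNoetherian (pullback y (S.fromSpecStalk p)) :=
    LocallyOfFiniteType.isLocallyNoetherian (pullback.snd y (S.fromSpecStalk p))
  have : IsLocallyNoetherian V.toScheme := isLocallyNoetherian_of_isOpenImmersion V.ι
  obtain ⟨W, hvW, hW⟩ := spread_out_unique_of_isGermInjective' _ _ h3
  have hemb : Topology.IsEmbedding π := IsPreimmersion.isEmbedding π
  obtain ⟨O, hO, hOW⟩ := hemb.isOpen_iff.mp (V.ι ''ᵁ W).isOpen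
  have htO : t ∈ O := by
    rw [← hx₀]
    show x₀ ∈ π ⁻¹' O
    rw [hOW]
    exact ⟨v, hvW, rfl⟩
  refine ⟨U ⊓ ⟨O, hO⟩, ⟨hU, htO⟩, Y.homOfLE inf_le_left ≫ h, ?_, ?_⟩
  · rw [Category.assoc, hh2, Scheme.homOfLE_ι_assoc]
  · intro T m n hmn
    have hrange : Set.range (m ≫ aMap y p) ⊆ Set.range (W.ι ≫ V.ι) := by
      rintro _ ⟨x, rfl⟩
      have hx : (m ≫ aMap y p) x ∈ π ⁻¹' O := by
        show π ((m ≫ aMap y p) x) ∈ O
        rw [← Scheme.Hom.comp_apply, Category.assoc, aMap_fst, hmn, Scheme.Hom.comp_apply]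
        exact (n x).2.2
      rw [hOW] at hx
      obtain ⟨w, hw, hw2⟩ := hx
      refine ⟨⟨w, hw⟩, ?_⟩
      rw [Scheme.Hom.comp_apply]
      exact hw2
    let l := IsOpenImmersion.lift (W.ι ≫ V.ι) (m ≫ aMap y p) hrange
    have hl : l ≫ W.ι ≫ V.ι = m ≫ aMap y p := IsOpenImmersion.lift_fac _ _ _
    have hl2 : l ≫ W.ι ≫ (π ∣_ U) = n ≫ Y.homOfLE inf_le_left := by
      rw [← cancel_mono U.ι]
      simp only [Category.assoc]
      rw [hres, reassoc_of% hl, aMap_fst, hmn, Scheme.homOfLE_ι]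
    calc m ≫ f = m ≫ aMap y p ≫ gp := by rw [hgp2]
      _ = l ≫ W.ι ≫ V.ι ≫ gp := by rw [← reassoc_of% hl]
      _ = l ≫ W.ι ≫ (π ∣_ U) ≫ h := by rw [hW]
      _ = n ≫ Y.homOfLE inf_le_left ≫ h := by rw [reassoc_of% hl2]

/-- Existence of the extension of a morphism on the generic fibre. -/
theorem exists_ext {G : Over S} (hloc : LocHyp G) [LocallyOfFiniteType G.hom]
    {Y : Scheme.{u}} (y : Y ⟶ S) [Smooth y] (f : pullback y (S.fromSpecStalk (genericPoint S)) ⟶ G.left)
    (hf : f ≫ G.hom = pullback.fst _ _ ≫ y) :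
    ∃ g : Y ⟶ G.left, g ≫ G.hom = y ∧ pullback.fst _ _ ≫ g = f := by
  choose U hU h hh1 hh2 using exists_local_ext hloc y f hf
  let 𝒰 : Y.OpenCover := Y.openCoverOfIsOpenCover U
    (eq_top_iff.mpr fun x _ => TopologicalSpace.Opens.mem_iSup.mpr ⟨x, hU x⟩)
  have hglue : ∀ t t' : Y, pullback.fst (U t).ι (U t').ι ≫ h t = pullback.snd (U t).ι (U t').ι ≫ h t' := by
    intro t t'
    let p₁ : pullback (U t).ι (U t').ι ⟶ (U t).toScheme := pullback.fst (U t).ι (U t').ι
    let p₂ : pullback (U t).ι (U t').ι ⟶ (U t').toScheme := pullback.snd (U t).ι (U t').ι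
    have hp : p₁ ≫ (U t).ι = p₂ ≫ (U t').ι := pullback.condition
    let d : pullback (U t).ι (U t').ι ⟶ S := p₁ ≫ (U t).ι ≫ y
    have hd : Smooth d := inferInstance
    let m : pullback d (S.fromSpecStalk (genericPoint S)) ⟶ pullback y (S.fromSpecStalk (genericPoint S)) :=
      pullback.lift (pullback.fst _ _ ≫ p₁ ≫ (U t).ι) (pullback.snd _ _) (by
        rw [← pullback.condition]; simp only [Category.assoc]; rfl)
    have hm : m ≫ pullback.fst y (S.fromSpecStalk (genericPoint S)) = pullback.fst _ _ ≫ p₁ ≫ (U t).ι :=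
      pullback.lift_fst _ _ _
    show p₁ ≫ h t = p₂ ≫ h t'
    refine ext_aux hloc d _ _ ?_ ?_ ?_
    · rw [Category.assoc, hh1]
    · rw [Category.assoc, hh1, ← reassoc_of% hp]
    · rw [← Category.assoc, ← hh2 t _ m (pullback.fst _ _ ≫ p₁) (by rw [hm, Category.assoc]),
        ← Category.assoc, ← hh2 t' _ m (pullback.fst _ _ ≫ p₂) (by rw [hm, Category.assoc, hp])]
  let g : Y ⟶ G.left := 𝒰.glueMorphisms h (fun t t' => hglue t t')
  have hg : ∀ t, (U t).ι ≫ g = h t := fun t => 𝒰.ι_glueMorphisms h _ t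
  refine ⟨g, ?_, ?_⟩
  · refine 𝒰.hom_ext _ _ fun t => ?_
    have := reassoc_of% (hg t)
    exact (this _).trans (hh1 t)
  · refine Scheme.hom_ext_of_forall _ _ fun x => ?_
    let t := pullback.fst y (S.fromSpecStalk (genericPoint S)) x
    refine ⟨pullback.fst y (S.fromSpecStalk (genericPoint S)) ⁻¹ᵁ (U t), hU t, ?_⟩
    rw [hh2 t _ _ (pullback.fst y (S.fromSpecStalk (genericPoint S)) ∣_ (U t)) (morphismRestrict_ι _ _).symm]
    rw [← hg t, ← Category.assoc, ← Category.assoc, morphismRestrict_ι]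

end K487.LftLocal
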