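import Mathlib.GroupTheory.Index
import Mathlib.GroupTheory.QuotientGroup.Basic
import Mathlib.GroupTheory.OrderOfElement
import Mathlib.Data.Nat.Factorization.Basic
import Mathlib.RingTheory.Coprime.Lemmas

/-!
# Splitting of abelian extensions: abstract lemmas
-/

set_option autoImplicit false

namespace K487.SplitAbs

variable {Γ : Type*} [CommGroup Γ] (Γ₀ : Subgroup Γ)

/-- If the subgroups of `n^j`-th powers stabilize and `Γ₀` has finite index then every element whose class has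
`n`-power order can be modified by an element of `Γ₀` into an element of `n`-power order. -/
theorem exists_primary [Finite (Γ ⧸ Γ₀)] (n N : ℕ) (hN : ∀ (j : ℕ) (x : Γ), ∃ y : Γ, y ^ (n ^ (N + j)) = x ^ (n ^ N))
    (x : Γ) (r : ℕ) (hx : x ^ (n ^ r) ∈ Γ₀) : ∃ y, x * y⁻¹ ∈ Γ₀ ∧ ∃ s, y ^ (n ^ s) = 1 := by
  let H : Subgroup Γ := (powMonoidHom (n ^ N)).range
  let Q : Subgroup (Γ ⧸ Γ₀) := H.map (QuotientGroup.mk' Γ₀)
  have hQ : ∀ a ∈ Q, ∀ j : ℕ, a ^ (n ^ j) = 1 → a = 1 := by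
    intro a ha j hj
    have hfin : Finite Q := inferInstance
    have hsurj : Function.Surjective (fun q : Q => q ^ (n ^ j)) := by
      rintro ⟨_, _, ⟨x, rfl⟩, rfl⟩
      obtain ⟨y, hy⟩ := hN j x
      refine ⟨⟨QuotientGroup.mk' Γ₀ (y ^ (n ^ N)), _, ⟨y, rfl⟩, rfl⟩, ?_⟩
      apply Subtype.ext
      show (QuotientGroup.mk' Γ₀ (y ^ (n ^ N))) ^ (n ^ j) = QuotientGroup.mk' Γ₀ (x ^ (n ^ N))
      rw [← map_pow, ← pow_mul, ← pow_add, hy]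
    have hinj : Function.Injective (fun q : Q => q ^ (n ^ j)) := Finite.injective_iff_surjective.mpr hsurj
    have := @hinj ⟨a, ha⟩ 1 (by
      apply Subtype.ext
      show a ^ (n ^ j) = (1 : Γ ⧸ Γ₀) ^ (n ^ j)
      rw [hj, one_pow])
    exact congrArg Subtype.val this
  obtain ⟨u, hu⟩ := hN (N + r) (x ^ (n ^ r))
  let h := u ^ (n ^ N)
  have h1 : h ^ (n ^ (N + r)) = x ^ (n ^ (N + r)) := by
    show (u ^ (n ^ N)) ^ (n ^ (N + r)) = _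
    rw [← pow_mul, ← pow_add, hu, ← pow_mul, ← pow_add, add_comm r N]
  have h2 : h ∈ Γ₀ := by
    rw [← QuotientGroup.eq_one_iff]
    refine hQ _ ⟨h, ⟨u, rfl⟩, rfl⟩ (N + r) ?_
    have : (QuotientGroup.mk' Γ₀ h) ^ (n ^ (N + r)) = QuotientGroup.mk' Γ₀ (h ^ (n ^ (N + r))) := (map_pow _ _ _).symm
    rw [show ((h : Γ) : Γ ⧸ Γ₀) = QuotientGroup.mk' Γ₀ h from rfl, this, h1]
    show ((x ^ (n ^ (N + r)) : Γ) : Γ ⧸ Γ₀) = 1
    rw [QuotientGroup.eq_one_iff, pow_add, mul_comm, pow_mul]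
    exact Γ₀.pow_mem hx _
  refine ⟨x * h⁻¹, ?_, N + r, ?_⟩
  · rw [mul_inv, inv_inv, mul_inv_cancel_left]
    exact h2
  · rw [mul_pow, inv_pow, h1, mul_inv_cancel]

/-- If the classes of `p`-power order have lifts of the same order and `Γ₀` is divisible by the integers prime to `p`
then all classes have lifts of the same order. -/
theorem exists_split [Finite (Γ ⧸ Γ₀)] (p : ℕ) (hp : p.Prime)
    (hdiv : ∀ m : ℕ, Nat.Coprime m p → ∀ h ∈ Γ₀, ∃ h' ∈ Γ₀, h' ^ m = h)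
    (hprim : ∀ x : Γ, (∃ r : ℕ, x ^ (p ^ r) ∈ Γ₀) → ∃ y, x * y⁻¹ ∈ Γ₀ ∧ ∀ n : ℕ, y ^ n = 1 ↔ x ^ n ∈ Γ₀)
    (x : Γ) : ∃ y, x * y⁻¹ ∈ Γ₀ ∧ ∀ n : ℕ, y ^ n = 1 ↔ x ^ n ∈ Γ₀ := by
  let d := orderOf (x : Γ ⧸ Γ₀)
  have hd : d ≠ 0 := (orderOf_pos _).ne'
  have hxd : ∀ n : ℕ, x ^ n ∈ Γ₀ ↔ d ∣ n := by
    intro n
    rw [← QuotientGroup.eq_one_iff, QuotientGroup.mk_pow]
    exact orderOf_dvd_iff_pow_eq_one.symm
  obtain ⟨r, m, hm, hdm⟩ := Nat.exists_eq_pow_mul_and_not_dvd hd p hp.ne_one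
  have hcop : Nat.Coprime m p := ((Nat.Prime.coprime_iff_not_dvd hp).mpr hm).symm
  have hcop' : IsCoprime (m : ℤ) ((p : ℤ) ^ r) := by
    have := Nat.isCoprime_iff_coprime.mpr (hcop.pow_right r)
    push_cast at this
    exact this
  obtain ⟨a, b, hab⟩ := hcop'
  have hxz : ∀ n : ℤ, x ^ n ∈ Γ₀ ↔ (d : ℤ) ∣ n := by
    intro n
    rw [← QuotientGroup.eq_one_iff, QuotientGroup.mk_zpow]
    exact orderOf_dvd_iff_zpow_eq_one.symm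
  let x₁ := x ^ (a * m)
  let x₂ := x ^ (b * (p : ℤ) ^ r)
  have hx12 : x₁ * x₂ = x := by
    show x ^ (a * m) * x ^ (b * (p : ℤ) ^ r) = x
    rw [← zpow_add, hab, zpow_one]
  have hx1 : x₁ ^ (p ^ r) ∈ Γ₀ := by
    show (x ^ (a * m)) ^ (p ^ r) ∈ Γ₀
    rw [← zpow_natCast, ← zpow_mul, hxz, hdm]
    push_cast
    exact ⟨a, by ring⟩
  have hx2 : x₂ ^ m ∈ Γ₀ := by
    show (x ^ (b * (p : ℤ) ^ r)) ^ m ∈ Γ₀
    rw [← zpow_natCast, ← zpow_mul, hxz, hdm]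
    push_cast
    exact ⟨b, by ring⟩
  obtain ⟨y₁, hy₁, hy₁'⟩ := hprim x₁ ⟨r, hx1⟩
  obtain ⟨h, hh, hh'⟩ := hdiv m hcop _ hx2
  let y₂ := x₂ * h⁻¹
  have hy₂ : y₂ ^ m = 1 := by
    show (x₂ * h⁻¹) ^ m = 1
    rw [mul_pow, inv_pow, hh', mul_inv_cancel]
  refine ⟨y₁ * y₂, ?_, fun n => ⟨fun hn => ?_, fun hn => ?_⟩⟩
  · have : x * (y₁ * y₂)⁻¹ = (x₁ * y₁⁻¹) * h := by
      rw [← hx12]
      show x₁ * x₂ * (y₁ * (x₂ * h⁻¹))⁻¹ = _
      rw [mul_inv, mul_inv, inv_inv]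
      rw [mul_mul_mul_comm, ← mul_assoc x₂, mul_inv_cancel, one_mul]
    rw [this]
    exact Γ₀.mul_mem hy₁ hh
  · have h3 : x * (y₁ * y₂)⁻¹ ∈ Γ₀ := by
      have : x * (y₁ * y₂)⁻¹ = (x₁ * y₁⁻¹) * h := by
        rw [← hx12]
        show x₁ * x₂ * (y₁ * (x₂ * h⁻¹))⁻¹ = _
        rw [mul_inv, mul_inv, inv_inv]
        rw [mul_mul_mul_comm, ← mul_assoc x₂, mul_inv_cancel, one_mul]
      rw [this]
      exact Γ₀.mul_mem hy₁ hh
    have h4 := Γ₀.pow_mem h3 n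
    rwa [mul_pow, inv_pow, hn, inv_one, mul_one] at h4
  · have h1 : d ∣ n := (hxd n).mp hn
    have h2 : m ∣ n := (Dvd.intro_left (p ^ r) hdm.symm).trans h1
    have h3 : y₁ ^ n = 1 := by
      rw [hy₁']
      show (x ^ (a * m)) ^ n ∈ Γ₀
      rw [← zpow_natCast, zpow_comm]
      rw [zpow_natCast]
      exact Γ₀.zpow_mem hn _
    obtain ⟨c, rfl⟩ := h2
    rw [mul_pow, h3, one_mul, pow_mul, hy₂, one_pow]

end K487.SplitAbs
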