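import Groth.Agent.Sga7.H751.SecRoot
import Groth.Agent.Sga3C.ArtinHom
import Groth.Agent.Neron.K487.SplitAbs

/-!
# Points of commutative algebraic groups over an algebraically closed field
-/

set_option autoImplicit false
universe u

open CategoryTheory CategoryTheory.Limits AlgebraicGeometry MonObj
open MonoidalCategory CartesianMonoidalCategory

namespace K487.AlgPts

open Groth.Agent.Sga7.H750.SecComp Groth.Agent.Sga7.H751.SecRoot

section local_ring

variable {R : Type u} [CommRing R] [IsLocalRing R] (N : Over (Spec (CommRingCat.of R))) [GrpObj N]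

/-- The subgroup of the sections meeting the unit component of the special fibre. -/
def unitComp : Subgroup (𝟙_ (Over (Spec (CommRingCat.of R))) ⟶ N) where
  carrier := SGA7.secUnitComp R N
  mul_mem' hx hy := mul_mem_secUnitComp N hx hy
  one_mem' := by rw [mem_secUnitComp_iff]
  inv_mem' := by
    intro x hx
    have h := (secComp_eq_iff N 1 x).mp ((mem_secUnitComp_iff N x).mp hx).symm
    rwa [_root_.one_mul] at h

theorem mem_unitComp (x : 𝟙_ (Over (Spec (CommRingCat.of R))) ⟶ N) :
    x ∈ unitComp N ↔ x ∈ SGA7.secUnitComp R N := Iff.rfl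

theorem finite_quotient [IsNoetherianRing R] [IsCommMonObj N] [LocallyOfFiniteType N.hom] [QuasiCompact N.hom] :
    Finite ((𝟙_ (Over (Spec (CommRingCat.of R))) ⟶ N) ⧸ unitComp N) := by
  have hf : Finite (Set.range (SGA7.secComp R N)) := (finite_range_secComp N).to_subtype
  let φ : ((𝟙_ (Over (Spec (CommRingCat.of R))) ⟶ N) ⧸ unitComp N) → Set.range (SGA7.secComp R N) :=
    Quotient.lift (fun x => ⟨SGA7.secComp R N x, x, rfl⟩) (by
      intro x y hxy
      have h1 : x⁻¹ * y ∈ unitComp N := QuotientGroup.leftRel_apply.mp hxy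
      apply Subtype.ext
      show SGA7.secComp R N x = SGA7.secComp R N y
      symm
      rw [secComp_eq_iff]
      have e : y * x⁻¹ = x⁻¹ * y := _root_.mul_comm _ _
      rw [e]
      exact h1)
  refine Finite.of_injective φ ?_
  intro a b
  induction a using QuotientGroup.induction_on
  induction b using QuotientGroup.induction_on
  rename_i x y
  intro h
  have h1 : SGA7.secComp R N y = SGA7.secComp R N x := (congrArg Subtype.val h).symm
  rw [secComp_eq_iff] at h1
  rw [QuotientGroup.eq]
  have e : x⁻¹ * y = y * x⁻¹ := _root_.mul_comm _ _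
  rw [e]
  exact h1

end local_ring

section field

variable {k : Type u} [Field k] (G : Over (Spec (CommRingCat.of k))) [GrpObj G]

theorem specialFibreSet_eq : SGA7.specialFibreSet k G = Set.univ := by
  apply Set.eq_univ_of_forall
  intro x
  exact Subsingleton.elim (α := PrimeSpectrum k) _ _

theorem secComp_eq (x : 𝟙_ (Over (Spec (CommRingCat.of k))) ⟶ G) :
    SGA7.secComp k G x = connectedComponent (x.left.base (IsLocalRing.closedPoint k)) := by
  rw [SGA7.secComp, specialFibreSet_eq, connectedComponentIn_univ]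

theorem mem_secUnitComp (x : 𝟙_ (Over (Spec (CommRingCat.of k))) ⟶ G) :
    x ∈ SGA7.secUnitComp k G ↔ x.left.base (IsLocalRing.closedPoint k) ∈
      connectedComponent (η[G].left.base (IsLocalRing.closedPoint k)) := by
  rw [SGA7.secUnitComp, specialFibreSet_eq, connectedComponentIn_univ]
  rfl

theorem mem_connectedComponent_iff (x y : 𝟙_ (Over (Spec (CommRingCat.of k))) ⟶ G) :
    y.left.base (IsLocalRing.closedPoint k) ∈ connectedComponent (x.left.base (IsLocalRing.closedPoint k)) ↔
      x * y⁻¹ ∈ unitComp G := by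
  rw [mem_unitComp, ← secComp_eq_iff, secComp_eq, secComp_eq]
  constructor
  · intro h
    exact connectedComponent_eq h
  · intro h
    rw [h]
    exact mem_connectedComponent

variable [IsAlgClosed k]

omit [GrpObj G] in
/-- A point lies in the set theoretic image iff it lifts. -/
theorem exists_lift_pt {H : Over (Spec (CommRingCat.of k))} [LocallyOfFiniteType G.hom] [LocallyOfFiniteType H.hom] (u : G ⟶ H)
    (z : 𝟙_ (Over (Spec (CommRingCat.of k))) ⟶ H)
    (hz : z.left.base (IsLocalRing.closedPoint k) ∈ Set.range u.left) : ∃ w, w ≫ u = z := by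
  obtain ⟨g, hg⟩ := hz
  obtain ⟨v, hv⟩ := Scheme.Pullback.exists_preimage_pullback (f := u.left) (g := z.left) g
    (IsLocalRing.closedPoint k) hg
  have hu : LocallyOfFiniteType u.left := by
    have : LocallyOfFiniteType (u.left ≫ H.hom) := by rw [Over.w u]; infer_instance
    exact locallyOfFiniteType_of_comp u.left H.hom
  let P := pullback u.left z.left
  let π : P ⟶ Spec (CommRingCat.of k) := pullback.snd u.left z.left
  have hπ : LocallyOfFiniteType π := inferInstanceAs (LocallyOfFiniteType (pullback.snd u.left z.left))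
  have : JacobsonSpace P := LocallyOfFiniteType.jacobsonSpace π
  obtain ⟨x, hx, hxc⟩ := nonempty_inter_closedPoints (Z := (Set.univ : Set P)) ⟨v, trivial⟩ isOpen_univ.isLocallyClosed
  have hxc' : IsClosed {x} := hxc
  let a := pointOfClosedPoint π x hxc'
  have ha : a ≫ π = 𝟙 _ := pointOfClosedPoint_comp _ _ _
  have h1 : (a ≫ pullback.fst u.left z.left) ≫ u.left = z.left := by
    rw [Category.assoc, pullback.condition, ← Category.assoc]
    exact (congrArg (· ≫ z.left) ha).trans (Category.id_comp _)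
  refine ⟨Over.homMk (a ≫ pullback.fst u.left z.left) ?_, ?_⟩
  · rw [← Over.w u, ← Category.assoc, h1]
    exact Over.w z
  · apply Over.OverMorphism.ext
    exact h1

omit [IsAlgClosed k] in
theorem isMonHom_pow [IsCommMonObj G] (m : ℕ) : IsMonHom (𝟙 G ^ m) where
  one_hom := by
    rw [MonObj.comp_pow, Category.comp_id]
    rw [MonObj.one_eq_one, one_pow]
  mul_hom := by
    rw [MonObj.comp_pow, Category.comp_id, MonObj.mul_eq_mul, mul_pow, MonObj.comp_mul, tensorHom_fst, tensorHom_snd,
      MonObj.comp_pow, MonObj.comp_pow, Category.comp_id, Category.comp_id]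

/-- The images of the power maps stabilize. -/
theorem exists_stable [IsCommMonObj G] [LocallyOfFiniteType G.hom] [QuasiCompact G.hom] (n : ℕ) :
    ∃ N : ℕ, ∀ (j : ℕ) (x : 𝟙_ (Over (Spec (CommRingCat.of k))) ⟶ G), ∃ y : 𝟙_ (Over (Spec (CommRingCat.of k))) ⟶ G,
      y ^ (n ^ (N + j)) = x ^ (n ^ N) := by
  have hN := noetherianSpace G
  have hcl : ∀ m : ℕ, IsClosed (Set.range (𝟙 G ^ m).left) := by
    intro m
    have h1 : IsMonHom (𝟙 G ^ m) := isMonHom_pow G m
    have h2 : QuasiCompact (𝟙 G ^ m).left := inferInstance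
    exact Groth.Agent.Sga3C.ArtinHom.isClosed_range (A := k) (𝟙 G ^ m)
  let Z : ℕ →o (TopologicalSpace.Closeds G.left)ᵒᵈ :=
    { toFun := fun j => OrderDual.toDual ⟨Set.range (𝟙 G ^ (n ^ j)).left, hcl _⟩
      monotone' := by
        intro i j hij
        show Set.range (𝟙 G ^ (n ^ j)).left ⊆ Set.range (𝟙 G ^ (n ^ i)).left
        obtain ⟨c, rfl⟩ := Nat.exists_eq_add_of_le hij
        have h1 : 𝟙 G ^ (n ^ (i + c)) = (𝟙 G ^ (n ^ c)) ≫ (𝟙 G ^ (n ^ i)) := by
          rw [MonObj.comp_pow, Category.comp_id, ← pow_mul, ← pow_add, add_comm c i]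
        rw [h1, Over.comp_left]
        rintro _ ⟨x, rfl⟩
        rw [Scheme.Hom.comp_apply]
        exact ⟨_, rfl⟩ }
  have hwf : WellFoundedGT (TopologicalSpace.Closeds G.left)ᵒᵈ := inferInstance
  obtain ⟨N, hN⟩ := WellFoundedGT.monotone_chain_condition Z
  refine ⟨N, fun j x => ?_⟩
  have h1 : Set.range (𝟙 G ^ (n ^ N)).left = Set.range (𝟙 G ^ (n ^ (N + j))).left := by
    have := hN (N + j) (Nat.le_add_right _ _)
    exact congrArg (fun z : (TopologicalSpace.Closeds G.left)ᵒᵈ => ((OrderDual.ofDual z : TopologicalSpace.Closeds G.left) : Set G.left)) this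
  obtain ⟨w, hw⟩ := exists_lift_pt G (𝟙 G ^ (n ^ (N + j))) (x ^ (n ^ N)) (by
    rw [← h1]
    have : x ^ (n ^ N) = x ≫ (𝟙 G ^ (n ^ N)) := by rw [MonObj.comp_pow, Category.comp_id]
    rw [this, Over.comp_left]
    exact ⟨_, (Scheme.Hom.comp_apply _ _ _).symm⟩)
  refine ⟨w, ?_⟩
  rw [← hw, MonObj.comp_pow, Category.comp_id]

theorem isStrictlyHenselianLocalRing : EtCoh.IsStrictlyHenselianLocalRing k := by
  have h1 : Function.Bijective (IsLocalRing.residue k) := by
    refine ⟨?_, IsLocalRing.residue_surjective⟩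
    exact (IsLocalRing.residue k).injective
  have h2 : IsAlgClosed (IsLocalRing.ResidueField k) := IsAlgClosed.of_ringEquiv _ _ (RingEquiv.ofBijective _ h1)
  exact ⟨inferInstance, inferInstance⟩

/-- The unit component is divisible by the integers invertible in `k`. -/
theorem exists_root_unitComp [IsCommMonObj G] [Smooth G.hom] [QuasiCompact G.hom] (m : ℕ) (hm : (m : k) ≠ 0)
    (h : 𝟙_ (Over (Spec (CommRingCat.of k))) ⟶ G) (hh : h ∈ unitComp G) : ∃ h' ∈ unitComp G, h' ^ m = h := by
  have het : Etale (𝟙 G ^ m).left := by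
    refine Groth.Agent.Sga7.H751.PowEtale.etale_pow G m (fun s => ?_)
    have h1 : IsUnit (m : Γ(Spec (CommRingCat.of k), ⊤)) := by
      have := (isUnit_iff_ne_zero.mpr hm).map (Scheme.ΓSpecIso (CommRingCat.of k)).inv.hom
      rwa [map_natCast] at this
    have h2 := h1.map ((Spec (CommRingCat.of k)).evaluation ⊤ s trivial).hom
    rw [map_natCast] at h2
    exact h2.ne_zero
  exact exists_root_mem_secUnitComp G isStrictlyHenselianLocalRing m h hh

/-- Splitting of the component group from the splitting of its `p`-primary part. -/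
theorem exists_split [IsCommMonObj G] [Smooth G.hom] [QuasiCompact G.hom] (p : ℕ) [hp : Fact p.Prime] [CharP k p]
    (hprim : ∀ x : 𝟙_ (Over (Spec (CommRingCat.of k))) ⟶ G, (∃ r : ℕ, x ^ (p ^ r) ∈ unitComp G) →
      ∃ y, x * y⁻¹ ∈ unitComp G ∧ ∀ n : ℕ, y ^ n = 1 ↔ x ^ n ∈ unitComp G)
    (x : 𝟙_ (Over (Spec (CommRingCat.of k))) ⟶ G) :
    ∃ y, x * y⁻¹ ∈ unitComp G ∧ ∀ n : ℕ, y ^ n = 1 ↔ x ^ n ∈ unitComp G := by
  have := finite_quotient G
  refine SplitAbs.exists_split (unitComp G) p hp.out (fun m hm h hh => ?_) hprim x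
  refine exists_root_unitComp G m ?_ h hh
  intro h0
  rw [CharP.cast_eq_zero_iff k p] at h0
  have := Nat.Coprime.eq_one_of_dvd hm.symm h0
  exact hp.out.one_lt.ne' this

end field

end K487.AlgPts
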