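import Groth.Agent.Neron.K487.EStep

/-!
# Points with values in an artinian local algebra whose reductions lie in the same connected component
-/

set_option autoImplicit false
universe u

open CategoryTheory CategoryTheory.Limits AlgebraicGeometry TensorProduct

namespace K487.Comp

open K487.Elem K487.EStep

variable {k A R' : Type u} [Field k] [CommRing A] [Algebra k A] [CommRing R']
    (α : A →ₐ[k] k) (ρ : R' →+* A) {X : Scheme.{u}} (f : X ⟶ Spec (CommRingCat.of R'))

/-- The fibre of `f` at the `k`-point `α` of `A`. -/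
noncomputable abbrev Fib : Scheme.{u} := pullback f (Spec.map (CommRingCat.ofHom (α.toRingHom.comp ρ)))

/-- `w` is the reduction of `y`. -/
def IsRed (y : Spec (CommRingCat.of A) ⟶ X) (w : Spec (CommRingCat.of k) ⟶ Fib α ρ f) : Prop :=
  w ≫ pullback.snd _ _ = 𝟙 _ ∧ w ≫ pullback.fst _ _ = Spec.map (CommRingCat.ofHom α.toRingHom) ≫ y

theorem exists_isRed (y : Spec (CommRingCat.of A) ⟶ X) (hy : y ≫ f = Spec.map (CommRingCat.ofHom ρ)) :
    ∃ w, IsRed α ρ f y w := by
  refine ⟨pullback.lift (Spec.map (CommRingCat.ofHom α.toRingHom) ≫ y) (𝟙 _) ?_, pullback.lift_snd _ _ _,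
    pullback.lift_fst _ _ _⟩
  rw [Category.assoc, hy, Category.id_comp, CommRingCat.ofHom_comp, Spec.map_comp]

theorem rel_of_isRed [IsLocalRing A] (hα : IsNilpotent (RingHom.ker α.toRingHom)) [Smooth f]
    (y y' : Spec (CommRingCat.of A) ⟶ X) (hy : y ≫ f = Spec.map (CommRingCat.ofHom ρ))
    (hy' : y' ≫ f = Spec.map (CommRingCat.ofHom ρ)) (w : Spec (CommRingCat.of k) ⟶ Fib α ρ f)
    (h : IsRed α ρ f y w) (h' : IsRed α ρ f y' w) :
    Rel (Spec.map (CommRingCat.ofHom (algebraMap k A))) (Spec.map (CommRingCat.ofHom ρ)) f y y' := by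
  have hs : Function.Surjective α.toRingHom := fun x => ⟨algebraMap k A x, by simp⟩
  have hm : RingHom.ker α.toRingHom = IsLocalRing.maximalIdeal A :=
    IsLocalRing.eq_maximalIdeal (RingHom.ker_isMaximal_of_surjective _ hs)
  refine Kernel.rel_of_reduction_eq ρ (hm ▸ hα) f y y' hy hy' ?_
  have e : Ideal.Quotient.mk (IsLocalRing.maximalIdeal A) =
      ((Ideal.Quotient.mk (IsLocalRing.maximalIdeal A)).comp (algebraMap k A)).comp α.toRingHom := by
    ext a
    rw [RingHom.comp_apply, RingHom.comp_apply, Ideal.Quotient.eq, ← hm]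
    show α (a - algebraMap k A (α a)) = 0
    rw [map_sub, AlgHom.commutes]; simp
  have e2 : Spec.map (CommRingCat.ofHom α.toRingHom) ≫ y = Spec.map (CommRingCat.ofHom α.toRingHom) ≫ y' := by
    rw [← h.2, ← h'.2]
  rw [e, CommRingCat.ofHom_comp, Spec.map_comp, Category.assoc, Category.assoc, e2]

/-- Families over a connected open subset of an affine open of the fibre. -/
theorem transport (hα : IsNilpotent (RingHom.ker α.toRingHom)) [Smooth f]
    (U V : (Fib α ρ f).Opens) (hU : IsAffineOpen U) (hVU : V ≤ U) (hV : ConnectedSpace V)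
    (w w' : Spec (CommRingCat.of k) ⟶ Fib α ρ f) (hw : w ≫ pullback.snd _ _ = 𝟙 _)
    (hw' : w' ≫ pullback.snd _ _ = 𝟙 _) (hwV : w (IsLocalRing.closedPoint k) ∈ V)
    (hwV' : w' (IsLocalRing.closedPoint k) ∈ V) :
    ∃ z z' : Spec (CommRingCat.of A) ⟶ X, IsRed α ρ f z w ∧ IsRed α ρ f z' w' ∧
      El (Spec.map (CommRingCat.ofHom (algebraMap k A))) (Spec.map (CommRingCat.ofHom ρ)) f z z' := by
  let x₁ := pullback.fst f (Spec.map (CommRingCat.ofHom (α.toRingHom.comp ρ)))
  let x₂ := pullback.snd f (Spec.map (CommRingCat.ofHom (α.toRingHom.comp ρ)))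
  let B := Γ(Fib α ρ f, U)
  obtain ⟨κ, hκ⟩ : ∃ κ : k →+* B, Spec.map (CommRingCat.ofHom κ) = hU.fromSpec ≫ x₂ :=
    ⟨(Spec.preimage (hU.fromSpec ≫ x₂)).hom, by rw [CommRingCat.ofHom_hom, Spec.map_preimage]⟩
  let _ : Algebra k B := κ.toAlgebra
  have hκ' : Spec.map (CommRingCat.ofHom (algebraMap k B)) = hU.fromSpec ≫ x₂ := hκ
  obtain ⟨s, hs1, hs2⟩ := exists_family (B := B) α hα ρ f (hU.fromSpec ≫ x₁) (by
    rw [Category.assoc, pullback.condition, reassoc_of% hκ'])
  -- the `k`-points of `B`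
  have key : ∀ (w : Spec (CommRingCat.of k) ⟶ Fib α ρ f) (_ : w ≫ x₂ = 𝟙 _)
      (_ : w (IsLocalRing.closedPoint k) ∈ V), ∃ β : B →ₐ[k] k, w = Spec.map (CommRingCat.ofHom β.toRingHom) ≫ hU.fromSpec := by
    intro w hw hwV
    obtain ⟨φ, hφ⟩ := Kernel.exists_factor w hU (hVU hwV)
    have hφκ : φ.comp κ = RingHom.id k := by
      have : Spec.map (CommRingCat.ofHom (φ.comp κ)) = Spec.map (CommRingCat.ofHom (RingHom.id k)) := by
        rw [CommRingCat.ofHom_comp, Spec.map_comp, hκ, ← Category.assoc, ← hφ, hw]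
        exact (Spec.map_id _).symm
      exact congrArg CommRingCat.Hom.hom (Spec.map_injective this)
    exact ⟨⟨φ, fun r => RingHom.congr_fun hφκ r⟩, hφ⟩
  obtain ⟨β, hβ⟩ := key w hw hwV
  obtain ⟨β', hβ'⟩ := key w' hw' hwV'
  refine ⟨Spec.map (CommRingCat.ofHom (ev (A := A) β).toRingHom) ≫ s,
    Spec.map (CommRingCat.ofHom (ev (A := A) β').toRingHom) ≫ s, ⟨hw, ?_⟩, ⟨hw', ?_⟩, ?_⟩
  · rw [hs2 β, hβ, Category.assoc]
  · rw [hs2 β', hβ', Category.assoc]
  · -- the connected scheme is `V`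
    have hr : Set.range V.ι ⊆ Set.range hU.fromSpec := by
      rw [hU.range_fromSpec, Scheme.Opens.range_ι]; exact hVU
    let j : V.toScheme ⟶ Spec (CommRingCat.of B) := IsOpenImmersion.lift hU.fromSpec V.ι hr
    have hj : j ≫ hU.fromSpec = V.ι := IsOpenImmersion.lift_fac _ _ _
    have key2 : ∀ (w : Spec (CommRingCat.of k) ⟶ Fib α ρ f) (_ : w (IsLocalRing.closedPoint k) ∈ V),
        ∃ t : Spec (CommRingCat.of k) ⟶ V.toScheme, t ≫ V.ι = w := by
      intro w hw
      refine ⟨IsOpenImmersion.lift V.ι w ?_, IsOpenImmersion.lift_fac _ _ _⟩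
      rw [Scheme.Opens.range_ι]
      rintro _ ⟨x, rfl⟩
      have : x = IsLocalRing.closedPoint k := Subsingleton.elim (α := PrimeSpectrum k) _ _
      rw [this]; exact hw
    obtain ⟨t, ht⟩ := key2 w hwV
    obtain ⟨t', ht'⟩ := key2 w' hwV'
    have htj : t ≫ j = Spec.map (CommRingCat.ofHom β.toRingHom) := by
      rw [← cancel_mono hU.fromSpec, Category.assoc, hj, ht, hβ]
    have htj' : t' ≫ j = Spec.map (CommRingCat.ofHom β'.toRingHom) := by
      rw [← cancel_mono hU.fromSpec, Category.assoc, hj, ht', hβ']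
    have hβid : ∀ β : B →ₐ[k] k, Spec.map (CommRingCat.ofHom β.toRingHom) ≫
        Spec.map (CommRingCat.ofHom (algebraMap k B)) = 𝟙 _ := by
      intro β
      rw [← Spec.map_comp, ← CommRingCat.ofHom_comp, ← Spec.map_id]
      congr 2
      ext x
      exact β.commutes x
    have hevA : ∀ β : B →ₐ[k] k, Spec.map (CommRingCat.ofHom (ev (A := A) β).toRingHom) ≫
        Spec.map (CommRingCat.ofHom (algebraMap A (A ⊗[k] B))) = 𝟙 _ := by
      intro β
      rw [← Spec.map_comp, ← CommRingCat.ofHom_comp, ← Spec.map_id]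
      congr 2
      ext x
      show (ev (A := A) β) (x ⊗ₜ 1) = x
      simp [ev]
    have hevB : ∀ β : B →ₐ[k] k, Spec.map (CommRingCat.ofHom (ev (A := A) β).toRingHom) ≫
        Spec.map (CommRingCat.ofHom (Algebra.TensorProduct.includeRight (R := k) (A := A) (B := B)).toRingHom) =
          Spec.map (CommRingCat.ofHom (algebraMap k A)) ≫ Spec.map (CommRingCat.ofHom β.toRingHom) := by
      intro β
      rw [← Spec.map_comp, ← CommRingCat.ofHom_comp, ← Spec.map_comp, ← CommRingCat.ofHom_comp]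
      congr 2
      ext x
      simp [ev, Algebra.ofId_apply]
    have sq : IsPullback (Spec.map (CommRingCat.ofHom (Algebra.TensorProduct.includeRight (R := k) (A := A) (B := B)).toRingHom))
        (Spec.map (CommRingCat.ofHom (algebraMap A (A ⊗[k] B)))) (Spec.map (CommRingCat.ofHom (algebraMap k B)))
        (Spec.map (CommRingCat.ofHom (algebraMap k A))) :=
      (isPullback_SpecMap_of_isPushout _ _ _ _ (CommRingCat.isPushout_tensorProduct k A B)).flip
    refine El.of_factor _ _ _ sq j t t' ?_ ?_ s hs1 _ _ ?_ (hevA β) ?_ (hevA β')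
    · rw [← Category.assoc, htj]; exact hβid β
    · rw [← Category.assoc, htj']; exact hβid β'
    · rw [htj]; exact hevB β
    · rw [htj']; exact hevB β'

/-- Every point of the fibre has a connected open neighbourhood contained in an affine open. -/
theorem exists_good_nhd [LocallyOfFiniteType f] (v : Fib α ρ f) :
    ∃ U V : (Fib α ρ f).Opens, IsAffineOpen U ∧ V ≤ U ∧ ConnectedSpace V ∧ v ∈ V := by
  have : IsLocallyNoetherian (Fib α ρ f) := LocallyOfFiniteType.isLocallyNoetherian (pullback.snd f _)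
  have : LocallyConnectedSpace (Fib α ρ f) :=
    Groth.Agent.Sga3C.LocConn.locallyConnectedSpace_of_isLocallyNoetherian _
  obtain ⟨U, hU, hvU, -⟩ := exists_isAffineOpen_mem_and_subset (x := v) (U := ⊤) trivial
  refine ⟨U, ⟨connectedComponentIn (U : Set (Fib α ρ f)) v, U.isOpen.connectedComponentIn⟩, hU,
    connectedComponentIn_subset _ _, ?_, mem_connectedComponentIn hvU⟩
  exact isConnected_iff_connectedSpace.mp (isConnected_connectedComponentIn_iff.mpr hvU)

/-- Nonempty open subsets of the fibre contain `k`-points, `k` algebraically closed. -/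
theorem exists_pt [IsAlgClosed k] [LocallyOfFiniteType f] (O : Set (Fib α ρ f)) (hO : IsOpen O) (hne : O.Nonempty) :
    ∃ w : Spec (CommRingCat.of k) ⟶ Fib α ρ f, w ≫ pullback.snd _ _ = 𝟙 _ ∧ w (IsLocalRing.closedPoint k) ∈ O := by
  have : JacobsonSpace (Fib α ρ f) := LocallyOfFiniteType.jacobsonSpace (pullback.snd f _)
  obtain ⟨x, hx, hxc⟩ := nonempty_inter_closedPoints hne hO.isLocallyClosed
  have hxc' : IsClosed {x} := hxc
  refine ⟨pointOfClosedPoint (pullback.snd f _) x hxc', pointOfClosedPoint_comp _ _ _, ?_⟩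
  have := pointOfClosedPoint_apply (pullback.snd f (Spec.map (CommRingCat.ofHom (α.toRingHom.comp ρ)))) x hxc'
    (IsLocalRing.closedPoint k)
  exact (congrArg (· ∈ O) this).mpr hx

/-- The main statement for local algebras: points whose reductions lie in the same connected component of the fibre
are related. -/
theorem rel_of_mem_connectedComponent [IsAlgClosed k] [IsLocalRing A] (hα : IsNilpotent (RingHom.ker α.toRingHom))
    [Smooth f] (y y' : Spec (CommRingCat.of A) ⟶ X) (hy : y ≫ f = Spec.map (CommRingCat.ofHom ρ))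
    (hy' : y' ≫ f = Spec.map (CommRingCat.ofHom ρ)) (w w' : Spec (CommRingCat.of k) ⟶ Fib α ρ f)
    (h : IsRed α ρ f y w) (h' : IsRed α ρ f y' w')
    (hc : w' (IsLocalRing.closedPoint k) ∈ connectedComponent (w (IsLocalRing.closedPoint k))) :
    Rel (Spec.map (CommRingCat.ofHom (algebraMap k A))) (Spec.map (CommRingCat.ofHom ρ)) f y y' := by
  let E : Set (Fib α ρ f) := {v | ∃ (U V : (Fib α ρ f).Opens) (_ : IsAffineOpen U) (_ : V ≤ U) (_ : ConnectedSpace V)
    (y'' : Spec (CommRingCat.of A) ⟶ X) (w'' : Spec (CommRingCat.of k) ⟶ Fib α ρ f)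
    (_ : y'' ≫ f = Spec.map (CommRingCat.ofHom ρ)), v ∈ V ∧ IsRed α ρ f y'' w'' ∧
      w'' (IsLocalRing.closedPoint k) ∈ V ∧
      Rel (Spec.map (CommRingCat.ofHom (algebraMap k A))) (Spec.map (CommRingCat.ofHom ρ)) f y y''}
  -- transport to another `k`-point
  have htr : ∀ (U V : (Fib α ρ f).Opens) (_ : IsAffineOpen U) (_ : V ≤ U) (_ : ConnectedSpace V)
      (y'' : Spec (CommRingCat.of A) ⟶ X) (w'' w₁ : Spec (CommRingCat.of k) ⟶ Fib α ρ f)
      (_ : y'' ≫ f = Spec.map (CommRingCat.ofHom ρ)) (_ : IsRed α ρ f y'' w'')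
      (_ : w'' (IsLocalRing.closedPoint k) ∈ V) (_ : w₁ ≫ pullback.snd _ _ = 𝟙 _)
      (_ : w₁ (IsLocalRing.closedPoint k) ∈ V),
      ∃ y₁ : Spec (CommRingCat.of A) ⟶ X, y₁ ≫ f = Spec.map (CommRingCat.ofHom ρ) ∧ IsRed α ρ f y₁ w₁ ∧
        Rel (Spec.map (CommRingCat.ofHom (algebraMap k A))) (Spec.map (CommRingCat.ofHom ρ)) f y'' y₁ := by
    intro U V hU hVU hV y'' w'' w₁ hy'' hr hw'' hw₁ hw₁V
    obtain ⟨z, z', hz, hz', hel⟩ := transport α ρ f hα U V hU hVU hV w'' w₁ hr.1 hw₁ hw'' hw₁V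
    exact ⟨z', hel.right_over, hz', (rel_of_isRed α ρ f hα y'' z hy'' hel.left_over w'' hr hz).trans
      (Rel.of_el hel)⟩
  have hEo : IsOpen E := by
    rw [isOpen_iff_forall_mem_open]
    rintro v ⟨U, V, hU, hVU, hV, y'', w'', hy'', hv, h1, h2, h3⟩
    exact ⟨V, fun v' hv' => ⟨U, V, hU, hVU, hV, y'', w'', hy'', hv', h1, h2, h3⟩, V.isOpen, hv⟩
  have hEc : IsClosed E := by
    rw [← isOpen_compl_iff, isOpen_iff_forall_mem_open]
    intro v hv
    obtain ⟨U, V, hU, hVU, hV, hvV⟩ := exists_good_nhd α ρ f v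
    refine ⟨V, fun v' hv' hE => hv ?_, V.isOpen, hvV⟩
    obtain ⟨U', V', hU', hVU', hV', y'', w'', hy'', hv'V', h1, h2, h3⟩ := hE
    obtain ⟨w₁, hw₁, hw₁V, hw₁V'⟩ := exists_pt α ρ f ((V : Set (Fib α ρ f)) ∩ V') (V.isOpen.inter V'.isOpen)
      ⟨v', hv', hv'V'⟩
    obtain ⟨y₁, hy₁, hr₁, hrel⟩ := htr U' V' hU' hVU' hV' y'' w'' w₁ hy'' h1 h2 hw₁ hw₁V'
    exact ⟨U, V, hU, hVU, hV, y₁, w₁, hy₁, hvV, hr₁, hw₁V, h3.trans hrel⟩
  have hwE : w (IsLocalRing.closedPoint k) ∈ E := by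
    obtain ⟨U, V, hU, hVU, hV, hvV⟩ := exists_good_nhd α ρ f (w (IsLocalRing.closedPoint k))
    exact ⟨U, V, hU, hVU, hV, y, w, hy, hvV, h, hvV, Rel.refl _⟩
  have hsub : connectedComponent (w (IsLocalRing.closedPoint k)) ⊆ E :=
    IsClopen.connectedComponent_subset ⟨hEc, hEo⟩ hwE
  obtain ⟨U, V, hU, hVU, hV, y'', w'', hy'', hv, h1, h2, h3⟩ := hsub hc
  obtain ⟨y₁, hy₁, hr₁, hrel⟩ := htr U V hU hVU hV y'' w'' w' hy'' h1 h2 h'.1 hv
  exact (h3.trans hrel).trans (rel_of_isRed α ρ f hα y₁ y' hy₁ hy' w' hr₁ h')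

end K487.Comp
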