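import Mathlib.RingTheory.IntegralDomain
import Mathlib.RingTheory.Polynomial.Cyclotomic.Roots
import Mathlib.GroupTheory.QuotientGroup.Basic

/-!
# Cyclic component groups: abstract lemma
-/

set_option autoImplicit false

namespace K487.CycAbs

/-- If `Γ` embeds in a domain and `Γ₀` is `n`-divisible then the `n`-torsion of `Γ / Γ₀` is cyclic. -/
theorem exists_gen {Γ D : Type*} [CommGroup Γ] [CommRing D] [IsDomain D] (Γ₀ : Subgroup Γ) (φ : Γ →* D)
    (hφ : Function.Injective φ) (n : ℕ) (hn : 0 < n) (hdiv : ∀ h ∈ Γ₀, ∃ h' ∈ Γ₀, h' ^ n = h) :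
    ∃ y₀ : Γ, ∀ x : Γ, x ^ n ∈ Γ₀ → ∃ m : ℕ, x * (y₀ ^ m)⁻¹ ∈ Γ₀ := by
  classical
  let T : Subgroup Γ := (powMonoidHom n : Γ →* Γ).ker
  have hT : ∀ x : Γ, x ∈ T ↔ x ^ n = 1 := fun x => MonoidHom.mem_ker
  have hfin : Finite T := by
    have hne : Polynomial.X ^ n - (1 : Polynomial D) ≠ 0 := Polynomial.X_pow_sub_C_ne_zero hn 1
    let f : T → {d : D // d ∈ (Polynomial.X ^ n - (1 : Polynomial D)).roots.toFinset} := fun t =>
      ⟨φ t, by
        rw [Multiset.mem_toFinset, Polynomial.mem_roots hne, Polynomial.IsRoot.def, Polynomial.eval_sub,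
          Polynomial.eval_pow, Polynomial.eval_X, Polynomial.eval_one, ← map_pow, (hT t).mp t.2, map_one, sub_self]⟩
    refine Finite.of_injective f ?_
    intro a b hab
    have h1 : φ a = φ b := congrArg Subtype.val hab
    exact Subtype.ext (hφ h1)
  have hcyc : IsCyclic T := isCyclic_of_injective_ringHom (φ.comp T.subtype)
    (hφ.comp Subtype.val_injective)
  obtain ⟨y₀, hy₀⟩ := hcyc.exists_monoid_generator
  refine ⟨y₀, fun x hx => ?_⟩
  obtain ⟨h, hh, hh'⟩ := hdiv _ hx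
  have h1 : x * h⁻¹ ∈ T := by
    rw [hT, mul_pow, inv_pow, hh', mul_inv_cancel]
  obtain ⟨m, hm⟩ := hy₀ ⟨x * h⁻¹, h1⟩
  refine ⟨m, ?_⟩
  have h2 : (y₀ : Γ) ^ m = x * h⁻¹ := by
    have := congrArg Subtype.val hm
    simpa using this
  rw [h2, mul_inv, inv_inv, mul_inv_cancel_left]
  exact hh

end K487.CycAbs
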