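import Groth.Agent.Neron.K487.CycModel

/-!
# The component group of an affine model of the multiplicative group
-/

set_option autoImplicit false
universe u

open CategoryTheory CategoryTheory.Limits AlgebraicGeometry MonObj
open MonoidalCategory CartesianMonoidalCategory

namespace K487.CycFin

open K487.AlgPts K487.CycModel Groth.Agent.Sga7.H756.DvrPt

theorem henselianLocalRing (R : Type u) [CommRing R] [IsLocalRing R] [IsAdicComplete (IsLocalRing.maximalIdeal R) R] :
    HenselianLocalRing R where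
  is_henselian f hf a₀ h₁ h₂ := by
    obtain ⟨a, ha, h⟩ := HenselianRing.is_henselian (I := IsLocalRing.maximalIdeal R) f hf a₀ h₁ (h₂.map _)
    exact ⟨a, ha, h⟩

theorem pow_mem {k : Type u} [Field k] (G : Over (Spec (CommRingCat.of k))) [GrpObj G] [IsCommMonObj G]
    (x y : 𝟙_ (Over (Spec (CommRingCat.of k))) ⟶ G)
    (h : y.left.base (IsLocalRing.closedPoint k) ∈ connectedComponent (x.left.base (IsLocalRing.closedPoint k)))
    (n : ℕ) : (y ^ n).left.base (IsLocalRing.closedPoint k) ∈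
      connectedComponent ((x ^ n).left.base (IsLocalRing.closedPoint k)) := by
  rw [mem_connectedComponent_iff] at h ⊢
  have h5 : (x * y⁻¹) ^ n = x ^ n * (y⁻¹) ^ n := _root_.mul_pow _ _ _
  rw [← inv_pow, ← h5]
  exact (unitComp G).pow_mem h _

variable {R : Type u} [CommRing R] [IsDomain R] [IsDiscreteValuationRing R] {K : Type u} [Field K] [Algebra R K]
  [IsFractionRing R K]

variable (G : Over (Spec (CommRingCat.of R))) [GrpObj G] [Smooth G.hom] [IsSeparated G.hom] [QuasiCompact G.hom]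
    (e : Red.bc (jK R K) G ≅ Red.Gm (Spec (CommRingCat.of K))) [IsMonHom e.hom]

include e in
theorem exists_char_zero (hR : EtCoh.IsStrictlyHenselianLocalRing R) [CharZero (IsLocalRing.ResidueField R)] :
    ∃ x₀ : 𝟙_ (Over (Spec (CommRingCat.of (IsLocalRing.ResidueField R)))) ⟶ Red.bc (κ R) G,
      ∀ x : 𝟙_ (Over (Spec (CommRingCat.of (IsLocalRing.ResidueField R)))) ⟶ Red.bc (κ R) G,
        ∃ m : ℕ, (x₀ ^ m).left.base (IsLocalRing.closedPoint (IsLocalRing.ResidueField R)) ∈
          connectedComponent (x.left.base (IsLocalRing.closedPoint (IsLocalRing.ResidueField R))) := by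
  have hc := isCommMonObj G e
  have hfin := finite_quotient G
  let n := Nat.card ((𝟙_ (Over (Spec (CommRingCat.of R))) ⟶ G) ⧸ unitComp G)
  have hn : 0 < n := Nat.card_pos
  have hnR : IsUnit (n : R) := by
    rw [← IsLocalRing.residue_ne_zero_iff_isUnit, map_natCast]
    exact_mod_cast hn.ne'
  have hpow : ∀ x : 𝟙_ (Over (Spec (CommRingCat.of R))) ⟶ G, x ^ n ∈ unitComp G := by
    intro x
    rw [← QuotientGroup.eq_one_iff, QuotientGroup.mk_pow]
    exact pow_card_eq_one'
  obtain ⟨y₀, hy₀⟩ := exists_gen G e hR n hn hnR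
  refine ⟨red G y₀, fun x => ?_⟩
  obtain ⟨y, hy⟩ := exists_red_mem G hR x
  obtain ⟨m, hm⟩ := hy₀ y (hpow y)
  refine ⟨m, ?_⟩
  rw [← map_pow, ← connectedComponent_eq hy]
  exact (mem_iff G y (y₀ ^ m)).mpr hm

include e in
theorem exists_char_p (hR : EtCoh.IsStrictlyHenselianLocalRing R) (p : ℕ) [hp : Fact p.Prime]
    [CharP (IsLocalRing.ResidueField R) p] :
    ∃ x₀ : 𝟙_ (Over (Spec (CommRingCat.of (IsLocalRing.ResidueField R)))) ⟶ Red.bc (κ R) G,
      ∀ x : 𝟙_ (Over (Spec (CommRingCat.of (IsLocalRing.ResidueField R)))) ⟶ Red.bc (κ R) G,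
        ∃ e₁ m : ℕ, (x ^ (p ^ e₁)).left.base (IsLocalRing.closedPoint (IsLocalRing.ResidueField R)) ∈
          connectedComponent ((x₀ ^ m).left.base (IsLocalRing.closedPoint (IsLocalRing.ResidueField R))) := by
  have hc := isCommMonObj G e
  have hfin := finite_quotient G
  let N := Nat.card ((𝟙_ (Over (Spec (CommRingCat.of R))) ⟶ G) ⧸ unitComp G)
  have hN : N ≠ 0 := Nat.card_pos.ne'
  obtain ⟨e₁, n, hpn, hNn⟩ := Nat.exists_eq_pow_mul_and_not_dvd hN p hp.out.ne_one
  have hn : 0 < n := Nat.pos_of_ne_zero (fun h => hpn (h ▸ dvd_zero p))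
  have hnR : IsUnit (n : R) := by
    rw [← IsLocalRing.residue_ne_zero_iff_isUnit, map_natCast]
    intro h0
    rw [CharP.cast_eq_zero_iff (IsLocalRing.ResidueField R) p] at h0
    exact hpn h0
  have hpow : ∀ x : 𝟙_ (Over (Spec (CommRingCat.of R))) ⟶ G, (x ^ (p ^ e₁)) ^ n ∈ unitComp G := by
    intro x
    rw [← pow_mul, ← hNn, ← QuotientGroup.eq_one_iff, QuotientGroup.mk_pow]
    exact pow_card_eq_one'
  obtain ⟨y₀, hy₀⟩ := exists_gen G e hR n hn hnR
  refine ⟨red G y₀, fun x => ?_⟩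
  obtain ⟨y, hy⟩ := exists_red_mem G hR x
  obtain ⟨m, hm⟩ := hy₀ (y ^ (p ^ e₁)) (hpow y)
  refine ⟨e₁, m, ?_⟩
  have h1 : (red G (y ^ (p ^ e₁))).left.base (IsLocalRing.closedPoint (IsLocalRing.ResidueField R)) ∈
      connectedComponent ((red G (y₀ ^ m)).left.base (IsLocalRing.closedPoint (IsLocalRing.ResidueField R))) := by
    rw [mem_iff]
    have := (unitComp G).inv_mem hm
    rwa [_root_.mul_inv_rev, inv_inv] at this
  have h4 := pow_mem (Red.bc (κ R) G) _ _ hy (p ^ e₁)
  rw [map_pow] at h1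
  rw [map_pow] at h1
  rw [connectedComponent_eq h1]
  exact h4

end K487.CycFin
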