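import Groth.Agent.Sga7.H617.PowFib
import Groth.Agent.Sga7.H756.DvrPt
import Groth.Agent.Sga3.H811.Pts
import Groth.Agent.Neron.K487.AlgPts
import Groth.Agent.Neron.K487.CycAbs

/-!
# Component groups of models of the multiplicative group
-/

set_option autoImplicit false
universe u

open CategoryTheory CategoryTheory.Limits AlgebraicGeometry MonObj
open MonoidalCategory CartesianMonoidalCategory

namespace K487.CycModel

open Groth.Agent.Sga7.H750.SecComp Groth.Agent.Sga7.H751.SecRoot K487.AlgPts Groth.Agent.Sga7.H756.DvrPt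
open Groth.Agent.Sga7.H756.GenBase

variable {R : Type u} [CommRing R] [IsDomain R] [IsDiscreteValuationRing R] {K : Type u} [Field K] [Algebra R K]
  [IsFractionRing R K]

section model

variable (G : Over (Spec (CommRingCat.of R))) [GrpObj G] [Smooth G.hom] [IsSeparated G.hom]
    (e : Red.bc (jK R K) G ≅ Red.Gm (Spec (CommRingCat.of K))) [IsMonHom e.hom]

include e in
theorem isCommMonObj : IsCommMonObj G := by
  have hfl : Flat G.hom := inferInstance
  have key : ∀ {Y : Over (Spec (CommRingCat.of K))} (a b : Y ⟶ Red.bc (jK R K) G), a * b = b * a := by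
    intro Y a b
    have h1 : (a * b) ≫ e.hom = (a ≫ e.hom) * (b ≫ e.hom) := MonObj.mul_comp _ _ _
    have h2 : (b * a) ≫ e.hom = (b ≫ e.hom) * (a ≫ e.hom) := MonObj.mul_comp _ _ _
    rw [← cancel_mono e.hom, h1, h2]
    exact _root_.mul_comm (a ≫ e.hom) (b ≫ e.hom)
  exact Groth.Agent.Sga7.H617.PowFib.isCommMonObj_of_bc (jK R K) (fun a b => key a b)

/-- The units defined by sections of a model of the multiplicative group. -/
noncomputable def unitHom : (𝟙_ (Over (Spec (CommRingCat.of R))) ⟶ G) →*
    Γ(((Over.pullback (jK R K)).obj (𝟙_ (Over (Spec (CommRingCat.of R))))).left, ⊤) where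
  toFun x := Red.gmFn ((Over.pullback (jK R K)).map x ≫ e.hom)
  map_one' := by
    have h1 : (Over.pullback (jK R K)).map (1 : 𝟙_ (Over (Spec (CommRingCat.of R))) ⟶ G) =
      (1 : Red.bc (jK R K) (𝟙_ (Over (Spec (CommRingCat.of R)))) ⟶ Red.bc (jK R K) G) := Functor.map_one _
    have h2 : (1 : Red.bc (jK R K) (𝟙_ (Over (Spec (CommRingCat.of R)))) ⟶ Red.bc (jK R K) G) ≫ e.hom = 1 :=
      MonObj.one_comp _
    rw [h1, h2, Groth.Agent.Sga3.H811.Pts.gmFn_one]
  map_mul' x y := by
    have h1 : (Over.pullback (jK R K)).map (x * y) =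
      ((Over.pullback (jK R K)).map x : Red.bc (jK R K) (𝟙_ (Over (Spec (CommRingCat.of R)))) ⟶ Red.bc (jK R K) G) *
        (Over.pullback (jK R K)).map y := Functor.map_mul _ _ _
    have h2 : ((((Over.pullback (jK R K)).map x : Red.bc (jK R K) (𝟙_ (Over (Spec (CommRingCat.of R)))) ⟶
        Red.bc (jK R K) G)) * (Over.pullback (jK R K)).map y) ≫ e.hom =
        ((Over.pullback (jK R K)).map x ≫ e.hom) * ((Over.pullback (jK R K)).map y ≫ e.hom) :=
      MonObj.mul_comp _ _ _
    rw [h1, h2, Groth.Agent.Sga3.H811.Pts.gmFn_mul]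

theorem unitHom_injective : Function.Injective (unitHom G e) := by
  intro x y h
  have h1 : (Over.pullback (jK R K)).map x ≫ e.hom = (Over.pullback (jK R K)).map y ≫ e.hom :=
    Groth.Agent.Sga3.H811.Pts.gmFn_injective _ h
  rw [cancel_mono] at h1
  have hfl : Flat (𝟙_ (Over (Spec (CommRingCat.of R)))).hom := inferInstanceAs (Flat (𝟙 (Spec (CommRingCat.of R))))
  exact ext_of_flat (jK R K) h1

theorem isDomain_sections :
    IsDomain Γ(((Over.pullback (jK R K)).obj (𝟙_ (Over (Spec (CommRingCat.of R))))).left, ⊤) := by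
  have h1 : IsIso (pullback.snd (𝟙 (Spec (CommRingCat.of R))) (jK R K)) := inferInstance
  have h2 : IsIntegral (Spec (CommRingCat.of K)) := inferInstance
  have h3 : IsIntegral (pullback (𝟙 (Spec (CommRingCat.of R))) (jK R K)) := by
    have : Nonempty ↥(pullback (𝟙 (Spec (CommRingCat.of R))) (jK R K)) :=
      ⟨(inv (pullback.snd (𝟙 (Spec (CommRingCat.of R))) (jK R K))) (IsLocalRing.closedPoint K)⟩
    exact isIntegral_of_isOpenImmersion (pullback.snd (𝟙 (Spec (CommRingCat.of R))) (jK R K))
  have h4 : IsDomain Γ(pullback (𝟙 (Spec (CommRingCat.of R))) (jK R K), ⊤) := inferInstance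
  exact h4

include e in
/-- The `n`-torsion of the component group is cyclic. -/
theorem exists_gen [QuasiCompact G.hom] (hR : EtCoh.IsStrictlyHenselianLocalRing R) (n : ℕ) (hn : 0 < n) (hnR : IsUnit (n : R)) :
    ∃ y₀ : 𝟙_ (Over (Spec (CommRingCat.of R))) ⟶ G, ∀ x : 𝟙_ (Over (Spec (CommRingCat.of R))) ⟶ G,
      x ^ n ∈ unitComp G → ∃ m : ℕ, x * (y₀ ^ m)⁻¹ ∈ unitComp G := by
  have hc := isCommMonObj G e
  have hD := isDomain_sections (R := R) (K := K)
  refine CycAbs.exists_gen (unitComp G) (unitHom G e) (unitHom_injective G e) n hn (fun h hh => ?_)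
  have het : Etale (𝟙 G ^ n).left := by
    refine Groth.Agent.Sga7.H751.PowEtale.etale_pow G n (fun s => ?_)
    have h1 : IsUnit (n : Γ(Spec (CommRingCat.of R), ⊤)) := by
      have := hnR.map (Scheme.ΓSpecIso (CommRingCat.of R)).inv.hom
      rwa [map_natCast] at this
    have h2 := h1.map ((Spec (CommRingCat.of R)).evaluation ⊤ s trivial).hom
    rw [map_natCast] at h2
    exact h2.ne_zero
  exact exists_root_mem_secUnitComp G hR n h hh

end model

section special

variable (R) in
/-- The closed point. -/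
noncomputable abbrev κ : Spec (CommRingCat.of (IsLocalRing.ResidueField R)) ⟶ Spec (CommRingCat.of R) :=
  Spec.map (CommRingCat.ofHom (IsLocalRing.residue R))

variable (G : Over (Spec (CommRingCat.of R))) [GrpObj G]

/-- Restriction of a section to the special fibre. -/
noncomputable def red : (𝟙_ (Over (Spec (CommRingCat.of R))) ⟶ G) →*
    (𝟙_ (Over (Spec (CommRingCat.of (IsLocalRing.ResidueField R)))) ⟶ Red.bc (κ R) G) where
  toFun x := Functor.LaxMonoidal.ε (Over.pullback (κ R)) ≫ (Over.pullback (κ R)).map x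
  map_one' := by
    have h1 : (Over.pullback (κ R)).map (1 : 𝟙_ (Over (Spec (CommRingCat.of R))) ⟶ G) =
      (1 : Red.bc (κ R) (𝟙_ (Over (Spec (CommRingCat.of R)))) ⟶ Red.bc (κ R) G) := Functor.map_one _
    rw [h1]
    exact MonObj.comp_one _
  map_mul' x y := by
    have h1 : (Over.pullback (κ R)).map (x * y) =
      ((Over.pullback (κ R)).map x : Red.bc (κ R) (𝟙_ (Over (Spec (CommRingCat.of R)))) ⟶ Red.bc (κ R) G) *
        (Over.pullback (κ R)).map y := Functor.map_mul _ _ _
    rw [h1]
    exact MonObj.comp_mul _ _ _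

omit [GrpObj G] in
theorem red_left_fst (x : 𝟙_ (Over (Spec (CommRingCat.of R))) ⟶ G) :
    (Functor.LaxMonoidal.ε (Over.pullback (κ R)) ≫ (Over.pullback (κ R)).map x).left ≫ pullback.fst G.hom (κ R) =
      κ R ≫ x.left := by
  have h1 : ((Over.pullback (κ R)).map x).left ≫ pullback.fst G.hom (κ R) =
      pullback.fst (𝟙_ (Over (Spec (CommRingCat.of R)))).hom (κ R) ≫ x.left := pullback.lift_fst _ _ _
  have h2 : (Functor.LaxMonoidal.ε (Over.pullback (κ R))).left ≫
      pullback.snd (𝟙_ (Over (Spec (CommRingCat.of R)))).hom (κ R) = 𝟙 _ :=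
    Over.w (Functor.LaxMonoidal.ε (Over.pullback (κ R)))
  have h3 : pullback.fst (𝟙_ (Over (Spec (CommRingCat.of R)))).hom (κ R) =
      pullback.snd (𝟙_ (Over (Spec (CommRingCat.of R)))).hom (κ R) ≫ κ R :=
    (Category.comp_id _).symm.trans pullback.condition
  rw [Over.comp_left, Category.assoc, h1, h3, ← Category.assoc, ← Category.assoc, h2, Category.id_comp]

omit [GrpObj G] in
theorem apply_eq (x : 𝟙_ (Over (Spec (CommRingCat.of R))) ⟶ G)
    (y : 𝟙_ (Over (Spec (CommRingCat.of (IsLocalRing.ResidueField R)))) ⟶ Red.bc (κ R) G)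
    (h : y.left ≫ pullback.fst G.hom (κ R) = κ R ≫ x.left) :
    pullback.fst G.hom (κ R) (y.left (IsLocalRing.closedPoint (IsLocalRing.ResidueField R))) =
      x.left (IsLocalRing.closedPoint R) := by
  have h1 : (y.left ≫ pullback.fst G.hom (κ R)) (IsLocalRing.closedPoint (IsLocalRing.ResidueField R)) =
      (κ R ≫ x.left) (IsLocalRing.closedPoint (IsLocalRing.ResidueField R)) := by rw [h]
  refine (Scheme.Hom.comp_apply _ _ _).symm.trans (h1.trans ((Scheme.Hom.comp_apply _ _ _).trans ?_))
  congr 1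
  exact IsLocalRing.comap_closedPoint (IsLocalRing.residue R)

omit [GrpObj G] in
theorem range_fst_eq : Set.range (pullback.fst G.hom (κ R)) = SGA7.specialFibreSet R G := by
  let k := IsLocalRing.ResidueField R
  have hs : ∀ z, κ R z = IsLocalRing.closedPoint R := by
    intro z
    have hz : z = IsLocalRing.closedPoint k := Subsingleton.elim (α := PrimeSpectrum k) _ _
    rw [hz]
    exact IsLocalRing.comap_closedPoint (IsLocalRing.residue R)
  change Set.range (pullback.fst G.hom (κ R)) = G.hom ⁻¹' {IsLocalRing.closedPoint R}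
  rw [Scheme.Pullback.range_fst]
  congr 1
  ext z
  constructor
  · rintro ⟨w, rfl⟩
    exact hs w
  · rintro rfl
    exact ⟨IsLocalRing.closedPoint k, hs _⟩

omit [GrpObj G] in
theorem isEmbedding_fst : Topology.IsEmbedding (pullback.fst G.hom (κ R)) := by
  have hsc : IsClosedImmersion (κ R) := IsClosedImmersion.spec_of_surjective _ Ideal.Quotient.mk_surjective
  exact (pullback.fst G.hom (κ R)).isClosedEmbedding.isEmbedding

theorem secComp_eq_image (x : 𝟙_ (Over (Spec (CommRingCat.of R))) ⟶ G) : SGA7.secComp R G x =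
      pullback.fst G.hom (κ R) '' connectedComponent
        ((red G x).left (IsLocalRing.closedPoint (IsLocalRing.ResidueField R))) := by
  rw [SGA7.secComp, ← range_fst_eq]
  have h1 := connectedComponentIn_range (isEmbedding_fst G)
    ((red G x).left (IsLocalRing.closedPoint (IsLocalRing.ResidueField R)))
  rw [← h1]
  congr 1
  exact (apply_eq G x (red G x) (red_left_fst G x)).symm

theorem mem_iff (x y : 𝟙_ (Over (Spec (CommRingCat.of R))) ⟶ G) :
    (red G y).left.base (IsLocalRing.closedPoint (IsLocalRing.ResidueField R)) ∈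
      connectedComponent ((red G x).left.base (IsLocalRing.closedPoint (IsLocalRing.ResidueField R))) ↔
      x * y⁻¹ ∈ unitComp G := by
  rw [mem_unitComp, ← secComp_eq_iff, secComp_eq_image, secComp_eq_image]
  constructor
  · intro h
    rw [connectedComponent_eq h]
  · intro h
    rw [(isEmbedding_fst G).injective.image_injective h]
    exact mem_connectedComponent

/-- Every component of the special fibre contains the reduction of a section. -/
theorem exists_red_mem [Smooth G.hom] [QuasiCompact G.hom] (hR : EtCoh.IsStrictlyHenselianLocalRing R)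
    (x : 𝟙_ (Over (Spec (CommRingCat.of (IsLocalRing.ResidueField R)))) ⟶ Red.bc (κ R) G) :
    ∃ y : 𝟙_ (Over (Spec (CommRingCat.of R))) ⟶ G,
      x.left.base (IsLocalRing.closedPoint (IsLocalRing.ResidueField R)) ∈
        connectedComponent ((red G y).left.base (IsLocalRing.closedPoint (IsLocalRing.ResidueField R))) := by
  obtain ⟨y, hy⟩ := exists_section_mem_secComp G hR
    (pullback.fst G.hom (κ R) (x.left (IsLocalRing.closedPoint (IsLocalRing.ResidueField R))))
    (by rw [← range_fst_eq]; exact ⟨_, rfl⟩)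
  rw [secComp_eq_image] at hy
  obtain ⟨v, hv, hv'⟩ := hy
  refine ⟨y, ?_⟩
  rw [← (isEmbedding_fst G).injective hv']
  exact hv

end special

end K487.CycModel
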