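import Groth.Agent.Sga7.H740.MulGeo
import Groth.Agent.Sga7.H301.NoGa
import Groth.Agent.Sga3.H219.NeutralK
import Groth.Agent.Neron.K487.AlgPts

/-!
# Divisibility of the unit component of groups of unipotent rank zero
-/

set_option autoImplicit false
universe u

open CategoryTheory CategoryTheory.Limits AlgebraicGeometry MonObj
open MonoidalCategory CartesianMonoidalCategory

namespace K487.Divis

open Groth.Agent.Sga7.H750.SecComp Groth.Agent.Sga7.H751.SecRoot K487.AlgPts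

/-- Splitting if the subgroup is divisible. -/
theorem exists_split_of_div {Γ : Type*} [CommGroup Γ] (Γ₀ : Subgroup Γ) [Finite (Γ ⧸ Γ₀)]
    (hdiv : ∀ m : ℕ, 0 < m → ∀ h ∈ Γ₀, ∃ h' ∈ Γ₀, h' ^ m = h) (x : Γ) :
    ∃ y, x * y⁻¹ ∈ Γ₀ ∧ ∀ n : ℕ, y ^ n = 1 ↔ x ^ n ∈ Γ₀ := by
  let d := orderOf (x : Γ ⧸ Γ₀)
  have hd : 0 < d := orderOf_pos _
  have hxd : ∀ n : ℕ, x ^ n ∈ Γ₀ ↔ d ∣ n := by
    intro n
    rw [← QuotientGroup.eq_one_iff, QuotientGroup.mk_pow]
    exact orderOf_dvd_iff_pow_eq_one.symm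
  obtain ⟨h, hh, hh'⟩ := hdiv d hd (x ^ d) ((hxd d).mpr dvd_rfl)
  refine ⟨x * h⁻¹, ?_, fun n => ⟨fun hn => ?_, fun hn => ?_⟩⟩
  · rw [mul_inv, inv_inv, mul_inv_cancel_left]
    exact hh
  · rw [_root_.mul_pow, inv_pow, mul_inv_eq_one] at hn
    rw [hn]
    exact Γ₀.pow_mem hh n
  · obtain ⟨c, rfl⟩ := (hxd n).mp hn
    rw [pow_mul, _root_.mul_pow, inv_pow, hh', mul_inv_cancel, one_pow]

section comm

variable {C : Type*} [Category C] [CartesianMonoidalCategory C] [BraidedCategory C]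

theorem isCommMonObj_of_mono {F G : C} [MonObj F] [MonObj G] [IsCommMonObj G] (i : F ⟶ G) [IsMonHom i] [Mono i] :
    IsCommMonObj F where
  mul_comm := by
    rw [← cancel_mono i, Category.assoc, IsMonHom.mul_hom, ← Category.assoc,
      ← BraidedCategory.braiding_naturality, Category.assoc, IsCommMonObj.mul_comm]

end comm

variable {k : Type u} [Field k] [IsAlgClosed k] (G : Over (Spec (CommRingCat.of k))) [GrpObj G]

theorem exists_root_of_noGa [IsCommMonObj G] [Smooth G.hom] [QuasiCompact G.hom] [IsSeparated G.hom]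
    (hG : ∀ j : Red.Ga (Spec (CommRingCat.of k)) ⟶ G, IsMonHom j → IsClosedImmersion j.left → False)
    (m : ℕ) (hm : 0 < m) (h : 𝟙_ (Over (Spec (CommRingCat.of k))) ⟶ G) (hh : h ∈ unitComp G) :
    ∃ h' ∈ unitComp G, h' ^ m = h := by
  obtain ⟨U, _, u, hu, hcl, hop, hsm, hqc, hconn, hr⟩ := Groth.Agent.Sga3.H219.NeutralK.exists_neutral G
  have hmono : Mono u := by
    have : Mono u.left := inferInstance
    exact Over.mono_of_mono_left u
  have hcomm : IsCommMonObj U := isCommMonObj_of_mono u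
  have hsep : IsSeparated U.hom := by
    rw [← Over.w u]
    infer_instance
  have hU : ∀ j : Red.Ga (Spec (CommRingCat.of k)) ⟶ U, IsMonHom j → IsClosedImmersion j.left → False := by
    intro j hj hjc
    refine hG (j ≫ u) inferInstance ?_
    rw [Over.comp_left]
    infer_instance
  have hsurj : Surjective (𝟙 U ^ m : U ⟶ U).left :=
    ((Groth.Agent.Sga7.H740.MulGeo.tfae U m hm).out 3 1).mp (Or.inr hU)
  -- lift `h` to `U`
  have hrange : h.left (IsLocalRing.closedPoint k) ∈ Set.range u.left := by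
    rw [hr]
    exact (mem_secUnitComp G h).mp hh
  obtain ⟨h₁, hh₁⟩ := exists_lift_pt U u h hrange
  obtain ⟨h₂, hh₂⟩ := exists_lift_pt U (𝟙 U ^ m) h₁ (hsurj.surj _)
  have hh₂' : h₂ ^ m = h₁ := by
    rw [← hh₂, MonObj.comp_pow, Category.comp_id]
  refine ⟨h₂ ≫ u, ?_, ?_⟩
  · show h₂ ≫ u ∈ SGA7.secUnitComp k G
    rw [mem_secUnitComp]
    have h3 : (h₂ ≫ u).left (IsLocalRing.closedPoint k) ∈ Set.range u.left := by
      rw [Over.comp_left]
      exact ⟨_, (Scheme.Hom.comp_apply _ _ _).symm⟩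
    rw [hr] at h3
    exact h3
  · rw [← MonObj.pow_comp, hh₂', hh₁]

end K487.Divis
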