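import Groth.Agent.Neron.K487.Divis

/-!
# Divisibility of the unit component of the special fibre in the case of unipotent rank zero
-/

set_option autoImplicit false
universe u

open CategoryTheory CategoryTheory.Limits AlgebraicGeometry MonObj
open MonoidalCategory CartesianMonoidalCategory

namespace K487.DivisFib

variable {R : Type u} [CommRing R] [IsLocalRing R]

theorem noGa_of_fibres [IsAlgClosed (IsLocalRing.ResidueField R)] (N : Over (Spec (CommRingCat.of R))) [GrpObj N]
    (hss : SGA7.FibresUnipotentRankZero N)
    (j : Red.Ga (Spec (CommRingCat.of (IsLocalRing.ResidueField R))) ⟶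
      Red.bc (Spec.map (CommRingCat.ofHom (IsLocalRing.residue R))) N) (hj : IsMonHom j)
    (hj' : IsClosedImmersion j.left) : False := by
  have hci : IsClosedImmersion (Spec.map (CommRingCat.ofHom (IsLocalRing.residue R))) :=
    IsClosedImmersion.spec_of_surjective _ IsLocalRing.residue_surjective
  have h1 := Groth.Agent.Sga7.H737.RankZeroBC.fibreUnipotentRankZero_bc
    (Spec.map (CommRingCat.ofHom (IsLocalRing.residue R))) N
    (IsLocalRing.closedPoint (IsLocalRing.ResidueField R)) (hss _)
  exact Groth.Agent.Sga7.H301.PGrp.NoGa.of_bc (Red.geomPt _) h1 j hj hj'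

section field

variable {k : Type u} [Field k] [IsAlgClosed k] (G : Over (Spec (CommRingCat.of k))) [GrpObj G]

theorem exists_split_noGa [IsCommMonObj G] [Smooth G.hom] [QuasiCompact G.hom] [IsSeparated G.hom]
    (hG : ∀ j : Red.Ga (Spec (CommRingCat.of k)) ⟶ G, IsMonHom j → IsClosedImmersion j.left → False)
    (x : 𝟙_ (Over (Spec (CommRingCat.of k))) ⟶ G) :
    ∃ y : 𝟙_ (Over (Spec (CommRingCat.of k))) ⟶ G,
      y.left.base (IsLocalRing.closedPoint k) ∈ connectedComponent (x.left.base (IsLocalRing.closedPoint k)) ∧
        ∀ n : ℕ, y ^ n = 1 ↔ (x ^ n).left.base (IsLocalRing.closedPoint k) ∈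
          connectedComponent (η[G].left.base (IsLocalRing.closedPoint k)) := by
  have hfin := K487.AlgPts.finite_quotient G
  obtain ⟨y, hy, hy'⟩ := K487.Divis.exists_split_of_div (K487.AlgPts.unitComp G)
    (fun m hm h hh => K487.Divis.exists_root_of_noGa G hG m hm h hh) x
  exact ⟨y, (K487.AlgPts.mem_connectedComponent_iff G x y).mpr hy,
      fun n => (hy' n).trans (K487.AlgPts.mem_secUnitComp G _)⟩

end field

end K487.DivisFib
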