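import Groth.Agent.Neron.K487.Kernel
import Groth.Agent.Sga3C.LocConn
import Mathlib.AlgebraicGeometry.AlgClosed.Basic

/-!
# Points with values in an artinian local algebra over an algebraically closed field whose reductions lie in the same
connected component are related by elementary connections
-/

set_option autoImplicit false
universe u

open CategoryTheory CategoryTheory.Limits AlgebraicGeometry TensorProduct

namespace K487.EStep

open K487.Elem

theorem El.of_factor {P S' X 𝔸 : Scheme.{u}} {a₁ : 𝔸 ⟶ P} {a₂ : 𝔸 ⟶ S'} {f : X ⟶ S'}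
    {C C₀ CA₀ : Scheme.{u}} (c₀ : C₀ ⟶ P) (p₀ : CA₀ ⟶ C₀) (π₀ : CA₀ ⟶ 𝔸) (sq₀ : IsPullback p₀ π₀ c₀ a₁)
    (j : C ⟶ C₀) [ConnectedSpace C] (t t' : P ⟶ C) (ht : t ≫ j ≫ c₀ = 𝟙 P) (ht' : t' ≫ j ≫ c₀ = 𝟙 P)
    (γ : CA₀ ⟶ X) (hγ : γ ≫ f = π₀ ≫ a₂)
    (τ τ' : 𝔸 ⟶ CA₀) (hτ : τ ≫ p₀ = a₁ ≫ t ≫ j) (hτ1 : τ ≫ π₀ = 𝟙 𝔸) (hτ' : τ' ≫ p₀ = a₁ ≫ t' ≫ j)
    (hτ1' : τ' ≫ π₀ = 𝟙 𝔸) : El a₁ a₂ f (τ ≫ γ) (τ' ≫ γ) := by
  have sq : IsPullback (pullback.snd p₀ j) (pullback.fst p₀ j ≫ π₀) (j ≫ c₀) a₁ :=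
    (IsPullback.of_hasPullback p₀ j).paste_horiz sq₀.flip |>.flip
  let σ : 𝔸 ⟶ pullback p₀ j := pullback.lift τ (a₁ ≫ t) (by rw [hτ, Category.assoc])
  let σ' : 𝔸 ⟶ pullback p₀ j := pullback.lift τ' (a₁ ≫ t') (by rw [hτ', Category.assoc])
  have h1 : σ ≫ pullback.fst p₀ j = τ := pullback.lift_fst _ _ _
  have h2 : σ ≫ pullback.snd p₀ j = a₁ ≫ t := pullback.lift_snd _ _ _
  have h1' : σ' ≫ pullback.fst p₀ j = τ' := pullback.lift_fst _ _ _
  have h2' : σ' ≫ pullback.snd p₀ j = a₁ ≫ t' := pullback.lift_snd _ _ _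
  refine El.of_isPullback (j ≫ c₀) _ _ sq t t' ht ht' (pullback.fst p₀ j ≫ γ) ?_ σ σ' h2 ?_ h2' ?_ ?_ ?_
  · rw [Category.assoc, Category.assoc, hγ]
  · rw [reassoc_of% h1, hτ1]
  · rw [reassoc_of% h1', hτ1']
  · rw [reassoc_of% h1]
  · rw [reassoc_of% h1']

section

variable {k A R' : Type u} [Field k] [CommRing A] [Algebra k A] [CommRing R']

/-- The reduction `A ⊗ B → B` along `α : A → k`. -/
noncomputable def redu (α : A →ₐ[k] k) (B : Type u) [CommRing B] [Algebra k B] : A ⊗[k] B →ₐ[k] B :=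
  Algebra.TensorProduct.lift ((Algebra.ofId k B).comp α) (AlgHom.id k B) (fun _ _ => Commute.all _ _)

/-- Evaluation `A ⊗ B → A` along `β : B → k`. -/
noncomputable def ev {B : Type u} [CommRing B] [Algebra k B] (β : B →ₐ[k] k) : A ⊗[k] B →ₐ[k] A :=
  Algebra.TensorProduct.lift (AlgHom.id k A) ((Algebra.ofId k A).comp β) (fun _ _ => Commute.all _ _)

theorem redu_surjective (α : A →ₐ[k] k) (B : Type u) [CommRing B] [Algebra k B] :
    Function.Surjective (redu α B) := fun b => ⟨1 ⊗ₜ b, by simp [redu]⟩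

theorem ker_redu_le (α : A →ₐ[k] k) (B : Type u) [CommRing B] [Algebra k B] :
    RingHom.ker (redu α B).toRingHom ≤
      (RingHom.ker α.toRingHom).map (Algebra.TensorProduct.includeLeft : A →ₐ[k] A ⊗[k] B).toRingHom := by
  have key : ∀ t : A ⊗[k] B, t - 1 ⊗ₜ (redu α B t) ∈
      (RingHom.ker α.toRingHom).map (Algebra.TensorProduct.includeLeft : A →ₐ[k] A ⊗[k] B).toRingHom := by
    intro t
    induction t with
    | zero => simp
    | tmul a b =>
      have e : a ⊗ₜ[k] b - 1 ⊗ₜ (redu α B (a ⊗ₜ b)) = ((a - algebraMap k A (α a)) ⊗ₜ 1) * (1 ⊗ₜ b) := by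
        rw [Algebra.TensorProduct.tmul_mul_tmul, mul_one, one_mul, TensorProduct.sub_tmul]
        congr 1
        simp only [redu, Algebra.TensorProduct.lift_tmul, AlgHom.comp_apply, AlgHom.id_apply]
        rw [Algebra.ofId_apply, Algebra.algebraMap_eq_smul_one, Algebra.algebraMap_eq_smul_one, smul_mul_assoc,
          one_mul, TensorProduct.tmul_smul, TensorProduct.smul_tmul']
      rw [e]
      refine Ideal.mul_mem_right _ _ (Ideal.mem_map_of_mem _ ?_)
      show α (a - algebraMap k A (α a)) = 0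
      rw [map_sub, AlgHom.commutes]; simp
    | add s t hs ht =>
      have e : s + t - 1 ⊗ₜ[k] (redu α B (s + t)) = (s - 1 ⊗ₜ (redu α B s)) + (t - 1 ⊗ₜ (redu α B t)) := by
        rw [map_add, TensorProduct.tmul_add]; ring
      rw [e]; exact Ideal.add_mem _ hs ht
  intro t ht
  have h0 : redu α B t = 0 := ht
  have := key t
  rwa [h0, TensorProduct.tmul_zero, sub_zero] at this

/-- Local lifting: an open piece (or any affine `k`-scheme) mapping to the fibre of `f` at the closed point of `A`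
lifts to a family over `A`. -/
theorem exists_family (α : A →ₐ[k] k) (hα : IsNilpotent (RingHom.ker α.toRingHom)) (ρ : R' →+* A)
    {X : Scheme.{u}} (f : X ⟶ Spec (CommRingCat.of R')) [Smooth f] {B : Type u} [CommRing B] [Algebra k B]
    (v : Spec (CommRingCat.of B) ⟶ X)
    (hv : v ≫ f = Spec.map (CommRingCat.ofHom (algebraMap k B)) ≫ Spec.map (CommRingCat.ofHom (α.toRingHom.comp ρ))) :
    ∃ s : Spec (CommRingCat.of (A ⊗[k] B)) ⟶ X,
      s ≫ f = Spec.map (CommRingCat.ofHom (algebraMap A (A ⊗[k] B))) ≫ Spec.map (CommRingCat.ofHom ρ) ∧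
      ∀ β : B →ₐ[k] k, Spec.map (CommRingCat.ofHom α.toRingHom) ≫ Spec.map (CommRingCat.ofHom (ev (A := A) β).toRingHom) ≫ s =
        Spec.map (CommRingCat.ofHom β.toRingHom) ≫ v := by
  have hnil : IsNilpotent (RingHom.ker (redu α B).toRingHom) := by
    obtain ⟨n, hn⟩ := hα
    refine ⟨n, le_bot_iff.mp ((Ideal.pow_right_mono (ker_redu_le α B) n).trans ?_)⟩
    rw [← Ideal.map_pow, hn]
    exact Ideal.map_bot.le
  obtain ⟨s, hs1, hs2⟩ := SmLift.exists_lift f (redu α B).toRingHom (redu_surjective α B) hnil v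
    (Spec.map (CommRingCat.ofHom (algebraMap A (A ⊗[k] B))) ≫ Spec.map (CommRingCat.ofHom ρ)) (by
      rw [hv, ← Spec.map_comp, ← CommRingCat.ofHom_comp, ← Spec.map_comp, ← CommRingCat.ofHom_comp,
        ← Spec.map_comp, ← CommRingCat.ofHom_comp]
      congr 2
      ext r
      simp [redu, Algebra.ofId_apply])
  refine ⟨s, hs2, fun β => ?_⟩
  rw [← hs1, ← Category.assoc, ← Category.assoc, ← Spec.map_comp, ← CommRingCat.ofHom_comp, ← Spec.map_comp,
    ← CommRingCat.ofHom_comp]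
  congr 3
  have : (α.comp (ev (A := A) β)) = β.comp (redu α B) := by
    ext x <;> simp [redu, ev, Algebra.ofId_apply]
  exact congrArg AlgHom.toRingHom this

end

end K487.EStep
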