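import Mathlib.AlgebraicGeometry.Limits
import Mathlib.AlgebraicGeometry.Morphisms.OpenImmersion
import Mathlib.AlgebraicGeometry.Pullbacks
import Mathlib.Logic.Relation

/-!
# Elementary connections between points with values in a finite scheme

Let `P` be the spectrum of a field, `a₁ : 𝔸 ⟶ P` and `a₂ : 𝔸 ⟶ S'`, and `f : X ⟶ S'`.  Two `S'`-morphisms
`y y' : 𝔸 ⟶ X` are elementarily connected if they are the values at two `P`-points of a connected `P`-scheme `C` of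
an `S'`-morphism `C ×_P 𝔸 ⟶ X`.
-/

set_option autoImplicit false
universe u

open CategoryTheory CategoryTheory.Limits AlgebraicGeometry

namespace K487.Elem

variable {P S' X 𝔸 : Scheme.{u}}

/-- Elementary connection. -/
def El (a₁ : 𝔸 ⟶ P) (a₂ : 𝔸 ⟶ S') (f : X ⟶ S') (y y' : 𝔸 ⟶ X) : Prop :=
  ∃ (C : Scheme.{u}) (c : C ⟶ P) (t t' : P ⟶ C) (γ : pullback c a₁ ⟶ X), ConnectedSpace C ∧ t ≫ c = 𝟙 P ∧
    t' ≫ c = 𝟙 P ∧ γ ≫ f = pullback.snd c a₁ ≫ a₂ ∧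
    (∀ τ : 𝔸 ⟶ pullback c a₁, τ ≫ pullback.fst c a₁ = a₁ ≫ t → τ ≫ pullback.snd c a₁ = 𝟙 𝔸 → τ ≫ γ = y) ∧
    (∀ τ : 𝔸 ⟶ pullback c a₁, τ ≫ pullback.fst c a₁ = a₁ ≫ t' → τ ≫ pullback.snd c a₁ = 𝟙 𝔸 → τ ≫ γ = y')

/-- Constructor of elementary connections from arbitrary pullback squares. -/
theorem El.of_isPullback {a₁ : 𝔸 ⟶ P} {a₂ : 𝔸 ⟶ S'} {f : X ⟶ S'} {y y' : 𝔸 ⟶ X}
    {C CA : Scheme.{u}} (c : C ⟶ P) (p : CA ⟶ C) (π : CA ⟶ 𝔸) (sq : IsPullback p π c a₁) [hC : ConnectedSpace C]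
    (t t' : P ⟶ C) (ht : t ≫ c = 𝟙 P) (ht' : t' ≫ c = 𝟙 P) (γ : CA ⟶ X) (hγ : γ ≫ f = π ≫ a₂)
    (τ τ' : 𝔸 ⟶ CA) (hτ : τ ≫ p = a₁ ≫ t) (hτ1 : τ ≫ π = 𝟙 𝔸) (hτ' : τ' ≫ p = a₁ ≫ t') (hτ1' : τ' ≫ π = 𝟙 𝔸)
    (hy : τ ≫ γ = y) (hy' : τ' ≫ γ = y') : El a₁ a₂ f y y' := by
  refine ⟨C, c, t, t', sq.isoPullback.inv ≫ γ, hC, ht, ht', ?_, ?_, ?_⟩
  · rw [Category.assoc, hγ, ← Category.assoc, sq.isoPullback_inv_snd]
  · intro σ h1 h2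
    rw [← hy, ← Category.assoc]
    congr 1
    refine sq.hom_ext ?_ ?_
    · rw [Category.assoc, sq.isoPullback_inv_fst, h1, hτ]
    · rw [Category.assoc, sq.isoPullback_inv_snd, h2, hτ1]
  · intro σ h1 h2
    rw [← hy', ← Category.assoc]
    congr 1
    refine sq.hom_ext ?_ ?_
    · rw [Category.assoc, sq.isoPullback_inv_fst, h1, hτ']
    · rw [Category.assoc, sq.isoPullback_inv_snd, h2, hτ1']

theorem El.symm {a₁ : 𝔸 ⟶ P} {a₂ : 𝔸 ⟶ S'} {f : X ⟶ S'} {y y' : 𝔸 ⟶ X} (h : El a₁ a₂ f y y') :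
    El a₁ a₂ f y' y := by
  obtain ⟨C, c, t, t', γ, hC, h1, h2, h3, h4, h5⟩ := h
  exact ⟨C, c, t', t, γ, hC, h2, h1, h3, h5, h4⟩

theorem El.left_over {a₁ : 𝔸 ⟶ P} {a₂ : 𝔸 ⟶ S'} {f : X ⟶ S'} {y y' : 𝔸 ⟶ X} (h : El a₁ a₂ f y y') :
    y ≫ f = a₂ := by
  obtain ⟨C, c, t, t', γ, hC, h1, h2, h3, h4, h5⟩ := h
  let τ : 𝔸 ⟶ pullback c a₁ := pullback.lift (a₁ ≫ t) (𝟙 _) (by
    rw [Category.assoc, h1, Category.comp_id, Category.id_comp])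
  have ef : τ ≫ pullback.fst c a₁ = a₁ ≫ t := pullback.lift_fst _ _ _
  have es : τ ≫ pullback.snd c a₁ = 𝟙 _ := pullback.lift_snd _ _ _
  rw [← h4 τ ef es, Category.assoc, h3, reassoc_of% es]

theorem El.right_over {a₁ : 𝔸 ⟶ P} {a₂ : 𝔸 ⟶ S'} {f : X ⟶ S'} {y y' : 𝔸 ⟶ X} (h : El a₁ a₂ f y y') :
    y' ≫ f = a₂ := h.symm.left_over

/-- The equivalence relation generated by elementary connections. -/
def Rel (a₁ : 𝔸 ⟶ P) (a₂ : 𝔸 ⟶ S') (f : X ⟶ S') : (𝔸 ⟶ X) → (𝔸 ⟶ X) → Prop :=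
  Relation.ReflTransGen (El a₁ a₂ f)

theorem Rel.refl {a₁ : 𝔸 ⟶ P} {a₂ : 𝔸 ⟶ S'} {f : X ⟶ S'} (y : 𝔸 ⟶ X) : Rel a₁ a₂ f y y := Relation.ReflTransGen.refl

theorem Rel.trans {a₁ : 𝔸 ⟶ P} {a₂ : 𝔸 ⟶ S'} {f : X ⟶ S'} {y y' y'' : 𝔸 ⟶ X} (h : Rel a₁ a₂ f y y')
    (h' : Rel a₁ a₂ f y' y'') : Rel a₁ a₂ f y y'' := Relation.ReflTransGen.trans h h'

theorem Rel.of_el {a₁ : 𝔸 ⟶ P} {a₂ : 𝔸 ⟶ S'} {f : X ⟶ S'} {y y' : 𝔸 ⟶ X} (h : El a₁ a₂ f y y') :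
    Rel a₁ a₂ f y y' := Relation.ReflTransGen.single h

theorem Rel.symm {a₁ : 𝔸 ⟶ P} {a₂ : 𝔸 ⟶ S'} {f : X ⟶ S'} {y y' : 𝔸 ⟶ X} (h : Rel a₁ a₂ f y y') :
    Rel a₁ a₂ f y' y := by
  induction h with
  | refl => exact Rel.refl _
  | tail _ h2 ih => exact (Rel.of_el h2.symm).trans ih

theorem opensRange_of_isPullback {U V Y Z : Scheme.{u}} {j : U ⟶ Y} {v : U ⟶ V} {g : Y ⟶ Z} {i : V ⟶ Z}
    [IsOpenImmersion i] [IsOpenImmersion j] (sq : IsPullback j v g i) : j.opensRange = g ⁻¹ᵁ i.opensRange := by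
  rw [← Scheme.Hom.opensRange_pullbackFst]
  ext x
  constructor
  · rintro ⟨y, rfl⟩
    refine ⟨sq.isoPullback.hom y, ?_⟩
    rw [← Scheme.Hom.comp_apply, sq.isoPullback_hom_fst]
  · rintro ⟨y, rfl⟩
    refine ⟨sq.isoPullback.inv y, ?_⟩
    rw [← Scheme.Hom.comp_apply, sq.isoPullback_inv_fst]

/-- Elementary connections on one of two complementary clopen pieces. -/
theorem El.glue {a₁ : 𝔸 ⟶ P} {a₂ : 𝔸 ⟶ S'} {f : X ⟶ S'} {𝔸₁ 𝔸₂ : Scheme.{u}} (i₁ : 𝔸₁ ⟶ 𝔸) (i₂ : 𝔸₂ ⟶ 𝔸)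
    [IsOpenImmersion i₁] [IsOpenImmersion i₂] (hc : IsCompl i₁.opensRange i₂.opensRange)
    (y y' : 𝔸 ⟶ X) (hy : y ≫ f = a₂) (h2 : i₂ ≫ y = i₂ ≫ y') (h1 : El (i₁ ≫ a₁) (i₁ ≫ a₂) f (i₁ ≫ y) (i₁ ≫ y')) :
    El a₁ a₂ f y y' := by
  obtain ⟨C, c, t, t', γ, hC, ht, ht', hγ, hτ, hτ'⟩ := h1
  -- the two pieces of `pullback c a₁`
  let j₁ : pullback c (i₁ ≫ a₁) ⟶ pullback c a₁ := pullback.lift (pullback.fst _ _) (pullback.snd _ _ ≫ i₁)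
    (by rw [pullback.condition, Category.assoc])
  let j₂ : pullback c (i₂ ≫ a₁) ⟶ pullback c a₁ := pullback.lift (pullback.fst _ _) (pullback.snd _ _ ≫ i₂)
    (by rw [pullback.condition, Category.assoc])
  have hj1f : j₁ ≫ pullback.fst c a₁ = pullback.fst _ _ := pullback.lift_fst _ _ _
  have hj2f : j₂ ≫ pullback.fst c a₁ = pullback.fst _ _ := pullback.lift_fst _ _ _
  have hj1s : j₁ ≫ pullback.snd c a₁ = pullback.snd _ _ ≫ i₁ := pullback.lift_snd _ _ _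
  have hj2s : j₂ ≫ pullback.snd c a₁ = pullback.snd _ _ ≫ i₂ := pullback.lift_snd _ _ _
  have sq₁ : IsPullback j₁ (pullback.snd _ _) (pullback.snd c a₁) i₁ := by
    refine IsPullback.of_right (h₁₂ := pullback.fst c a₁) (v₁₃ := c) (h₂₂ := a₁) ?_ hj1s
      (IsPullback.of_hasPullback _ _)
    rw [hj1f]; exact IsPullback.of_hasPullback _ _
  have sq₂ : IsPullback j₂ (pullback.snd _ _) (pullback.snd c a₁) i₂ := by
    refine IsPullback.of_right (h₁₂ := pullback.fst c a₁) (v₁₃ := c) (h₂₂ := a₁) ?_ hj2s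
      (IsPullback.of_hasPullback _ _)
    rw [hj2f]; exact IsPullback.of_hasPullback _ _
  have hj₁ : IsOpenImmersion j₁ := MorphismProperty.of_isPullback sq₁.flip inferInstance
  have hj₂ : IsOpenImmersion j₂ := MorphismProperty.of_isPullback sq₂.flip inferInstance
  have hcomp : IsCompl j₁.opensRange j₂.opensRange := by
    rw [opensRange_of_isPullback sq₁, opensRange_of_isPullback sq₂]
    constructor
    · rw [disjoint_iff]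
      ext x
      simp only [TopologicalSpace.Opens.coe_inf, TopologicalSpace.Opens.coe_bot, Set.mem_inter_iff,
        Set.mem_empty_iff_false, iff_false, not_and]
      intro h1 h2
      have : (pullback.snd c a₁) x ∈ (i₁.opensRange ⊓ i₂.opensRange) := ⟨h1, h2⟩
      rw [hc.inf_eq_bot] at this
      exact this
    · rw [codisjoint_iff]
      ext x
      simp only [TopologicalSpace.Opens.coe_sup, TopologicalSpace.Opens.coe_top, Set.mem_union,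
        Set.mem_univ, iff_true]
      have : (pullback.snd c a₁) x ∈ (i₁.opensRange ⊔ i₂.opensRange) := by rw [hc.sup_eq_top]; trivial
      exact this
  obtain ⟨hcol⟩ := nonempty_isColimit_binaryCofanMk_of_isCompl j₁ j₂ hcomp
  obtain ⟨hcol'⟩ := nonempty_isColimit_binaryCofanMk_of_isCompl i₁ i₂ hc
  let γ' : pullback c a₁ ⟶ X := BinaryCofan.IsColimit.desc hcol γ (pullback.snd _ _ ≫ i₂ ≫ y)
  have hγ1 : j₁ ≫ γ' = γ := BinaryCofan.IsColimit.inl_desc hcol _ _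
  have hγ2 : j₂ ≫ γ' = pullback.snd _ _ ≫ i₂ ≫ y := BinaryCofan.IsColimit.inr_desc hcol _ _
  -- splitting a section `τ`
  have hsplit : ∀ (s : P ⟶ C) (τ : 𝔸 ⟶ pullback c a₁) (_ : s ≫ c = 𝟙 P) (_ : τ ≫ pullback.fst c a₁ = a₁ ≫ s)
      (_ : τ ≫ pullback.snd c a₁ = 𝟙 𝔸) (z : 𝔸 ⟶ X) (_ : i₂ ≫ y = i₂ ≫ z)
      (_ : ∀ τ : 𝔸₁ ⟶ pullback c (i₁ ≫ a₁), τ ≫ pullback.fst c (i₁ ≫ a₁) = (i₁ ≫ a₁) ≫ s →
        τ ≫ pullback.snd c (i₁ ≫ a₁) = 𝟙 𝔸₁ → τ ≫ γ = i₁ ≫ z), τ ≫ γ' = z := by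
    intro s τ hs hτf hτs z hz h
    refine BinaryCofan.IsColimit.hom_ext hcol' ?_ ?_
    · show i₁ ≫ τ ≫ γ' = i₁ ≫ z
      let τ₁ : 𝔸₁ ⟶ pullback c (i₁ ≫ a₁) := pullback.lift ((i₁ ≫ a₁) ≫ s) (𝟙 _) (by
        rw [Category.assoc, hs, Category.comp_id, Category.id_comp])
      have ef : τ₁ ≫ pullback.fst c (i₁ ≫ a₁) = (i₁ ≫ a₁) ≫ s := pullback.lift_fst _ _ _
      have es : τ₁ ≫ pullback.snd c (i₁ ≫ a₁) = 𝟙 _ := pullback.lift_snd _ _ _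
      have e : i₁ ≫ τ = τ₁ ≫ j₁ := by
        refine pullback.hom_ext ?_ ?_
        · rw [Category.assoc, hτf, Category.assoc, hj1f, ef, Category.assoc]
        · rw [Category.assoc, hτs, Category.assoc, hj1s, Category.comp_id, reassoc_of% es]
      rw [← Category.assoc, e, Category.assoc, hγ1]
      exact h τ₁ (pullback.lift_fst _ _ _) (pullback.lift_snd _ _ _)
    · show i₂ ≫ τ ≫ γ' = i₂ ≫ z
      let τ₂ : 𝔸₂ ⟶ pullback c (i₂ ≫ a₁) := pullback.lift ((i₂ ≫ a₁) ≫ s) (𝟙 _) (by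
        rw [Category.assoc, hs, Category.comp_id, Category.id_comp])
      have ef : τ₂ ≫ pullback.fst c (i₂ ≫ a₁) = (i₂ ≫ a₁) ≫ s := pullback.lift_fst _ _ _
      have es : τ₂ ≫ pullback.snd c (i₂ ≫ a₁) = 𝟙 _ := pullback.lift_snd _ _ _
      have e : i₂ ≫ τ = τ₂ ≫ j₂ := by
        refine pullback.hom_ext ?_ ?_
        · rw [Category.assoc, hτf, Category.assoc, hj2f, ef, Category.assoc]
        · rw [Category.assoc, hτs, Category.assoc, hj2s, Category.comp_id, reassoc_of% es]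
      rw [← Category.assoc, e, Category.assoc, hγ2, ← hz, reassoc_of% es]
  refine ⟨C, c, t, t', γ', hC, ht, ht', ?_, fun τ hf hs => hsplit t τ ht hf hs y rfl hτ,
    fun τ hf hs => hsplit t' τ ht' hf hs y' h2 hτ'⟩
  refine BinaryCofan.IsColimit.hom_ext hcol ?_ ?_
  · show j₁ ≫ γ' ≫ f = j₁ ≫ _
    rw [reassoc_of% hγ1, hγ, reassoc_of% hj1s]
  · show j₂ ≫ γ' ≫ f = j₂ ≫ _
    rw [reassoc_of% hγ2, hy, reassoc_of% hj2s]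

/-- The relation for the two complementary clopen pieces gives the relation for the whole. -/
theorem Rel.glue {a₁ : 𝔸 ⟶ P} {a₂ : 𝔸 ⟶ S'} {f : X ⟶ S'} {𝔸₁ 𝔸₂ : Scheme.{u}} (i₁ : 𝔸₁ ⟶ 𝔸) (i₂ : 𝔸₂ ⟶ 𝔸)
    [IsOpenImmersion i₁] [IsOpenImmersion i₂] (hc : IsCompl i₁.opensRange i₂.opensRange)
    (y y' : 𝔸 ⟶ X) (hy : y ≫ f = a₂) (hy' : y' ≫ f = a₂)
    (h1 : Rel (i₁ ≫ a₁) (i₁ ≫ a₂) f (i₁ ≫ y) (i₁ ≫ y')) (h2 : Rel (i₂ ≫ a₁) (i₂ ≫ a₂) f (i₂ ≫ y) (i₂ ≫ y')) :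
    Rel a₁ a₂ f y y' := by
  obtain ⟨hcol'⟩ := nonempty_isColimit_binaryCofanMk_of_isCompl i₁ i₂ hc
  -- first change `y` on the first piece
  have key : ∀ {𝔸₁ 𝔸₂ : Scheme.{u}} (i₁ : 𝔸₁ ⟶ 𝔸) (i₂ : 𝔸₂ ⟶ 𝔸)
      [IsOpenImmersion i₁] [IsOpenImmersion i₂] (hc : IsCompl i₁.opensRange i₂.opensRange)
      (y : 𝔸 ⟶ X) (_ : y ≫ f = a₂) (z₁ : 𝔸₁ ⟶ X) (_ : Rel (i₁ ≫ a₁) (i₁ ≫ a₂) f (i₁ ≫ y) z₁),
      ∃ y' : 𝔸 ⟶ X, y' ≫ f = a₂ ∧ i₁ ≫ y' = z₁ ∧ i₂ ≫ y = i₂ ≫ y' ∧ Rel a₁ a₂ f y y' := by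
    intro 𝔸₁ 𝔸₂ i₁ i₂ _ _ hc y hy z₁ h
    obtain ⟨hcol⟩ := nonempty_isColimit_binaryCofanMk_of_isCompl i₁ i₂ hc
    induction h with
    | refl => exact ⟨y, hy, rfl, rfl, Rel.refl _⟩
    | @tail z z' h3 h4 ih =>
      obtain ⟨w, hw1, hw2, hw3, hw4⟩ := ih
      have hz' : z' ≫ f = i₁ ≫ a₂ := El.right_over h4
      let w' : 𝔸 ⟶ X := BinaryCofan.IsColimit.desc hcol z' (i₂ ≫ w)
      have hw1' : i₁ ≫ w' = z' := BinaryCofan.IsColimit.inl_desc hcol _ _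
      have hw2' : i₂ ≫ w' = i₂ ≫ w := BinaryCofan.IsColimit.inr_desc hcol _ _
      have hw' : w' ≫ f = a₂ := by
        refine BinaryCofan.IsColimit.hom_ext hcol ?_ ?_
        · show i₁ ≫ w' ≫ f = i₁ ≫ _
          rw [reassoc_of% hw1', hz']
        · show i₂ ≫ w' ≫ f = i₂ ≫ _
          rw [reassoc_of% hw2', hw1]
      refine ⟨w', hw', hw1', by rw [hw3, hw2'], hw4.trans (Rel.of_el ?_)⟩
      refine El.glue i₁ i₂ hc w w' hw1 hw2'.symm ?_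
      rw [hw2, hw1']
      exact h4
  obtain ⟨w, hw1, hw2, hw3, hw4⟩ := key i₁ i₂ hc y hy _ h1
  obtain ⟨w', hw1', hw2', hw3', hw4'⟩ := key i₂ i₁ hc.symm w hw1 (i₂ ≫ y') (by rw [← hw3]; exact h2)
  have : w' = y' := by
    refine BinaryCofan.IsColimit.hom_ext hcol' ?_ ?_
    · show i₁ ≫ w' = i₁ ≫ y'
      rw [← hw3', hw2]
    · exact hw2'
  rw [this] at hw4'
  exact hw4.trans hw4'

end K487.Elem
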