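import Groth.Agent.Models.K381.DisjModel
import Groth.Agent.Models.K381.RegModel
import Groth.Agent.Ega4late.H542.GlueSup
import Groth.Agent.Ega2.Normal
import Groth.Agent.S1535
import Groth.Agent.Pic13.H520.InjAA
import Groth.Prelude.Def_Pi1
import Mathlib.AlgebraicGeometry.ResidueField

/-!
# Rational points on the components of the normalisation of a curve
-/

set_option autoImplicit false
universe u

open CategoryTheory CategoryTheory.Limits AlgebraicGeometry TopologicalSpace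

namespace K487.NormPt

variable {κ : Type u} [Field κ] {C Cn : Scheme.{u}} (g : C ⟶ Spec (CommRingCat.of κ)) (ν : Cn ⟶ C)

/-- A point with trivial residue field extension is the image of a section. -/
theorem exists_section_of_residue (y : C) (h : IsIso (g.residueFieldMap y)) :
    ∃ s : Spec (CommRingCat.of κ) ⟶ C, s ≫ g = 𝟙 _ ∧ ∀ p, s p = y := by
  have hs : Subsingleton (Spec (CommRingCat.of κ)) := inferInstanceAs (Subsingleton (PrimeSpectrum κ))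
  have h1 : IsIso ((Spec (CommRingCat.of κ)).fromSpecResidueField (g y)) := by
    have hr : Set.range ((Spec (CommRingCat.of κ)).fromSpecResidueField (g y)) = Set.univ := by
      rw [Scheme.range_fromSpecResidueField]
      ext z; simp [Subsingleton.elim z (g y)]
    have h1 : IsClosedImmersion ((Spec (CommRingCat.of κ)).fromSpecResidueField (g y)) :=
      IsClosedImmersion.of_isPreimmersion _ (by rw [hr]; exact isClosed_univ)
    have h2 : Surjective ((Spec (CommRingCat.of κ)).fromSpecResidueField (g y)) := ⟨Set.range_eq_univ.mp hr⟩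
    exact isIso_of_isClosedImmersion_of_surjective _
  have h2 : Spec.map (g.residueFieldMap y) ≫ (Spec (CommRingCat.of κ)).fromSpecResidueField (g y) =
      C.fromSpecResidueField y ≫ g := Scheme.Hom.SpecMap_residueFieldMap_fromSpecResidueField _ _
  have h3 : IsIso (C.fromSpecResidueField y ≫ g) := by rw [← h2]; infer_instance
  refine ⟨inv (C.fromSpecResidueField y ≫ g) ≫ C.fromSpecResidueField y, by simp, fun p => ?_⟩
  rw [Scheme.Hom.comp_apply]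
  exact Scheme.fromSpecResidueField_apply _ _

/-- A finite morphism which is an isomorphism over a dense open subset with dense preimage is an isomorphism over
an integral normal open subscheme. -/
theorem isIso_restrict [IsFinite ν] (hn : Pi1.IsNormalScheme Cn) (U : C.Opens) (hU : Dense (U : Set C))
    (hU' : Dense ((ν ⁻¹ᵁ U : Cn.Opens) : Set Cn)) (hiso : IsIso (ν ∣_ U)) (V : C.Opens) [IsIntegral (V : Scheme.{u})]
    (hV : Pi1.IsNormalScheme (V : Scheme.{u})) : IsIso (ν ∣_ V) := by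
  -- the open immersion of the preimage of `U`
  let j : ((ν ⁻¹ᵁ U : Cn.Opens) : Scheme.{u}) ⟶ C := (ν ∣_ U) ≫ U.ι
  have hj : j = (ν ⁻¹ᵁ U).ι ≫ ν := morphismRestrict_ι _ _
  have hVne : (V : Set C).Nonempty := by
    obtain ⟨v⟩ : Nonempty (V : Scheme.{u}) := inferInstance
    exact ⟨v.1, v.2⟩
  have hUV : ((U ⊓ V : C.Opens) : Set C).Nonempty := by
    obtain ⟨v, hv1, hv2⟩ := hU.inter_open_nonempty V V.2 hVne
    exact ⟨v, hv2, hv1⟩
  -- a section over `U ∩ V`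
  let U' : (V : Scheme.{u}).Opens := V.ι ⁻¹ᵁ U
  let s₀ : (U' : Scheme.{u}) ⟶ Cn := (V.ι ∣_ U) ≫ inv (ν ∣_ U) ≫ (ν ⁻¹ᵁ U).ι
  have hs₀ : s₀ ≫ ν = U'.ι ≫ V.ι := by
    have h1 : (ν ∣_ U) ≫ U.ι = (ν ⁻¹ᵁ U).ι ≫ ν := morphismRestrict_ι _ _
    have h2 : (V.ι ∣_ U) ≫ U.ι = (V.ι ⁻¹ᵁ U).ι ≫ V.ι := morphismRestrict_ι _ _
    simp only [s₀, Category.assoc]
    rw [← h1, IsIso.inv_hom_id_assoc, h2]
  let s : (U' : Scheme.{u}) ⟶ ((ν ⁻¹ᵁ V : Cn.Opens) : Scheme.{u}) := IsOpenImmersion.lift (ν ⁻¹ᵁ V).ι s₀ (by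
    rintro _ ⟨z, rfl⟩
    rw [Scheme.Opens.range_ι]
    show ν (s₀ z) ∈ V
    rw [← Scheme.Hom.comp_apply, hs₀, Scheme.Hom.comp_apply]
    exact (U'.ι z).2)
  have hs : s ≫ (ν ∣_ V) = U'.ι := by
    have h1 : s ≫ (ν ⁻¹ᵁ V).ι = s₀ := IsOpenImmersion.lift_fac _ _ _
    rw [← cancel_mono V.ι, Category.assoc, morphismRestrict_ι, ← Category.assoc, h1, hs₀]
  have hνs : ∀ v, ν (s₀ v) = V.ι (U'.ι v) := fun v => by
    rw [← Scheme.Hom.comp_apply, hs₀, Scheme.Hom.comp_apply]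
  have hjw : ∀ w, j w = ν ((ν ⁻¹ᵁ U).ι w) := fun w => by rw [hj, Scheme.Hom.comp_apply]
  have hjinj : ∀ a b : Cn, a ∈ ν ⁻¹ᵁ U → b ∈ ν ⁻¹ᵁ U → ν a = ν b → a = b := by
    intro a b ha hb hab
    have hjo : IsOpenImmersion j := inferInstance
    have h1 : Function.Injective j := j.isOpenEmbedding.injective
    have h2 : j ⟨a, ha⟩ = j ⟨b, hb⟩ := (hjw ⟨a, ha⟩).trans (hab.trans (hjw ⟨b, hb⟩).symm)
    exact congrArg Subtype.val (h1 h2)
  have hU'irr : IsIrreducible (Set.range s₀) := by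
    have h1 : IsIrreducible (Set.univ : Set U') := by
      have h2 : IsIrreducible (U' : Set V) := by
        refine ⟨?_, (IrreducibleSpace.isIrreducible_univ (V : Scheme.{u})).isPreirreducible.open_subset U'.2
          (Set.subset_univ _)⟩
        obtain ⟨v, hv1, hv2⟩ := hUV
        exact ⟨⟨v, hv2⟩, hv1⟩
      have h3 : IrreducibleSpace (U' : Scheme.{u}) := Subtype.irreducibleSpace h2
      exact IrreducibleSpace.isIrreducible_univ (U' : Scheme.{u})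
    rw [← Set.image_univ]
    exact h1.image _ s₀.continuous.continuousOn
  have hsub : ((ν ⁻¹ᵁ V : Cn.Opens) : Set Cn) ⊆ closure (Set.range s₀) := by
    intro z hz
    rw [mem_closure_iff]
    intro N hN hzN
    obtain ⟨w, hw1, hw2⟩ := hU'.inter_open_nonempty _ (hN.inter (ν ⁻¹ᵁ V).2) ⟨z, hzN, hz⟩
    refine ⟨w, hw1.1, ⟨⟨ν w, hw1.2⟩, hw2⟩, ?_⟩
    refine hjinj _ _ ?_ hw2 ?_
    · have h1 := hνs ⟨⟨ν w, hw1.2⟩, hw2⟩
      have h2 : ν (s₀ ⟨⟨ν w, hw1.2⟩, hw2⟩) = ν w := h1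
      have h3 : ∀ a, a = ν w → a ∈ U := fun a ha => by rw [ha]; exact hw2
      exact h3 _ h2
    · exact hνs ⟨⟨ν w, hw1.2⟩, hw2⟩
  have hirr' : IsIrreducible ((ν ⁻¹ᵁ V : Cn.Opens) : Set Cn) := by
    refine ⟨?_, hU'irr.closure.isPreirreducible.open_subset (ν ⁻¹ᵁ V).2 hsub⟩
    obtain ⟨v, hv1, hv2⟩ := hUV
    refine ⟨s₀ ⟨⟨v, hv2⟩, hv1⟩, ?_⟩
    have h2 : ν (s₀ ⟨⟨v, hv2⟩, hv1⟩) = v := hνs ⟨⟨v, hv2⟩, hv1⟩
    have h3 : ∀ a, a = v → a ∈ V := fun a ha => by rw [ha]; exact hv2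
    exact h3 _ h2
  have hirr : IrreducibleSpace ((ν ⁻¹ᵁ V : Cn.Opens) : Scheme.{u}) := Subtype.irreducibleSpace hirr'
  have hnV : Pi1.IsNormalScheme ((ν ⁻¹ᵁ V : Cn.Opens) : Scheme.{u}) := by
    intro x
    obtain ⟨h1, h2⟩ := hn ((ν ⁻¹ᵁ V).ι x)
    let e := (asIso ((ν ⁻¹ᵁ V).ι.stalkMap x)).commRingCatIsoToRingEquiv
    exact ⟨e.symm.toMulEquiv.isDomain _, IsIntegrallyClosed.of_equiv e⟩
  have hred : IsReduced ((ν ⁻¹ᵁ V : Cn.Opens) : Scheme.{u}) := by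
    have : ∀ x : ((ν ⁻¹ᵁ V : Cn.Opens) : Scheme.{u}),
        _root_.IsReduced (((ν ⁻¹ᵁ V : Cn.Opens) : Scheme.{u}).presheaf.stalk x) := fun x => by
      have := (hnV x).1
      infer_instance
    exact isReduced_of_isReduced_stalk _
  have hint : IsIntegral ((ν ⁻¹ᵁ V : Cn.Opens) : Scheme.{u}) := isIntegral_of_irreducibleSpace_of_isReduced _
  refine Groth.Agent.Ega2.Normal.isIso_of_integral_hom_of_rational_section hV (ν ∣_ V) U' ?_ s hs
  obtain ⟨v, hv1, hv2⟩ := hUV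
  exact ⟨⟨v, hv2⟩, hv1⟩

/-- An open integral normal neighbourhood of a point in the smooth locus. -/
theorem exists_nhd [LocallyOfFiniteType g] (y : C) (hy : y ∈ g.smoothLocus) :
    ∃ V : C.Opens, y ∈ V ∧ IsIntegral (V : Scheme.{u}) ∧ Pi1.IsNormalScheme (V : Scheme.{u}) := by
  have hN : IsLocallyNoetherian C := LocallyOfFiniteType.isLocallyNoetherian g
  have hreg : ∀ z ∈ g.smoothLocus, IsDomain (C.presheaf.stalk z) ∧ IsIntegrallyClosed (C.presheaf.stalk z) := by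
    intro z hz
    have h1 : IsRegularLocalRing (C.presheaf.stalk z) :=
      Groth.Agent.VarietyA.RegSmoothSch.isRegularLocalRing_stalk_of_mem_smoothLocus g z hz
    have h2 := Groth.Agent.CurvesC.RegNormal.isDomain (C.presheaf.stalk z)
    exact ⟨h2, Groth.Agent.CurvesC.RegNormal.isIntegrallyClosed (C.presheaf.stalk z)⟩
  have hd := (hreg y hy).1
  obtain ⟨W, hyW, hW, hWi⟩ := Groth.Agent.Ega4late.H542.GlueSup.exists_isIntegral_nhd y
  refine ⟨W ⊓ g.smoothLocus, ⟨hyW, hy⟩, ?_, ?_⟩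
  · have : Nonempty ((W ⊓ g.smoothLocus : C.Opens) : Scheme.{u}) := ⟨⟨y, hyW, hy⟩⟩
    exact isIntegral_of_isOpenImmersion (C.homOfLE (inf_le_left : W ⊓ g.smoothLocus ≤ W))
  · intro z
    obtain ⟨h1, h2⟩ := hreg ((W ⊓ g.smoothLocus).ι z) z.2.2
    let e := (asIso ((W ⊓ g.smoothLocus).ι.stalkMap z)).commRingCatIsoToRingEquiv
    exact ⟨e.symm.toMulEquiv.isDomain _, IsIntegrallyClosed.of_equiv e⟩

/-- The components of the normalisation have rational points. -/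
theorem exists_comps [IsProper g] [IsFinite ν] (hn : Pi1.IsNormalScheme Cn) (U : C.Opens) (hU : Dense (U : Set C))
    (hU' : Dense ((ν ⁻¹ᵁ U : Cn.Opens) : Set Cn)) (hiso : IsIso (ν ∣_ U))
    (hpt : ∀ W ∈ irreducibleComponents (C : Type u), ∃ y ∈ W, y ∈ g.smoothLocus ∧ IsIso (g.residueFieldMap y)) :
    ∃ (ι : Type u) (_ : Finite ι) (O : ι → Cn.Opens), (∀ i, IsIntegral (O i)) ∧ (∀ i, IsClosedImmersion (O i).ι) ∧
      (∀ z, ∃ i, z ∈ O i) ∧ (∀ i j, i ≠ j → Disjoint (O i : Set Cn) (O j : Set Cn)) ∧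
      ∀ i, ∃ x : Spec (CommRingCat.of κ) ⟶ (O i : Scheme.{u}), x ≫ (O i).ι ≫ ν ≫ g = 𝟙 _ := by
  have hCn1 : IsLocallyNoetherian Cn := LocallyOfFiniteType.isLocallyNoetherian (ν ≫ g)
  have hCn2 : CompactSpace Cn := QuasiCompact.compactSpace_of_compactSpace (ν ≫ g)
  have hCn : IsNoetherian Cn := {}
  obtain ⟨ι, hι, O, h1, h2, h3, h4, h5⟩ := K381.DisjModel.exists_decomp Cn (fun x => (hn x).1)
  refine ⟨ι, hι, O, h2, h3, fun z => ?_, fun i k hik => ?_, fun i => ?_⟩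
  · have hz : z ∈ ⨆ i, O i := by rw [h4]; trivial
    exact Opens.mem_iSup.mp hz
  · rw [Set.disjoint_left]
    intro z hz hz'
    exact (h5 i k hik).le_bot (show z ∈ O i ⊓ O k from ⟨hz, hz'⟩)
  -- the component of `C`
  let j : ((ν ⁻¹ᵁ U : Cn.Opens) : Scheme.{u}) ⟶ C := (ν ∣_ U) ≫ U.ι
  have hj : j = (ν ⁻¹ᵁ U).ι ≫ ν := morphismRestrict_ι _ _
  have hjo : IsOpenImmersion j := inferInstance
  have hjw : ∀ w, j w = ν ((ν ⁻¹ᵁ U).ι w) := fun w => by rw [hj, Scheme.Hom.comp_apply]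
  have hOirr : IsIrreducible (O i : Set Cn) := (h1 i).1
  let A : Set C := j '' ((ν ⁻¹ᵁ U).ι ⁻¹' (O i : Set Cn))
  have hA : ∀ z, z ∈ A ↔ ∃ w, w ∈ O i ∧ ν w ∈ U ∧ ν w = z := by
    intro z
    constructor
    · rintro ⟨w, hw, rfl⟩
      exact ⟨w.1, hw, w.2, (hjw w).symm⟩
    · rintro ⟨w, hw1, hw2, rfl⟩
      exact ⟨⟨w, hw2⟩, hw1, hjw ⟨w, hw2⟩⟩
  have hAo : IsOpen A := j.isOpenEmbedding.isOpenMap _ ((O i).2.preimage (ν ⁻¹ᵁ U).ι.continuous)
  have hAirr : IsIrreducible A := by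
    have h6 : IsIrreducible ((O i : Set Cn) ∩ ((ν ⁻¹ᵁ U : Cn.Opens) : Set Cn)) := by
      refine ⟨hU'.inter_open_nonempty _ (O i).2 hOirr.nonempty, ?_⟩
      exact hOirr.isPreirreducible.open_subset ((O i).2.inter (ν ⁻¹ᵁ U).2) Set.inter_subset_left
    have h7 : A = ν '' ((O i : Set Cn) ∩ ((ν ⁻¹ᵁ U : Cn.Opens) : Set Cn)) := by
      ext z
      rw [hA]
      constructor
      · rintro ⟨w, hw1, hw2, rfl⟩; exact ⟨w, ⟨hw1, hw2⟩, rfl⟩
      · rintro ⟨w, ⟨hw1, hw2⟩, rfl⟩; exact ⟨w, hw1, hw2, rfl⟩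
    rw [h7]
    exact h6.image _ ν.continuous.continuousOn
  have hcomp : closure A ∈ irreducibleComponents (C : Type u) := by
    obtain ⟨W, hW, hAW⟩ := exists_mem_irreducibleComponents_subset_of_isIrreducible (closure A) hAirr.closure
    have h8 : W ⊆ closure A := by
      have h9 : IsPreirreducible W := hW.1.isPreirreducible
      intro w hw
      rw [mem_closure_iff]
      intro N hN hwN
      obtain ⟨a, ha⟩ := hAirr.nonempty
      obtain ⟨b, hb1, hb2⟩ := h9 N A hN hAo ⟨w, hw, hwN⟩ ⟨a, hAW (subset_closure ha), ha⟩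
      exact ⟨b, hb2.1, hb2.2⟩
    rw [show closure A = W from hAW.antisymm h8]
    exact hW
  obtain ⟨y, hyA, hys, hyr⟩ := hpt _ hcomp
  obtain ⟨V, hyV, hVi, hVn⟩ := exists_nhd g y hys
  have hνV : IsIso (ν ∣_ V) := isIso_restrict ν hn U hU hU' hiso V hVn
  obtain ⟨s, hs, hsy⟩ := exists_section_of_residue g y hyr
  -- the section of `C` lands in `V` and lifts to `Cn`
  let s₁ : Spec (CommRingCat.of κ) ⟶ (V : Scheme.{u}) := IsOpenImmersion.lift V.ι s (by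
    rintro _ ⟨p, rfl⟩
    rw [Scheme.Opens.range_ι, hsy]; exact hyV)
  have hs₁ : s₁ ≫ V.ι = s := IsOpenImmersion.lift_fac _ _ _
  let x₀ : Spec (CommRingCat.of κ) ⟶ Cn := s₁ ≫ inv (ν ∣_ V) ≫ (ν ⁻¹ᵁ V).ι
  have hx₀ : x₀ ≫ ν = s := by
    have h6 : (ν ∣_ V) ≫ V.ι = (ν ⁻¹ᵁ V).ι ≫ ν := morphismRestrict_ι _ _
    simp only [x₀, Category.assoc]
    rw [← h6, IsIso.inv_hom_id_assoc, hs₁]
  -- the preimage of `V` is contained in the component
  have hsub : ((ν ⁻¹ᵁ V : Cn.Opens) : Set Cn) ⊆ (O i : Set Cn) := by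
    have h6 : _root_.IsConnected ((ν ⁻¹ᵁ V : Cn.Opens) : Set Cn) := by
      have h7 : ((ν ⁻¹ᵁ V : Cn.Opens) : Set Cn) = Set.range (inv (ν ∣_ V) ≫ (ν ⁻¹ᵁ V).ι) := by
        have h8 : Set.range (inv (ν ∣_ V) ≫ (ν ⁻¹ᵁ V).ι) = Set.range (ν ⁻¹ᵁ V).ι := by
          ext z
          constructor
          · rintro ⟨w, rfl⟩; exact ⟨inv (ν ∣_ V) w, by rw [Scheme.Hom.comp_apply]⟩
          · rintro ⟨w, rfl⟩
            refine ⟨(ν ∣_ V) w, ?_⟩
            rw [← Scheme.Hom.comp_apply, IsIso.hom_inv_id_assoc]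
        rw [h8, Scheme.Opens.range_ι]
      rw [h7]
      exact isConnected_range (inv (ν ∣_ V) ≫ (ν ⁻¹ᵁ V).ι).continuous
    obtain ⟨a, haA, haV⟩ : (A ∩ (V : Set C)).Nonempty := by
      obtain ⟨a, ha1, ha2⟩ := mem_closure_iff.mp hyA V V.2 hyV
      exact ⟨a, ha2, ha1⟩
    obtain ⟨w, hw1, hw2, rfl⟩ := (hA a).mp haA
    have hclop : IsClopen (O i : Set Cn) := by
      refine ⟨?_, (O i).2⟩
      have := h3 i
      have h9 := (O i).ι.isClosedEmbedding.isClosed_range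
      rwa [Scheme.Opens.range_ι] at h9
    exact h6.isPreconnected.subset_isClopen hclop ⟨w, haV, hw1⟩
  have hx₀r : Set.range x₀ ⊆ Set.range (O i).ι := by
    rintro _ ⟨p, rfl⟩
    rw [Scheme.Opens.range_ι]
    refine hsub ?_
    show ν (x₀ p) ∈ V
    rw [← Scheme.Hom.comp_apply, hx₀, hsy]; exact hyV
  refine ⟨IsOpenImmersion.lift (O i).ι x₀ hx₀r, ?_⟩
  rw [IsOpenImmersion.lift_fac_assoc, ← Category.assoc, hx₀, hs]

end K487.NormPt
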