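import Groth.Agent.Neron.K488.Psi
import Groth.Agent.Neron.K488.NormKer
import Groth.Agent.PicF.K247.GrpZero
import Groth.Agent.AbDual.K732.Cov
import Groth.Agent.Pic13.H138.Glue2
import Groth.Agent.Pic13.H953.PicDisj
import Groth.Agent.Picfga.PicBridge

/-!
# Points of `Pic⁰` are honest classes when every component has a section

`exists_class`: `g : C ⟶ S` is the disjoint union of schemes with a section on which global functions are determined by
the restriction to the section, `(J, φ)` represents the fppf-sheafified `Pic⁰`. Then every `T`-point of `J` comes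
from an invertible module on `C ×_S T` algebraically equivalent to zero on the fibres.
-/

set_option autoImplicit false
universe u

open CategoryTheory CategoryTheory.Limits AlgebraicGeometry TopologicalSpace Opposite
open Groth.Agent Groth.Agent.Grpsch Groth.Agent.Grpsch.PicGrp
open Groth.Agent.Fga.RigGrp (Rg mem_Rg pull_mem norm norm_mem norm_apply pull_norm norm_of_mem toCl toCl_injective
  isInvertibleCl_toCl exists_toCl toCl_pull secT_XTproj norm_pull_XTproj XTmap_comp XTmap_id XTmap_fst XTmap_XTproj)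
open Groth.Agent.Pic13.H602.Rig (Inj)
open Groth.Agent.Pic13.H508.SqMT
open K530.PicZero (exists_toCl_of_isPicZeroCl isPicZeroCl_pullCl isPicZeroCl_toCl_iff)

namespace K487.PicHon

section glue

variable {Y : Scheme.{u}} {ι : Type u} [Finite ι] {V : ι → Scheme.{u}} (j : ∀ i, V i ⟶ Y) [∀ i, IsOpenImmersion (j i)]

/-- Classes on pairwise disjoint open subschemes covering `Y` glue. -/
theorem exists_glue (hd : ∀ i k, i ≠ k → Disjoint (Set.range (j i).base) (Set.range (j k).base))
    (hc : ∀ y : Y, ∃ i, y ∈ Set.range (j i).base) (r : ∀ i, Pic (V i)) : ∃ c : Pic Y, ∀ i, pull (j i) c = r i := by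
  classical
  have := Fintype.ofFinite ι
  have key : ∀ i, ∃ e : Pic Y, pull (j i) e = r i ∧ ∀ k, k ≠ i → pull (j k) e = 1 := by
    intro i
    let O : Y.Opens := ⨆ k : {k : ι // k ≠ i}, (j k.1).opensRange
    have hO : ∀ y, y ∈ O ↔ ∃ k, k ≠ i ∧ y ∈ Set.range (j k).base := by
      intro y
      simp only [O, Opens.mem_iSup, Subtype.exists]
      constructor
      · rintro ⟨k, hk, hy⟩; exact ⟨k, hk, hy⟩
      · rintro ⟨k, hk, hy⟩; exact ⟨k, hk, hy⟩
    obtain ⟨e, h1, h2⟩ := Pic13.H138.Glue2.exists_glue_class (j i) O.ι (by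
      rw [show Set.range O.ι.base = _ from Scheme.Opens.range_ι O, Set.disjoint_left]
      intro y hy hy'
      obtain ⟨k, hk, hk'⟩ := (hO y).mp hy'
      exact Set.disjoint_left.mp (hd i k hk.symm) hy hk') (by
      intro y
      obtain ⟨k, hk⟩ := hc y
      by_cases hki : k = i
      · subst hki; exact Or.inl hk
      · refine Or.inr ?_
        rw [show Set.range O.ι.base = _ from Scheme.Opens.range_ι O]
        exact (hO y).mpr ⟨k, hki, hk⟩) (r i) 1
    refine ⟨e, h1, fun k hk => ?_⟩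
    have hr : Set.range (j k).base ⊆ Set.range O.ι.base := by
      rw [show Set.range O.ι.base = _ from Scheme.Opens.range_ι O]
      intro y hy
      exact (hO y).mpr ⟨k, hk, hy⟩
    have hfac : IsOpenImmersion.lift O.ι (j k) hr ≫ O.ι = j k := IsOpenImmersion.lift_fac _ _ _
    rw [← hfac, pull_comp, h2, map_one]
  choose e he1 he2 using key
  refine ⟨∏ i, e i, fun k => ?_⟩
  rw [map_prod, Finset.prod_eq_single k (fun i _ hi => he2 i k hi.symm) (fun h => absurd (Finset.mem_univ k) h)]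
  exact he1 k

end glue

section hon

variable {S C : Scheme.{u}} {g : C ⟶ S} {J : Over S} {φ : ∀ T : Over S, PicF.Cl (PicF.XT g T) → (T ⟶ J)}
  (hP : AbDual.IsRelPicZeroK Scheme.fppfPrecoverage g J φ)
  {ι : Type u} [Finite ι] {D : ι → Scheme.{u}} (q : ∀ i, D i ⟶ C) [∀ i, IsOpenImmersion (q i)]
  (hd : ∀ i k, i ≠ k → Disjoint (Set.range (q i).base) (Set.range (q k).base))
  (hc : ∀ y : C, ∃ i, y ∈ Set.range (q i).base)
  (x : ∀ i, S ⟶ D i) (hx : ∀ i, x i ≫ q i ≫ g = 𝟙 S) (hI : ∀ i, Inj (q i ≫ g) (x i))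

include hd in
theorem disjoint_T (T : Over S) (i k : ι) (h : i ≠ k) :
    Disjoint (Set.range (mT (f := g) (q i) rfl T).base) (Set.range (mT (f := g) (q k) rfl T).base) := by
  rw [Set.disjoint_left]
  rintro _ ⟨a, rfl⟩ ⟨b, hb⟩
  refine Set.disjoint_left.mp (hd i k h) ⟨pullback.fst (q i ≫ g) T.hom a, rfl⟩
    ⟨pullback.fst (q k ≫ g) T.hom b, ?_⟩
  change (q k) (pullback.fst (q k ≫ g) T.hom b) = (q i) (pullback.fst (q i ≫ g) T.hom a)
  rw [← Scheme.Hom.comp_apply, ← Scheme.Hom.comp_apply, ← mT_fst (f := g) (q k) rfl T, ← mT_fst (f := g) (q i) rfl T,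
    Scheme.Hom.comp_apply, Scheme.Hom.comp_apply]
  congr 1

include hc in
theorem cover_T (T : Over S) (y : PicF.XT g T) : ∃ i, y ∈ Set.range (mT (f := g) (q i) rfl T).base := by
  obtain ⟨i, w, hw⟩ := hc (pullback.fst g T.hom y)
  have hsq := isPullback_mT (f := g) (q i) rfl T
  obtain ⟨z, hz, -⟩ := Scheme.Pullback.exists_preimage_pullback (f := pullback.fst g T.hom) (g := q i) y w hw.symm
  refine ⟨i, hsq.isoPullback.inv z, ?_⟩
  change (mT (f := g) (q i) rfl T) (hsq.isoPullback.inv z) = y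
  rw [← Scheme.Hom.comp_apply, IsPullback.isoPullback_inv_fst]
  exact hz

instance isOpenImmersion_T (T : Over S) (i : ι) : IsOpenImmersion (mT (f := g) (q i) rfl T) :=
  MorphismProperty.of_isPullback (P := @IsOpenImmersion) (isPullback_mT (f := g) (q i) rfl T).flip inferInstance

/-- The comparison with restriction of scalars along the identity. -/
abbrev eT (T : Over S) : K488.Psi.dn (𝟙 S) T ⟶ T := Over.homMk (𝟙 _) (by simp)

theorem mm_eT (i : ι) (T : Over S) :
    K488.Psi.mm (𝟙 S) g (q i ≫ g) (q i) (Category.comp_id _).symm T ≫ PicF.XTmap g (eT T) =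
      mT (f := g) (q i) rfl T := by
  apply pullback.hom_ext
  · rw [Category.assoc, Pic13.H508.SqMT.XTmap_fst, K488.Psi.mm_fst, mT_fst]
  · rw [Category.assoc, Pic13.H508.SqMT.XTmap_snd, mT_snd]
    exact (K488.Psi.mm_XTproj_assoc (𝟙 S) g (q i ≫ g) (q i) (Category.comp_id _).symm T (𝟙 _)).trans
      (Category.comp_id _)

include hP hd hc x hx hI in
/-- Points of `J` are given by honest classes. -/
theorem exists_class (T : Over S) (b : T ⟶ J) : ∃ c : Pic (PicF.XT g T), K488.Psi.PZ g T c ∧ φ T (toCl c) = b := by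
  have hr := fun i => K488.Psi.exists_isPsi (σ := 𝟙 S) (f := q i ≫ g) (q i) (Category.comp_id _).symm (hx i)
    (hI i) hP T (eT T ≫ b)
  choose r hr using hr
  obtain ⟨c, hcr⟩ := exists_glue (fun i => mT (f := g) (q i) rfl T) (disjoint_T q hd T) (cover_T q hc T) r
  have key : ∀ t : T.left, ∃ (Z : Over S) (z : Z ⟶ T), Flat z.left ∧ LocallyOfFinitePresentation z.left ∧
      t ∈ Set.range z.left ∧ K488.Psi.PZ g Z (pull (PicF.XTmap g z) c) ∧
      φ Z (toCl (pull (PicF.XTmap g z) c)) = z ≫ b := by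
    intro t
    obtain ⟨Z, z, hz1, hz2, ⟨z₀, hz₀⟩, cZ, hcZ, hφ⟩ := K488.NormKer.exists_surj_pt hP T b t
    -- the restriction of `r i`
    let cZ' : Pic (PicF.XT g (K488.Psi.dn (𝟙 S) Z)) := pull (PicF.XTmap g (eT Z)) cZ
    have hcZ' : K488.Psi.PZ g _ cZ' := hcZ.pull (eT Z)
    have hφ' : φ _ (toCl cZ') = K488.Psi.dnm (𝟙 S) z ≫ eT T ≫ b := by
      rw [K488.Psi.phi_pull hP (eT Z) hcZ, hφ, ← Category.assoc, ← Category.assoc]
      congr 1
    have hri : ∀ i, pull (PicF.XTmap (q i ≫ g) z) (r i) =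
        norm (q i ≫ g) (x i) (hx i) Z (pull (mT (f := g) (q i) rfl Z) cZ) := by
      intro i
      rw [(hr i).2 Z z cZ' hcZ' hφ', ← pull_comp, mm_eT]
    let a : ∀ i, Pic Z.left := fun i => pull (PicF.secT (q i ≫ g) (x i) (hx i) Z) (pull (mT (f := g) (q i) rfl Z) cZ)
    choose O hzO hO using fun i => Picfga.PicBridge.exists_open_pull_eq_one (a i) z₀
    let U : Z.left.Opens := ⟨⋂ i, (O i : Set Z.left), isOpen_iInter_of_finite fun i => (O i).isOpen⟩
    have hzU : z₀ ∈ U := Set.mem_iInter.mpr hzO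
    have hUO : ∀ i, pull U.ι (a i) = 1 := by
      intro i
      have hle : U ≤ O i := fun y hy => Set.mem_iInter.mp hy i
      rw [← Scheme.homOfLE_ι _ hle, pull_comp, hO, map_one]
    let ρ : Over.mk (U.ι ≫ Z.hom) ⟶ Z := Picfga.OverRep.res Z U
    have hkey : pull (PicF.XTmap g (ρ ≫ z)) c = pull (PicF.XTmap g ρ) cZ := by
      refine Pic13.H953.PicDisj.eq_of_pull (fun i => mT (f := g) (q i) rfl (Over.mk (U.ι ≫ Z.hom)))
        (disjoint_T q hd _) (cover_T q hc _) fun i => ?_
      rw [← pull_comp, mT_XTmap, pull_comp, hcr, ← pull_comp, mT_XTmap, pull_comp, XTmap_comp, pull_comp, hri,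
        norm_apply, map_div, div_eq_iff_eq_mul]
      have h6 : pull (PicF.XTmap (q i ≫ g) ρ) (pull (PicF.XTproj (q i ≫ g) Z) (a i)) = 1 := by
        rw [← pull_comp, XTmap_XTproj, pull_comp]
        have : pull ρ.left (a i) = 1 := hUO i
        rw [this, map_one]
      rw [h6, mul_one]
    refine ⟨Over.mk (U.ι ≫ Z.hom), ρ ≫ z, ?_, ?_, ?_, ?_, ?_⟩
    · rw [Over.comp_left]
      have : Flat ρ.left := inferInstanceAs (Flat U.ι)
      infer_instance
    · rw [Over.comp_left]
      have : LocallyOfFinitePresentation ρ.left := inferInstanceAs (LocallyOfFinitePresentation U.ι)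
      infer_instance
    · exact ⟨⟨z₀, hzU⟩, hz₀⟩
    · rw [hkey]; exact hcZ.pull ρ
    · rw [hkey, K488.Psi.phi_pull hP ρ hcZ, hφ, Category.assoc]
  choose Z z h1 h2 h3 h4 h5 using key
  let 𝒰 : K732.Cov.FCov T :=
    { ι := T.left
      V := Z
      j := z
      flat := h1
      lfp := h2
      covers := fun t => by
        obtain ⟨y, hy⟩ := h3 t
        exact ⟨t, y, hy⟩ }
  have hc0 : K488.Psi.PZ g T c := (isPicZeroCl_toCl_iff g T c).2
    (K247.GrpZero.fibZero_of_cov g 𝒰 c fun t => (isPicZeroCl_toCl_iff g _ _).1 (h4 t))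
  refine ⟨c, hc0, 𝒰.hom_ext fun t => ?_⟩
  rw [← K488.Psi.phi_pull hP (𝒰.j t) hc0]
  exact h5 t

end hon

end K487.PicHon
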