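import Groth.Agent.Neron.K487.PicNil
import Groth.Agent.Neron.K488.FinGlue
import Groth.Agent.Neron.K488.RegBC
import Groth.Agent.Models.H300.ExtPic
import Groth.Agent.Models.K381.DedFlat
import Groth.Agent.NonAbH1.K553.DedExt
import Groth.Agent.S2654
import Groth.Agent.Ega4B.NagBasic
import Groth.Agent.Sga7.H732.Reg
import Mathlib.AlgebraicGeometry.FunctionField
import Mathlib.AlgebraicGeometry.Morphisms.Smooth

/-!
# Classes on the generic fibre of a smooth scheme over a Dedekind scheme are trivial locally on the model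

`exists_triv_local`: over a local principal ideal domain. `exists_triv`: over a Dedekind scheme.
`exists_triv_finite`: the same after a product with a finite scheme over the function field.
-/

set_option autoImplicit false
universe u

open CategoryTheory CategoryTheory.Limits AlgebraicGeometry TopologicalSpace
open Groth.Agent.Grpsch.PicGrp Groth.Agent.Fdesc.LocGen

namespace K487.PicLoc

/-- Over a Nagata domain the integral closure in a finite extension of the fraction field is finite. -/
theorem finite_integralClosure (R K L : Type u) [CommRing R] [IsDomain R] (hR : CAlg.IsNagata R)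
    [Field K] [Algebra R K] [IsFractionRing R K] [Field L] [Algebra K L] [FiniteDimensional K L]
    [Algebra R L] [IsScalarTower R K L] : Module.Finite R ↥(integralClosure R L) := by
  have e : (R ⧸ (⊥ : Ideal R)) ≃+* R := RingEquiv.quotientBot R
  have h1 : CAlg.IsN2 (R ⧸ (⊥ : Ideal R)) := hR.2 ⊥
  have h2 : CAlg.IsN2 R := Groth.Agent.Ega4B.NagBasic.isN2_of_ringEquiv e h1
  exact Groth.Agent.Ega4B.NagBasic.n2For R h2 K L

variable {S : Scheme.{u}}

theorem isNagata_stalk (hexc : ∀ U : S.affineOpens, EGA4.IsExcellent Γ(S, U)) (s : S) :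
    CAlg.IsNagata (S.presheaf.stalk s) := by
  obtain ⟨_, ⟨U, hU, rfl⟩, hsU, -⟩ :=
    S.isBasis_affineOpens.exists_subset_of_mem_open (Set.mem_univ s) isOpen_univ
  have h0 := hexc ⟨U, hU⟩
  have h1 : CAlg.IsNagata Γ(S, U) := Groth.Agent.S2654.result _ ⟨h0.1, h0.2.2.1, h0.2.2.2⟩
  let _ : Algebra Γ(S, U) (S.presheaf.stalk s) := (S.presheaf.germ U s hsU).hom.toAlgebra
  have : IsLocalization.AtPrime (S.presheaf.stalk s) (hU.primeIdealOf ⟨s, hsU⟩).asIdeal :=
    hU.isLocalization_stalk ⟨s, hsU⟩
  exact Groth.Agent.Ega4B.NagBasic.isNagata_localization h1 (hU.primeIdealOf ⟨s, hsU⟩).asIdeal.primeCompl _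

/-- The pull back of the class of a module with a generator over the preimage. -/
theorem pull_ι_eq_one {Q X' X : Scheme.{u}} (g : Q ⟶ X') (π : X' ⟶ X) [IsFinite π] (c' : Pic X') (t : X) :
    ∃ W : X.Opens, t ∈ W ∧ pull ((g ≫ π) ⁻¹ᵁ W).ι (pull g c') = 1 := by
  obtain ⟨L, hL, rfl⟩ := exists_mk c'
  obtain ⟨U, e, htU, -, he⟩ := Groth.Agent.VarietyA.FinTriv.exists_isGen_preimage π L hL t ⊤ trivial
  refine ⟨U, htU, ?_⟩
  rw [← pull_comp]
  refine K488.FinGlue.pull_mk_eq_one _ hL he fun z => ?_
  exact z.2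

section loc

variable (R : Type u) [CommRing R] [IsDomain R] [IsLocalRing R] [IsPrincipalIdealRing R] (hN : CAlg.IsNagata R)
  (K K' : Type u) [Field K] [Algebra R K] [IsFractionRing R K] [Field K'] [Algebra K K'] [FiniteDimensional K K']
  [Algebra R K'] [IsScalarTower R K K']

/-- The generic fibre of `Spec R'`. -/
theorem isPullback_gen :
    IsPullback (Spec.map (CommRingCat.ofHom (algebraMap (integralClosure R K') K')))
      (Spec.map (CommRingCat.ofHom (algebraMap K K')))
      (Spec.map (CommRingCat.ofHom (algebraMap R (integralClosure R K'))))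
      (Spec.map (CommRingCat.ofHom (algebraMap R K))) := by
  have : Algebra.IsAlgebraic K K' := inferInstance
  have hloc : IsLocalization (Algebra.algebraMapSubmonoid (integralClosure R K') (nonZeroDivisors R)) K' :=
    IsIntegralClosure.isLocalization R K K' (integralClosure R K')
  have hloc' : IsLocalization ((nonZeroDivisors R).map (algebraMap R (integralClosure R K'))) K' := hloc
  exact (isPullback_SpecMap_of_isPushout _ _ _ _ (CommRingCat.isPushout_of_isLocalization
    (algebraMap R (integralClosure R K')) (algebraMap K K') (by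
      rw [← IsScalarTower.algebraMap_eq, ← IsScalarTower.algebraMap_eq]) (nonZeroDivisors R)).flip).flip

include hN K in
theorem exists_triv_local {X Q : Scheme.{u}} (x : X ⟶ Spec (CommRingCat.of R)) [Smooth x] {q : Q ⟶ X}
    {k : Q ⟶ Spec (CommRingCat.of K')} (h : IsPullback q k x (Spec.map (CommRingCat.ofHom (algebraMap R K'))))
    (c : Pic Q) (t : X) : ∃ W : X.Opens, t ∈ W ∧ pull (q ⁻¹ᵁ W).ι c = 1 := by
  let R' := integralClosure R K'
  have hfin : Module.Finite R R' := finite_integralClosure R K K' hN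
  have hded : IsDedekindDomain R' := K553.DedExt.isDedekindDomain R K K'
  let r : Spec (CommRingCat.of R') ⟶ Spec (CommRingCat.of R) := Spec.map (CommRingCat.ofHom (algebraMap R R'))
  have hr : IsFinite r := by
    rw [IsFinite.SpecMap_iff, CommRingCat.hom_ofHom, RingHom.finite_algebraMap]
    exact hfin
  have hrr : Spec.map (CommRingCat.ofHom (algebraMap R' K')) ≫ r = Spec.map (CommRingCat.ofHom (algebraMap R K')) := by
    rw [← Spec.map_comp, ← CommRingCat.ofHom_comp, ← IsScalarTower.algebraMap_eq]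
  let X' := pullback x r
  let π : X' ⟶ X := pullback.fst x r
  let p' : X' ⟶ Spec (CommRingCat.of R') := pullback.snd x r
  obtain ⟨g, hg1, hg⟩ : ∃ g : Q ⟶ X', g ≫ π = q ∧
      IsPullback g k p' (Spec.map (CommRingCat.ofHom (algebraMap R' K'))) := by
    have w : q ≫ x = (k ≫ Spec.map (CommRingCat.ofHom (algebraMap R' K'))) ≫ r := by
      rw [Category.assoc, hrr]; exact h.w
    have hg1 : pullback.lift q _ w ≫ π = q := pullback.lift_fst _ _ _
    refine ⟨pullback.lift q _ w, hg1, IsPullback.of_right ?_ (pullback.lift_snd _ _ _) (IsPullback.of_hasPullback x r)⟩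
    show IsPullback (pullback.lift q _ w ≫ π) k x _
    rw [hg1, hrr]; exact h
  obtain ⟨c', rfl⟩ : ∃ c' : Pic X', pull g c' = c := by
    by_cases hf : IsField R
    · have h1 : Function.Bijective (algebraMap R' K') := by
        refine ⟨Subtype.val_injective, fun y => ⟨⟨y, ?_⟩, rfl⟩⟩
        have hsurj : Function.Surjective (algebraMap R K) := by
          intro a
          obtain ⟨x, y, hy, rfl⟩ := IsFractionRing.div_surjective (A := R) a
          obtain ⟨y', hy'⟩ := hf.mul_inv_cancel (nonZeroDivisors.ne_zero hy)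
          refine ⟨x * y', ?_⟩
          rw [map_mul, div_eq_mul_inv]
          congr 1
          refine eq_inv_of_mul_eq_one_right ?_
          rw [← map_mul, hy', map_one]
        have : Algebra.IsIntegral R K := ⟨fun a => by obtain ⟨r, rfl⟩ := hsurj a; exact isIntegral_algebraMap⟩
        exact isIntegral_trans y (Algebra.IsIntegral.isIntegral (R := K) y)
      have h2 : IsIso (Spec.map (CommRingCat.ofHom (algebraMap R' K'))) := by
        have : IsIso (CommRingCat.ofHom (algebraMap R' K')) :=
          (ConcreteCategory.isIso_iff_bijective _).mpr h1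
        infer_instance
      have h3 : IsIso g := MorphismProperty.of_isPullback (P := .isomorphisms _) hg.flip h2
      refine ⟨pull (inv g) c, ?_⟩
      rw [← pull_comp, IsIso.hom_inv_id, pull_id]
    · have hdvr : IsDiscreteValuationRing R := { not_a_field' := fun h0 => hf (IsLocalRing.isField_iff_maximalIdeal_eq.mpr h0) }
      have h1 := hg.paste_vert (isPullback_gen R K K')
      have h2 : Models.IsRegularScheme X' := Groth.Agent.Sga7.H732.Reg.isRegularScheme_of_smooth p'
        (K488.RegBC.isRegularScheme_Spec R')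
      exact Groth.Agent.Models.H300.ExtPic.pull_surjective_of_isPullback h1 h2 c
  obtain ⟨W, htW, hW⟩ := pull_ι_eq_one g π c' t
  subst hg1
  exact ⟨W, htW, hW⟩

end loc

/-- Triviality along a morphism with image in an open where the class is trivial. -/
theorem pull_eq_one_of_range {Y' Y : Scheme.{u}} (G : Y' ⟶ Y) (W : Y.Opens) (hW : ∀ y, G y ∈ W) (c : Pic Y)
    (h : pull W.ι c = 1) : pull G c = 1 := by
  have h2 : G = IsOpenImmersion.lift W.ι G (by rintro _ ⟨z, rfl⟩; simpa using hW z) ≫ W.ι :=
    (IsOpenImmersion.lift_fac _ _ _).symm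
  rw [h2, pull_comp, h, map_one]

section glob

variable [IsIntegral S] (hreg : ∀ s : S, IsRegularLocalRing (S.presheaf.stalk s))
  (hdim : topologicalKrullDim S ≤ 1) (hexc : ∀ U : S.affineOpens, EGA4.IsExcellent Γ(S, U))

include hreg hdim hexc in
theorem exists_triv (K' : Type u) [Field K'] [Algebra S.functionField K'] [FiniteDimensional S.functionField K']
    {X Q : Scheme.{u}} (x : X ⟶ S) [Smooth x] {q : Q ⟶ X} {k : Q ⟶ Spec (CommRingCat.of K')}
    (h : IsPullback q k x (Spec.map (CommRingCat.ofHom (algebraMap S.functionField K')) ≫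
      S.fromSpecStalk (genericPoint S)))
    (c : Pic Q) (t : X) : ∃ W : X.Opens, t ∈ W ∧ pull (q ⁻¹ᵁ W).ι c = 1 := by
  obtain ⟨s, hs⟩ : ∃ s : S, s = x t := ⟨_, rfl⟩
  have hP : IsPrincipalIdealRing (S.presheaf.stalk s) := K381.DedFlat.isPrincipalIdealRing_stalk hreg hdim s
  let _ : Algebra (S.presheaf.stalk s) K' :=
    ((algebraMap S.functionField K').comp (algebraMap (S.presheaf.stalk s) S.functionField)).toAlgebra
  have : IsScalarTower (S.presheaf.stalk s) S.functionField K' := .of_algebraMap_eq' rfl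
  let j : Spec (CommRingCat.of (S.presheaf.stalk s)) ⟶ S := S.fromSpecStalk s
  have hj : Spec.map (CommRingCat.ofHom (algebraMap (S.presheaf.stalk s) S.functionField)) ≫ j =
      S.fromSpecStalk (genericPoint S) :=
    Scheme.SpecMap_stalkSpecializes_fromSpecStalk ((genericPoint_spec S).specializes trivial)
  have hjj : Spec.map (CommRingCat.ofHom (algebraMap (S.presheaf.stalk s) K')) ≫ j =
      Spec.map (CommRingCat.ofHom (algebraMap S.functionField K')) ≫ S.fromSpecStalk (genericPoint S) := by
    rw [← hj, ← Spec.map_comp_assoc, ← CommRingCat.ofHom_comp, ← IsScalarTower.algebraMap_eq]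
  obtain ⟨g, hg1, hg⟩ : ∃ g : Q ⟶ pullback x j, g ≫ pullback.fst x j = q ∧
      IsPullback g k (pullback.snd x j) (Spec.map (CommRingCat.ofHom (algebraMap (S.presheaf.stalk s) K'))) := by
    have w : q ≫ x = (k ≫ Spec.map (CommRingCat.ofHom (algebraMap (S.presheaf.stalk s) K'))) ≫ j := by
      rw [Category.assoc, hjj]; exact h.w
    have hg1 : pullback.lift q _ w ≫ pullback.fst x j = q := pullback.lift_fst _ _ _
    refine ⟨pullback.lift q _ w, hg1, IsPullback.of_right ?_ (pullback.lift_snd _ _ _) (IsPullback.of_hasPullback x j)⟩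
    rw [hg1, hjj]; exact h
  obtain ⟨ts, hts⟩ : ∃ ts : ↥(pullback x j), pullback.fst x j ts = t := by
    obtain ⟨ts, h1, -⟩ := Scheme.Pullback.exists_preimage_pullback (f := x) (g := j) t
      (IsLocalRing.closedPoint (S.presheaf.stalk s)) (by
        rw [← hs]; exact (Scheme.fromSpecStalk_closedPoint).symm)
    exact ⟨ts, h1⟩
  obtain ⟨W', ht', hW'⟩ := exists_triv_local (S.presheaf.stalk s) (isNagata_stalk hexc s) S.functionField K'
    (pullback.snd x j) hg c ts
  obtain ⟨W, rfl⟩ : ∃ W : X.Opens, (pullback.fst x j) ⁻¹ᵁ W = W' := by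
    have hind : Topology.IsInducing (pullback.fst x j).base := by
      have : IsPreimmersion (pullback.fst x j) := inferInstance
      exact (pullback.fst x j).isEmbedding.isInducing
    obtain ⟨O, hO, hO'⟩ := hind.isOpen_iff.mp W'.isOpen
    exact ⟨⟨O, hO⟩, TopologicalSpace.Opens.ext hO'⟩
  refine ⟨W, by rw [← hts]; exact ht', ?_⟩
  subst hg1
  exact hW'

theorem finite_discrete {K : Type u} [Field K] {Z : Scheme.{u}} (z : Z ⟶ Spec (CommRingCat.of K)) [IsFinite z] :
    Finite Z ∧ DiscreteTopology Z := by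
  obtain ⟨p⟩ : Nonempty (Spec (CommRingCat.of K)) := inferInstance
  have hp : z ⁻¹' {p} = Set.univ := by
    ext y
    simp only [Set.mem_preimage, Set.mem_singleton_iff, Set.mem_univ, iff_true]
    exact Subsingleton.elim (α := PrimeSpectrum K) _ _
  have h1 := z.finite_preimage_singleton p
  have h2 := z.isDiscrete_preimage_singleton p
  rw [hp] at h1 h2
  refine ⟨Set.finite_univ_iff.mp h1, ?_⟩
  exact isDiscrete_univ_iff.mp h2

variable [S.IsSeparated]

include hreg hdim hexc in
/-- Classes on the product of the generic fibre of a smooth scheme and a finite scheme over the function field are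
trivial locally on the model. -/
theorem exists_triv_finite {Z : Scheme.{u}} (z : Z ⟶ Spec S.functionField) [IsFinite z]
    (Q : Over (Spec S.functionField)) {X : Scheme.{u}} (x : X ⟶ S) [Smooth x] (n : Q.left ⟶ X)
    (h : IsPullback n Q.hom x (S.fromSpecStalk (genericPoint S)))
    (d : Pic (PicF.XT z Q)) (t : X) :
    ∃ W : X.Opens, t ∈ W ∧
      pull (PicF.XTmap z (Groth.Agent.Picfga.OverRep.res Q (n ⁻¹ᵁ W))) d = 1 := by
  obtain ⟨hfin, hdisc⟩ := finite_discrete (K := S.functionField) z
  let f : PicF.XT z Q ⟶ Z := pullback.fst z Q.hom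
  have key : ∀ p : Z, ∃ W : X.Opens, t ∈ W ∧
      pull ((f.fiberι p ≫ pullback.snd z Q.hom ≫ n) ⁻¹ᵁ W).ι (pull (f.fiberι p) d) = 1 := by
    intro p
    let ψ : S.functionField ⟶ Z.residueField p := Spec.preimage (Z.fromSpecResidueField p ≫ z)
    have hψ : Spec.map ψ = Z.fromSpecResidueField p ≫ z := Spec.map_preimage _
    let _ : Algebra S.functionField (Z.residueField p) := ψ.hom.toAlgebra
    have hcl : IsClosedImmersion (Z.fromSpecResidueField p) :=
      isClosed_singleton_iff_isClosedImmersion.mp (isClosed_discrete _)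
    have hff : FiniteDimensional S.functionField (Z.residueField p) := by
      have h1 : IsFinite (Spec.map ψ) := by rw [hψ]; infer_instance
      rw [IsFinite.SpecMap_iff] at h1
      exact h1
    have sq1 : IsPullback (f.fiberι p) (f.fiberToSpecResidueField p) f (Z.fromSpecResidueField p) :=
      IsPullback.of_hasPullback _ _
    have sq2 : IsPullback (pullback.snd z Q.hom) f Q.hom z := (IsPullback.of_hasPullback z Q.hom).flip
    have sq3 := (sq1.paste_horiz sq2).paste_horiz h
    rw [← hψ, Category.assoc] at sq3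
    exact exists_triv hreg hdim hexc (Z.residueField p) x sq3 _ t
  choose Wp ht hWp using key
  have hO : IsOpen (⋂ p : Z, (Wp p : Set X)) := isOpen_iInter_of_finite fun p => (Wp p).isOpen
  obtain ⟨W, hW, htW, hWO⟩ : ∃ W : X.Opens, IsAffineOpen W ∧ t ∈ W ∧ (W : Set X) ⊆ ⋂ p : Z, (Wp p : Set X) := by
    obtain ⟨_, ⟨W, hW, rfl⟩, htW, hWO⟩ :=
      X.isBasis_affineOpens.exists_subset_of_mem_open (a := t) (u := ⋂ p : Z, (Wp p : Set X))
        (Set.mem_iInter.mpr ht) hO
    exact ⟨W, hW, htW, hWO⟩
  refine ⟨W, htW, ?_⟩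
  replace hW : IsAffineOpen W := hW
  have hWaff : IsAffine (W : Scheme.{u}) := hW
  let QW : Over (Spec S.functionField) := Over.mk ((n ⁻¹ᵁ W).ι ≫ Q.hom)
  have hQW : IsAffineHom QW.hom := by
    have h1 : IsPullback (n ∣_ W) QW.hom (W.ι ≫ x) (S.fromSpecStalk (genericPoint S)) :=
      (isPullback_morphismRestrict n W).paste_vert h
    have h2 : IsAffineHom (W.ι ≫ x) := by
      have : IsAffineHom (((W : X.Opens).ι ≫ x) ≫ terminal.from S) := inferInstance
      exact IsAffineHom.of_comp (W.ι ≫ x) (terminal.from S)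
    exact MorphismProperty.of_isPullback h1 h2
  let fW : PicF.XT z QW ⟶ Z := pullback.fst z QW.hom
  have hfW : IsAffineHom fW := inferInstanceAs (IsAffineHom (pullback.fst z QW.hom))
  refine PicNil.eq_one_of_fibres fW _ fun p => ?_
  let G := PicF.XTmap z (Groth.Agent.Picfga.OverRep.res Q (n ⁻¹ᵁ W))
  have hG1 : G ≫ f = fW := (pullback.lift_fst _ _ _).trans (Category.comp_id _)
  have hG2 : G ≫ pullback.snd z Q.hom = pullback.snd z QW.hom ≫ (n ⁻¹ᵁ W).ι := pullback.lift_snd _ _ _
  let F : fW.fiber p ⟶ f.fiber p := pullback.lift (fW.fiberι p ≫ G) (fW.fiberToSpecResidueField p) (by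
    rw [Category.assoc, hG1]; exact pullback.condition)
  have hF : F ≫ f.fiberι p = fW.fiberι p ≫ G := pullback.lift_fst _ _ _
  rw [← pull_comp, ← hF, pull_comp]
  refine pull_eq_one_of_range F _ (fun y => ?_) _ (hWp p)
  have e1 : (F ≫ f.fiberι p ≫ pullback.snd z Q.hom ≫ n) = (fW.fiberι p ≫ pullback.snd z QW.hom) ≫ (n ⁻¹ᵁ W).ι ≫ n := by
    rw [reassoc_of% hF, reassoc_of% hG2, Category.assoc]
  show (F ≫ f.fiberι p ≫ pullback.snd z Q.hom ≫ n) y ∈ Wp p
  rw [e1, Scheme.Hom.comp_apply]
  have h3 : ((n ⁻¹ᵁ W).ι ≫ n) ((fW.fiberι p ≫ pullback.snd z QW.hom) y) ∈ W :=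
    ((fW.fiberι p ≫ pullback.snd z QW.hom) y).2
  exact Set.mem_iInter.mp (hWO h3) p

end glob

end K487.PicLoc
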