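import Groth.Agent.Neron.K487.TorsGlue4
import Groth.Agent.Neron.K487.PicHon
import Groth.Agent.Neron.K487.PicLoc
import Groth.Agent.Neron.K487.NormPt
import Groth.Agent.Neron.K488.NormKer
import Groth.Agent.Neron.K488.NormSq

/-!
# The Néron lft-model of the Jacobian of a curve from those of the unirational part and of the Jacobian of the
normalisation
-/

set_option autoImplicit false
universe u

open CategoryTheory CategoryTheory.Limits AlgebraicGeometry TopologicalSpace MonObj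
open Groth.Agent Groth.Agent.Grpsch Groth.Agent.Grpsch.PicGrp
open Groth.Agent.Fga.RigGrp (toCl toCl_pull XTmap_comp)
open Groth.Agent.Pic13.H508.SqMT
open K488.Psi K488.NormKer

namespace K487.Ext64

/-- The local sections of `J → J̃` over the model of `J̃`. -/
theorem exists_idx {S : Scheme.{u}} [IsIntegral S] [S.IsSeparated]
    (hreg : ∀ s : S, IsRegularLocalRing (S.presheaf.stalk s)) (hdimS : topologicalKrullDim S ≤ 1)
    (hexc : ∀ U : S.affineOpens, EGA4.IsExcellent Γ(S, U))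
    {C Cn : Scheme.{u}} (g : C ⟶ Spec (CommRingCat.of S.functionField)) [IsProper g] [IsReduced C]
    (hdimC : topologicalKrullDim C ≤ 1)
    (ν : Cn ⟶ C) [IsFinite ν] (hn : Pi1.IsNormalScheme Cn) (U : C.Opens) (hU : Dense (U : Set C))
    (hU' : Dense ((ν ⁻¹ᵁ U : Cn.Opens) : Set Cn)) (hiso : IsIso (ν ∣_ U))
    (hpt : ∀ W ∈ irreducibleComponents (C : Type u), ∃ y ∈ W, y ∈ g.smoothLocus ∧ IsIso (g.residueFieldMap y))
    {J Jn : Over (Spec (CommRingCat.of S.functionField))} [GrpObj J] [GrpObj Jn]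
    {φ : ∀ T : Over (Spec (CommRingCat.of S.functionField)), PicF.Cl (PicF.XT g T) → (T ⟶ J)}
    {φn : ∀ T : Over (Spec (CommRingCat.of S.functionField)), PicF.Cl (PicF.XT (ν ≫ g) T) → (T ⟶ Jn)}
    (hJn : AbDual.IsDualAV Scheme.fppfPrecoverage (Over.mk (ν ≫ g)) Jn φn)
    {νt : J ⟶ Jn} (hνt : AbDual.IsTranspose (Over.homMk ν rfl : Over.mk (ν ≫ g) ⟶ Over.mk g) φn φ νt)
    {X : Scheme.{u}} (x : X ⟶ S) [Smooth x] (nX : Jn.left ⟶ X)
    (h : IsPullback nX Jn.hom x (S.fromSpecStalk (genericPoint S))) (t : X) :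
    ∃ (W : X.Opens) (_ : t ∈ W) (σ : Over.mk ((nX ⁻¹ᵁ W).ι ≫ Jn.hom) ⟶ J),
      σ ≫ νt = Over.homMk (nX ⁻¹ᵁ W).ι rfl := by
  -- the universal class
  obtain ⟨I₀, hI₀, O, h1, h2, h3, h4, h5⟩ := NormPt.exists_comps g ν hn U hU hU' hiso hpt
  choose y hy using h5
  have hI : ∀ i, Pic13.H602.Rig.Inj ((O i).ι ≫ ν ≫ g) (y i) := fun i => by
    have := h1 i
    have := h2 i
    exact Pic13.H520.InjAA.inj_of_connected ((O i).ι ≫ ν ≫ g) (y i)
  obtain ⟨c', hc', hφ'⟩ := PicHon.exists_class (relPicn hJn) (fun i => (O i).ι) (fun i k hik => by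
      rw [show Set.range (O i).ι.base = _ from Scheme.Opens.range_ι _,
        show Set.range (O k).ι.base = _ from Scheme.Opens.range_ι _]
      exact h4 i k hik) (fun z => by
      obtain ⟨i, hi⟩ := h3 z
      exact ⟨i, by rw [show Set.range (O i).ι.base = _ from Scheme.Opens.range_ι _]; exact hi⟩) y hy hI Jn (𝟙 Jn)
  -- the conductor square
  obtain ⟨Y, Y', i, i', π', D⟩ := K488.NormSq.exists_data g ν hdimC U hU hiso
  have hf₃ := D.fin₃
  obtain ⟨W, htW, hW⟩ := PicLoc.exists_triv_finite hreg hdimS hexc (π' ≫ i ≫ g) Jn x nX h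
    (pull (mT i' D.hi' Jn) c') t
  let T : Over (Spec (CommRingCat.of S.functionField)) := Over.mk ((nX ⁻¹ᵁ W).ι ≫ Jn.hom)
  let ρ : T ⟶ Jn := Picfga.OverRep.res Jn (nX ⁻¹ᵁ W)
  obtain ⟨c, hc, -⟩ := D.exists_glue T (c' := pull (PicF.XTmap (ν ≫ g) ρ) c') (d := 1) (by
    rw [map_one, ← pull_comp, mT_XTmap, pull_comp]
    exact hW)
  have hc0 : PZ (ν ≫ g) T (pull (mT ν D.hb T) c) := by
    rw [hc]; exact hc'.pull ρ
  have hcz : PZ g T c := pz_of_pull D hc0
  refine ⟨W, htW, φ T (toCl c), ?_⟩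
  rw [← transpose hνt hcz]
  have h6 : pull (mT ν rfl T) c = pull (PicF.XTmap (ν ≫ g) ρ) c' := hc
  rw [h6, phi_pull (relPicn hJn) ρ hc', hφ', Category.comp_id]

end K487.Ext64
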