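import Groth.Agent.Neron.K487.Comp
import Mathlib.RingTheory.Artinian.Module
import Mathlib.RingTheory.Localization.Away.Basic

/-!
# Points with values in a finite algebra over an algebraically closed field
-/

set_option autoImplicit false
universe u

open CategoryTheory CategoryTheory.Limits AlgebraicGeometry TensorProduct

namespace K487.Fin

open K487.Elem

/-- The condition that at every geometric point of `𝔸` the two points `y`, `y'` lie in the same connected component of
the fibre of `f`. -/
def Cond {P S' X 𝔸 : Scheme.{u}} (a₁ : 𝔸 ⟶ P) (a₂ : 𝔸 ⟶ S') (f : X ⟶ S') (y y' : 𝔸 ⟶ X) : Prop :=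
  ∀ (a : P ⟶ 𝔸) (_ : a ≫ a₁ = 𝟙 P) (b : P ⟶ S') (_ : a ≫ a₂ = b) (w w' : P ⟶ pullback f b)
    (_ : w ≫ pullback.snd _ _ = 𝟙 _) (_ : w ≫ pullback.fst _ _ = a ≫ y)
    (_ : w' ≫ pullback.snd _ _ = 𝟙 _) (_ : w' ≫ pullback.fst _ _ = a ≫ y') (x : P),
    w' x ∈ connectedComponent (w x)

theorem Cond.restrict {P S' X 𝔸 𝔸₁ : Scheme.{u}} {a₁ : 𝔸 ⟶ P} {a₂ : 𝔸 ⟶ S'} {f : X ⟶ S'} {y y' : 𝔸 ⟶ X}
    (h : Cond a₁ a₂ f y y') (i : 𝔸₁ ⟶ 𝔸) : Cond (i ≫ a₁) (i ≫ a₂) f (i ≫ y) (i ≫ y') := by
  intro a ha b hb w w' h1 h2 h3 h4 x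
  exact h (a ≫ i) (by rw [Category.assoc, ha]) b (by rw [Category.assoc, hb]) w w' h1
    (by rw [h2, Category.assoc]) h3 (by rw [h4, Category.assoc]) x

section idem

variable {A : Type u} [CommRing A]

theorem exists_idempotent [IsArtinianRing A] [Nontrivial A] (h : ¬ IsLocalRing A) :
    ∃ e : A, IsIdempotentElem e ∧ e ≠ 0 ∧ e ≠ 1 := by
  have hns : ¬ Subsingleton (PrimeSpectrum A) := by
    intro hs
    apply h
    have : Subsingleton (MaximalSpectrum A) := by
      constructor
      intro a b
      have := hs.elim a.toPrimeSpectrum b.toPrimeSpectrum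
      exact MaximalSpectrum.toPrimeSpectrum_injective this
    exact IsLocalRing.of_singleton_maximalSpectrum
  rw [not_subsingleton_iff_nontrivial] at hns
  obtain ⟨x, y, hxy⟩ := hns
  have hcl : IsClopen ({x} : Set (PrimeSpectrum A)) := ⟨isClosed_discrete _, isOpen_discrete _⟩
  obtain ⟨e, he, hs⟩ := PrimeSpectrum.exists_idempotent_basicOpen_eq_of_isClopen hcl
  refine ⟨e, he, ?_, ?_⟩
  · rintro rfl
    have : x ∈ (PrimeSpectrum.basicOpen (0 : A) : Set (PrimeSpectrum A)) := by rw [← hs]; rfl
    simp at this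
  · rintro rfl
    have : y ∈ ({x} : Set (PrimeSpectrum A)) := by rw [hs]; simp
    exact hxy this.symm

variable {k : Type u} [Field k] [Algebra k A]

theorem finrank_quotient_lt [Module.Finite k A] (I : Ideal A) (hI : I ≠ ⊥) :
    Module.finrank k (A ⧸ I) < Module.finrank k A := by
  let q : A →ₗ[k] A ⧸ I := (Ideal.Quotient.mkₐ k I).toLinearMap
  have h1 := q.finrank_range_add_finrank_ker
  have h2 : LinearMap.range q = ⊤ := LinearMap.range_eq_top.mpr Ideal.Quotient.mk_surjective
  have h3 : 0 < Module.finrank k (LinearMap.ker q) := by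
    rw [Module.finrank_pos_iff, Submodule.nontrivial_iff_ne_bot]
    intro h
    apply hI
    rw [eq_bot_iff]
    intro x hx
    have : x ∈ LinearMap.ker q := by
      show Ideal.Quotient.mk I x = 0
      exact Ideal.Quotient.eq_zero_iff_mem.mpr hx
    rw [h] at this
    exact this
  rw [h2, finrank_top] at h1
  omega

theorem isOpenImmersion_idem (e : A) (he : IsIdempotentElem e) :
    IsOpenImmersion (Spec.map (CommRingCat.ofHom (Ideal.Quotient.mk (Ideal.span {1 - e})))) := by
  have hloc : IsLocalization.Away e (A ⧸ Ideal.span {1 - e}) :=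
    IsLocalization.away_of_isIdempotentElem he (Ideal.mk_ker) Ideal.Quotient.mk_surjective
  have h1 : IsOpenImmersion (Spec.map (CommRingCat.ofHom (algebraMap A (A ⧸ Ideal.span {1 - e})))) :=
    IsOpenImmersion.of_isLocalization e
  exact h1

theorem mem_range_idem (e : A) (he : IsIdempotentElem e) (x : PrimeSpectrum A) :
    x ∈ Set.range (Spec.map (CommRingCat.ofHom (Ideal.Quotient.mk (Ideal.span {1 - e})))) ↔ e ∉ x.asIdeal := by
  have hloc : IsLocalization.Away e (A ⧸ Ideal.span {1 - e}) :=
    IsLocalization.away_of_isIdempotentElem he (Ideal.mk_ker) Ideal.Quotient.mk_surjective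
  have := PrimeSpectrum.localization_away_comap_range (A ⧸ Ideal.span {1 - e}) e
  have h2 : Set.range (Spec.map (CommRingCat.ofHom (Ideal.Quotient.mk (Ideal.span {1 - e})))) =
    (PrimeSpectrum.basicOpen e : Set (PrimeSpectrum A)) := this
  rw [h2]; rfl

theorem isCompl_idem (e : A) (he : IsIdempotentElem e)
    [h1 : IsOpenImmersion (Spec.map (CommRingCat.ofHom (Ideal.Quotient.mk (Ideal.span {1 - e}))))]
    [h2 : IsOpenImmersion (Spec.map (CommRingCat.ofHom (Ideal.Quotient.mk (Ideal.span {1 - (1 - e)}))))] :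
    IsCompl (Scheme.Hom.opensRange (Spec.map (CommRingCat.ofHom (Ideal.Quotient.mk (Ideal.span {1 - e})))))
      (Scheme.Hom.opensRange (Spec.map (CommRingCat.ofHom (Ideal.Quotient.mk (Ideal.span {1 - (1 - e)}))))) := by
  have he' : IsIdempotentElem (1 - e) := he.one_sub
  constructor
  · rw [disjoint_iff]
    ext x
    constructor
    · rintro ⟨hx1, hx2⟩
      have h3 := (mem_range_idem e he x).mp hx1
      have h4 := (mem_range_idem (1 - e) he' x).mp hx2
      have h5 : e * (1 - e) ∈ x.asIdeal := by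
        rw [mul_sub, mul_one, he.eq, sub_self]; exact x.asIdeal.zero_mem
      rcases x.2.mem_or_mem h5 with h | h
      · exact absurd h h3
      · exact absurd h h4
    · intro h; exact absurd h id
  · rw [codisjoint_iff]
    ext x
    refine ⟨fun _ => trivial, fun _ => ?_⟩
    by_cases hx : e ∈ x.asIdeal
    · right
      refine (mem_range_idem (1 - e) he' x).mpr fun h => ?_
      exact x.2.ne_top ((Ideal.eq_top_iff_one _).mpr (by
        have := x.asIdeal.add_mem hx h
        simpa using this))
    · left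
      exact (mem_range_idem e he x).mpr hx

end idem

variable {k : Type u} [Field k] [IsAlgClosed k] {R' : Type u} [CommRing R']

omit [IsAlgClosed k] in
theorem restrict_quot {X : Scheme.{u}} (f : X ⟶ Spec (CommRingCat.of R')) (n : ℕ)
    (ih : ∀ (A : Type u) [CommRing A] [Algebra k A] [Module.Finite k A] (_ : Module.finrank k A ≤ n) (ρ : R' →+* A)
      (y y' : Spec (CommRingCat.of A) ⟶ X) (_ : y ≫ f = Spec.map (CommRingCat.ofHom ρ))
      (_ : y' ≫ f = Spec.map (CommRingCat.ofHom ρ))
      (_ : Cond (Spec.map (CommRingCat.ofHom (algebraMap k A))) (Spec.map (CommRingCat.ofHom ρ)) f y y'),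
      Rel (Spec.map (CommRingCat.ofHom (algebraMap k A))) (Spec.map (CommRingCat.ofHom ρ)) f y y')
    {A : Type u} [CommRing A] [Algebra k A] [Module.Finite k A] (I : Ideal A) (hI : Module.finrank k (A ⧸ I) ≤ n)
    (ρ : R' →+* A)
    (y y' : Spec (CommRingCat.of A) ⟶ X) (hy : y ≫ f = Spec.map (CommRingCat.ofHom ρ))
    (hy' : y' ≫ f = Spec.map (CommRingCat.ofHom ρ))
    (hc : Cond (Spec.map (CommRingCat.ofHom (algebraMap k A))) (Spec.map (CommRingCat.ofHom ρ)) f y y') :
    Rel (Spec.map (CommRingCat.ofHom (Ideal.Quotient.mk I)) ≫ Spec.map (CommRingCat.ofHom (algebraMap k A)))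
      (Spec.map (CommRingCat.ofHom (Ideal.Quotient.mk I)) ≫ Spec.map (CommRingCat.ofHom ρ)) f
      (Spec.map (CommRingCat.ofHom (Ideal.Quotient.mk I)) ≫ y)
      (Spec.map (CommRingCat.ofHom (Ideal.Quotient.mk I)) ≫ y') := by
  have e1 : Spec.map (CommRingCat.ofHom (algebraMap k (A ⧸ I))) = Spec.map (CommRingCat.ofHom (Ideal.Quotient.mk I)) ≫
      Spec.map (CommRingCat.ofHom (algebraMap k A)) := by rw [← Spec.map_comp]; rfl
  have e2 : Spec.map (CommRingCat.ofHom ((Ideal.Quotient.mk I).comp ρ)) =
      Spec.map (CommRingCat.ofHom (Ideal.Quotient.mk I)) ≫ Spec.map (CommRingCat.ofHom ρ) := by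
    rw [CommRingCat.ofHom_comp, Spec.map_comp]
  have hc' := hc.restrict (Spec.map (CommRingCat.ofHom (Ideal.Quotient.mk I)))
  rw [← e1, ← e2] at hc' ⊢
  exact ih (A ⧸ I) hI ((Ideal.Quotient.mk I).comp ρ) _ _ (by rw [Category.assoc, hy, e2])
    (by rw [Category.assoc, hy', e2]) hc'

theorem rel_of_finite_aux {X : Scheme.{u}} (f : X ⟶ Spec (CommRingCat.of R')) [Smooth f] (n : ℕ) :
    ∀ (A : Type u) [CommRing A] [Algebra k A] [Module.Finite k A] (_ : Module.finrank k A ≤ n) (ρ : R' →+* A)
      (y y' : Spec (CommRingCat.of A) ⟶ X) (_ : y ≫ f = Spec.map (CommRingCat.ofHom ρ))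
      (_ : y' ≫ f = Spec.map (CommRingCat.ofHom ρ))
      (_ : Cond (Spec.map (CommRingCat.ofHom (algebraMap k A))) (Spec.map (CommRingCat.ofHom ρ)) f y y'),
      Rel (Spec.map (CommRingCat.ofHom (algebraMap k A))) (Spec.map (CommRingCat.ofHom ρ)) f y y' := by
  induction n with
  | zero =>
    intro A _ _ _ hn ρ y y' hy hy' hc
    have h0 : Module.finrank k A = 0 := Nat.le_zero.mp hn
    have hs : Subsingleton A := Module.finrank_zero_iff.mp h0
    have : IsEmpty (Spec (CommRingCat.of A)) := (PrimeSpectrum.isEmpty_iff_subsingleton (R := A)).mpr hs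
    have : y = y' := (isInitialOfIsEmpty).hom_ext _ _
    rw [this]; exact Rel.refl _
  | succ n ih =>
    intro A _ _ _ hn ρ y y' hy hy' hc
    have hart : IsArtinianRing A := IsArtinianRing.of_finite k A
    by_cases htriv : Subsingleton A
    · have : IsEmpty (Spec (CommRingCat.of A)) := (PrimeSpectrum.isEmpty_iff_subsingleton (R := A)).mpr htriv
      have : y = y' := (isInitialOfIsEmpty).hom_ext _ _
      rw [this]; exact Rel.refl _
    have hnt : Nontrivial A := not_subsingleton_iff_nontrivial.mp htriv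
    by_cases hloc : IsLocalRing A
    · -- the local case
      have hmax : (IsLocalRing.maximalIdeal A).IsMaximal := inferInstance
      have hbij : Function.Bijective (algebraMap k (A ⧸ IsLocalRing.maximalIdeal A)) := by
        letI := Ideal.Quotient.field (IsLocalRing.maximalIdeal A)
        exact IsAlgClosed.algebraMap_bijective_of_isIntegral
      let ε : k ≃ₐ[k] A ⧸ IsLocalRing.maximalIdeal A := AlgEquiv.ofBijective (Algebra.ofId k _) hbij
      let α : A →ₐ[k] k := ε.symm.toAlgHom.comp (Ideal.Quotient.mkₐ k (IsLocalRing.maximalIdeal A))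
      have hker : RingHom.ker α.toRingHom = IsLocalRing.maximalIdeal A := by
        have hs : Function.Surjective α.toRingHom := fun x => ⟨algebraMap k A x, by simp⟩
        exact IsLocalRing.eq_maximalIdeal (RingHom.ker_isMaximal_of_surjective _ hs)
      have hnil : IsNilpotent (RingHom.ker α.toRingHom) := by
        rw [hker, ← IsLocalRing.jacobson_eq_maximalIdeal ⊥ bot_ne_top]
        exact IsArtinianRing.isNilpotent_jacobson_bot
      obtain ⟨w, hw⟩ := Comp.exists_isRed α ρ f y hy
      obtain ⟨w', hw'⟩ := Comp.exists_isRed α ρ f y' hy'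
      refine Comp.rel_of_mem_connectedComponent α ρ f hnil y y' hy hy' w w' hw hw' ?_
      refine hc (Spec.map (CommRingCat.ofHom α.toRingHom)) ?_ _ ?_ w w' hw.1 hw.2 hw'.1 hw'.2 _
      · rw [← Spec.map_comp, ← CommRingCat.ofHom_comp, ← Spec.map_id]
        congr 2
        ext x
        exact α.commutes x
      · rw [CommRingCat.ofHom_comp, Spec.map_comp]
    · -- the non-local case
      obtain ⟨e, he, he0, he1⟩ := exists_idempotent hloc
      have h1 := isOpenImmersion_idem e he
      have h2 := isOpenImmersion_idem (1 - e) he.one_sub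
      refine Rel.glue (Spec.map (CommRingCat.ofHom (Ideal.Quotient.mk (Ideal.span {1 - e}))))
        (Spec.map (CommRingCat.ofHom (Ideal.Quotient.mk (Ideal.span {1 - (1 - e)})))) (isCompl_idem e he) y y' hy hy' ?_ ?_
      · have hlt : Module.finrank k (A ⧸ Ideal.span {1 - e}) < Module.finrank k A :=
          finrank_quotient_lt _ (by
            rw [Ne, Ideal.span_singleton_eq_bot, sub_eq_zero]
            exact fun h => he1 h.symm)
        exact restrict_quot f n ih _ (by omega) ρ y y' hy hy' hc
      · have hlt : Module.finrank k (A ⧸ Ideal.span {1 - (1 - e)}) < Module.finrank k A :=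
          finrank_quotient_lt _ (by
            rw [Ne, Ideal.span_singleton_eq_bot, sub_sub_cancel]
            exact he0)
        exact restrict_quot f n ih _ (by omega) ρ y y' hy hy' hc

/-- Points of a smooth scheme with values in a finite algebra over an algebraically closed field, whose reductions lie
in the same connected components of the fibres, are related by elementary connections. -/
theorem rel_of_finite {A : Type u} [CommRing A] [Algebra k A] [Module.Finite k A]
    {X : Scheme.{u}} (f : X ⟶ Spec (CommRingCat.of R')) [Smooth f] (ρ : R' →+* A)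
    (y y' : Spec (CommRingCat.of A) ⟶ X) (hy : y ≫ f = Spec.map (CommRingCat.ofHom ρ))
    (hy' : y' ≫ f = Spec.map (CommRingCat.ofHom ρ))
    (hc : Cond (Spec.map (CommRingCat.ofHom (algebraMap k A))) (Spec.map (CommRingCat.ofHom ρ)) f y y') :
    Rel (Spec.map (CommRingCat.ofHom (algebraMap k A))) (Spec.map (CommRingCat.ofHom ρ)) f y y' :=
  rel_of_finite_aux f _ A le_rfl ρ y y' hy hy' hc

end K487.Fin
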