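import Groth.Agent.Lefpen.H613.SqLift

/-!
# Infinitesimal lifting for smooth morphisms along surjections with nilpotent kernel
-/

set_option autoImplicit false
universe u

open CategoryTheory AlgebraicGeometry

namespace K487.SmLift

private theorem exists_lift_aux {X Y : Scheme.{u}} (f : X ⟶ Y) [Smooth f] (n : ℕ) :
    ∀ {A B : Type u} [CommRing A] [CommRing B]
    (π : A →+* B) (_ : Function.Surjective π) (_ : RingHom.ker π ^ (n + 1) = ⊥)
    (a : Spec (CommRingCat.of B) ⟶ X) (b : Spec (CommRingCat.of A) ⟶ Y)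
    (_ : Spec.map (CommRingCat.ofHom π) ≫ b = a ≫ f),
    ∃ l : Spec (CommRingCat.of A) ⟶ X, Spec.map (CommRingCat.ofHom π) ≫ l = a ∧ l ≫ f = b := by
  induction n with
  | zero =>
    intro A B _ _ π hπ hk a b h
    exact Groth.Agent.Lefpen.H613.SqLift.exists_lift f π hπ (by
      rw [zero_add, pow_one] at hk
      rw [hk, pow_two, Ideal.bot_mul]) a b h
  | succ n ih =>
    intro A B _ _ π hπ hk a b h
    let J : Ideal A := RingHom.ker π ^ (n + 1)
    have hJ : J ≤ RingHom.ker π := Ideal.pow_le_self (Nat.succ_ne_zero n)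
    let q : A →+* A ⧸ J := Ideal.Quotient.mk J
    let r : A ⧸ J →+* B := Ideal.Quotient.lift J π (fun x hx => hJ hx)
    have hrq : r.comp q = π := Ideal.Quotient.lift_comp_mk _ _ _
    have hr : Function.Surjective r := by
      intro x
      obtain ⟨y, hy⟩ := hπ x
      exact ⟨q y, by rw [← hy, ← hrq]; rfl⟩
    have hkr : RingHom.ker r ^ (n + 1) = ⊥ := by
      have h1 : RingHom.ker r = (RingHom.ker π).map q := by
        ext x
        obtain ⟨y, rfl⟩ := Ideal.Quotient.mk_surjective x
        rw [RingHom.mem_ker]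
        constructor
        · intro hx
          exact Ideal.mem_map_of_mem q (show π y = 0 from hx)
        · intro hx
          rw [Ideal.mem_map_iff_of_surjective q Ideal.Quotient.mk_surjective] at hx
          obtain ⟨z, hz, hzy⟩ := hx
          have : r (q z) = 0 := by
            have h2 : r (q z) = π z := by rw [← hrq]; rfl
            rw [h2]; exact hz
          rw [← hzy, this]
      rw [h1, ← Ideal.map_pow]
      exact Ideal.map_mk_eq_bot_of_le le_rfl
    have e : Spec.map (CommRingCat.ofHom π) =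
        Spec.map (CommRingCat.ofHom r) ≫ Spec.map (CommRingCat.ofHom q) := by
      rw [← Spec.map_comp, ← CommRingCat.ofHom_comp, hrq]
    obtain ⟨l₁, h1, h2⟩ := ih r hr hkr a (Spec.map (CommRingCat.ofHom q) ≫ b) (by
      rw [← Category.assoc, ← e, h])
    obtain ⟨l, h3, h4⟩ := Groth.Agent.Lefpen.H613.SqLift.exists_lift f q Ideal.Quotient.mk_surjective (by
      rw [Ideal.mk_ker, ← pow_mul]
      refine le_bot_iff.mp (le_trans (Ideal.pow_le_pow_right (by omega)) hk.le)) l₁ b h2.symm
    exact ⟨l, by rw [e, Category.assoc, h3, h1], h4⟩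

/-- Lifting along a surjection with nilpotent kernel. -/
theorem exists_lift {X Y : Scheme.{u}} (f : X ⟶ Y) [Smooth f] {A B : Type u} [CommRing A] [CommRing B]
    (π : A →+* B) (hπ : Function.Surjective π) (hk : IsNilpotent (RingHom.ker π))
    (a : Spec (CommRingCat.of B) ⟶ X) (b : Spec (CommRingCat.of A) ⟶ Y)
    (h : Spec.map (CommRingCat.ofHom π) ≫ b = a ≫ f) :
    ∃ l : Spec (CommRingCat.of A) ⟶ X, Spec.map (CommRingCat.ofHom π) ≫ l = a ∧ l ≫ f = b := by
  obtain ⟨n, hn⟩ := hk
  refine exists_lift_aux f n π hπ ?_ a b h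
  rw [pow_succ, hn, zero_mul]; rfl

end K487.SmLift
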