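import Groth.Agent.Neron.K487.Elem
import Groth.Agent.Neron.K487.SmLift
import Mathlib.RingTheory.PolynomialAlgebra

/-!
# Points with values in a local ring with the same reduction are connected by affine lines
-/

set_option autoImplicit false
universe u

open CategoryTheory CategoryTheory.Limits AlgebraicGeometry

namespace K487.Kernel

open K487.Elem Polynomial

/-- The line through two ring homomorphisms which agree modulo a square-zero ideal. -/
noncomputable def line {C A : Type u} [CommRing C] [CommRing A] (J : Ideal A) (hJ : ∀ a ∈ J, ∀ b ∈ J, a * b = 0)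
    (φ φ' : C →+* A) (h : ∀ c, φ' c - φ c ∈ J) : C →+* A[X] where
  toFun c := Polynomial.C (φ c) + X * Polynomial.C (φ' c - φ c)
  map_one' := by simp
  map_zero' := by simp
  map_add' a b := by simp only [map_add, map_sub]; ring
  map_mul' a b := by
    have h1 := hJ _ (h a) _ (h b)
    have h2 : φ' (a * b) - φ (a * b) = φ a * (φ' b - φ b) + (φ' a - φ a) * φ b := by
      rw [map_mul, map_mul]; linear_combination h1
    have h3 : Polynomial.C (φ' a - φ a) * Polynomial.C (φ' b - φ b) = 0 := by rw [← map_mul, h1, map_zero]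
    rw [h2, map_mul φ, map_add Polynomial.C, map_mul, map_mul, map_mul]
    linear_combination (-(X : A[X]) ^ 2) * h3

theorem line_apply {C A : Type u} [CommRing C] [CommRing A] (J : Ideal A) (hJ : ∀ a ∈ J, ∀ b ∈ J, a * b = 0)
    (φ φ' : C →+* A) (h : ∀ c, φ' c - φ c ∈ J) (c : C) :
    line J hJ φ φ' h c = Polynomial.C (φ c) + X * Polynomial.C (φ' c - φ c) := rfl

theorem eval_zero_line {C A : Type u} [CommRing C] [CommRing A] (J : Ideal A) (hJ : ∀ a ∈ J, ∀ b ∈ J, a * b = 0)
    (φ φ' : C →+* A) (h : ∀ c, φ' c - φ c ∈ J) : (evalRingHom 0).comp (line J hJ φ φ' h) = φ := by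
  ext c; simp [line_apply]

theorem eval_one_line {C A : Type u} [CommRing C] [CommRing A] (J : Ideal A) (hJ : ∀ a ∈ J, ∀ b ∈ J, a * b = 0)
    (φ φ' : C →+* A) (h : ∀ c, φ' c - φ c ∈ J) : (evalRingHom 1).comp (line J hJ φ φ' h) = φ' := by
  ext c; simp [line_apply]

/-- A point with values in a local ring factors through any affine open containing the image of the closed point. -/
theorem exists_factor {A : Type u} [CommRing A] [IsLocalRing A] {X : Scheme.{u}}
    (y : Spec (CommRingCat.of A) ⟶ X) {U : X.Opens} (hU : IsAffineOpen U)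
    (h : y (IsLocalRing.closedPoint A) ∈ U) :
    ∃ φ : Γ(X, U) →+* A, y = Spec.map (CommRingCat.ofHom φ) ≫ hU.fromSpec := by
  have hr : Set.range y ⊆ Set.range hU.fromSpec := by
    rw [hU.range_fromSpec]
    rintro _ ⟨p, rfl⟩
    exact ((IsLocalRing.specializes_closedPoint p).map y.continuous).mem_open U.isOpen h
  refine ⟨(Spec.preimage (IsOpenImmersion.lift hU.fromSpec y hr)).hom, ?_⟩
  rw [CommRingCat.ofHom_hom, Spec.map_preimage, IsOpenImmersion.lift_fac]

attribute [local instance] Polynomial.algebra in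
/-- The affine line over `k` gives elementary connections: the values at `0` and `1` of a point with values in `A[X]`. -/
theorem el_line {k A R' : Type u} [Field k] [CommRing A] [Algebra k A] [CommRing R'] (ρ : R' →+* A)
    {X : Scheme.{u}} (f : X ⟶ Spec (CommRingCat.of R')) (γ : Spec (CommRingCat.of A[X]) ⟶ X)
    (hγ : γ ≫ f = Spec.map (CommRingCat.ofHom (Polynomial.C : A →+* A[X])) ≫ Spec.map (CommRingCat.ofHom ρ)) :
    El (Spec.map (CommRingCat.ofHom (algebraMap k A))) (Spec.map (CommRingCat.ofHom ρ)) f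
      (Spec.map (CommRingCat.ofHom (evalRingHom 0)) ≫ γ) (Spec.map (CommRingCat.ofHom (evalRingHom 1)) ≫ γ) := by
  have sq : IsPullback (Spec.map (CommRingCat.ofHom (algebraMap k[X] A[X])))
      (Spec.map (CommRingCat.ofHom (algebraMap A A[X]))) (Spec.map (CommRingCat.ofHom (algebraMap k k[X])))
      (Spec.map (CommRingCat.ofHom (algebraMap k A))) :=
    isPullback_SpecMap_of_isPushout _ _ _ _ (CommRingCat.isPushout_of_isPushout k k[X] A A[X])
  have hC : ConnectedSpace (Spec (CommRingCat.of k[X])) := inferInstance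
  refine El.of_isPullback _ _ _ sq
    (Spec.map (CommRingCat.ofHom (evalRingHom 0))) (Spec.map (CommRingCat.ofHom (evalRingHom 1))) ?_ ?_ γ hγ
    (Spec.map (CommRingCat.ofHom (evalRingHom 0))) (Spec.map (CommRingCat.ofHom (evalRingHom 1))) ?_ ?_ ?_ ?_ rfl rfl
  · rw [← Spec.map_comp, ← CommRingCat.ofHom_comp, ← Spec.map_id]
    congr 2; ext x; simp
  · rw [← Spec.map_comp, ← CommRingCat.ofHom_comp, ← Spec.map_id]
    congr 2; ext x; simp
  · rw [← Spec.map_comp, ← CommRingCat.ofHom_comp, ← Spec.map_comp, ← CommRingCat.ofHom_comp]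
    congr 2; ext x <;> simp
  · rw [← Spec.map_comp, ← CommRingCat.ofHom_comp, ← Spec.map_id]
    congr 2; ext x; simp
  · rw [← Spec.map_comp, ← CommRingCat.ofHom_comp, ← Spec.map_comp, ← CommRingCat.ofHom_comp]
    congr 2; ext x <;> simp
  · rw [← Spec.map_comp, ← CommRingCat.ofHom_comp, ← Spec.map_id]
    congr 2; ext x; simp

theorem step {k A R' : Type u} [Field k] [CommRing A] [IsLocalRing A] [Algebra k A] [CommRing R'] (ρ : R' →+* A)
    {X : Scheme.{u}} (f : X ⟶ Spec (CommRingCat.of R')) [Smooth f] (I K : Ideal A) (hI : I ≤ IsLocalRing.maximalIdeal A)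
    (hII : I * I ≤ K) (hK : IsNilpotent K)
    (y y' : Spec (CommRingCat.of A) ⟶ X) (hy : y ≫ f = Spec.map (CommRingCat.ofHom ρ))
    (hy' : y' ≫ f = Spec.map (CommRingCat.ofHom ρ))
    (h : Spec.map (CommRingCat.ofHom (Ideal.Quotient.mk I)) ≫ y =
      Spec.map (CommRingCat.ofHom (Ideal.Quotient.mk I)) ≫ y') :
    ∃ z z' : Spec (CommRingCat.of A) ⟶ X,
      El (Spec.map (CommRingCat.ofHom (algebraMap k A))) (Spec.map (CommRingCat.ofHom ρ)) f z z' ∧
      Spec.map (CommRingCat.ofHom (Ideal.Quotient.mk K)) ≫ y = Spec.map (CommRingCat.ofHom (Ideal.Quotient.mk K)) ≫ z ∧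
      Spec.map (CommRingCat.ofHom (Ideal.Quotient.mk K)) ≫ z' =
        Spec.map (CommRingCat.ofHom (Ideal.Quotient.mk K)) ≫ y' := by
  -- an affine open containing the image of the closed point
  obtain ⟨U, hU, hyU, -⟩ := exists_isAffineOpen_mem_and_subset (x := y (IsLocalRing.closedPoint A)) (U := ⊤) trivial
  -- the closed point has the same image under `y` and `y'`
  have hclosed : y' (IsLocalRing.closedPoint A) = y (IsLocalRing.closedPoint A) := by
    let g : A ⧸ I →+* IsLocalRing.ResidueField A := Ideal.Quotient.lift I (IsLocalRing.residue A)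
      (fun a ha => (IsLocalRing.residue_eq_zero_iff a).mpr (hI ha))
    have hg : g.comp (Ideal.Quotient.mk I) = IsLocalRing.residue A := Ideal.Quotient.lift_comp_mk _ _ _
    have e : Spec.map (CommRingCat.ofHom (IsLocalRing.residue A)) =
        Spec.map (CommRingCat.ofHom g) ≫ Spec.map (CommRingCat.ofHom (Ideal.Quotient.mk I)) := by
      rw [← Spec.map_comp, ← CommRingCat.ofHom_comp, hg]
    have h' : Spec.map (CommRingCat.ofHom (IsLocalRing.residue A)) ≫ y' =
        Spec.map (CommRingCat.ofHom (IsLocalRing.residue A)) ≫ y := by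
      rw [e, Category.assoc, Category.assoc, h]
    have h2 := congr($h' (IsLocalRing.closedPoint (IsLocalRing.ResidueField A)))
    have h3 : (Spec.map (CommRingCat.ofHom (IsLocalRing.residue A)))
        (IsLocalRing.closedPoint (IsLocalRing.ResidueField A)) = IsLocalRing.closedPoint A :=
      IsLocalRing.PrimeSpectrum.comap_residue A _
    have h4 : y' ((Spec.map (CommRingCat.ofHom (IsLocalRing.residue A)))
        (IsLocalRing.closedPoint (IsLocalRing.ResidueField A))) = y ((Spec.map (CommRingCat.ofHom (IsLocalRing.residue A)))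
        (IsLocalRing.closedPoint (IsLocalRing.ResidueField A))) := h2
    rwa [h3] at h4
  obtain ⟨φ, hφ⟩ := exists_factor y hU hyU
  obtain ⟨φ', hφ'⟩ := exists_factor y' hU (by rw [hclosed]; exact hyU)
  -- the structure map
  obtain ⟨σ, hσ⟩ : ∃ σ : R' →+* Γ(X, U), Spec.map (CommRingCat.ofHom σ) = hU.fromSpec ≫ f :=
    ⟨(Spec.preimage (hU.fromSpec ≫ f)).hom, by rw [CommRingCat.ofHom_hom, Spec.map_preimage]⟩
  have hφσ : φ.comp σ = ρ := by
    have : Spec.map (CommRingCat.ofHom (φ.comp σ)) = Spec.map (CommRingCat.ofHom ρ) := by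
      rw [CommRingCat.ofHom_comp, Spec.map_comp, hσ, ← hy, hφ, Category.assoc]
    exact congrArg CommRingCat.Hom.hom (Spec.map_injective this)
  have hφσ' : φ'.comp σ = ρ := by
    have : Spec.map (CommRingCat.ofHom (φ'.comp σ)) = Spec.map (CommRingCat.ofHom ρ) := by
      rw [CommRingCat.ofHom_comp, Spec.map_comp, hσ, ← hy', hφ', Category.assoc]
    exact congrArg CommRingCat.Hom.hom (Spec.map_injective this)
  -- the two homomorphisms agree modulo `I`
  have hI' : ∀ c, φ' c - φ c ∈ I := by
    intro c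
    have h1 : Spec.map (CommRingCat.ofHom ((Ideal.Quotient.mk I).comp φ)) =
        Spec.map (CommRingCat.ofHom ((Ideal.Quotient.mk I).comp φ')) := by
      rw [← cancel_mono hU.fromSpec, CommRingCat.ofHom_comp, Spec.map_comp, CommRingCat.ofHom_comp, Spec.map_comp,
        Category.assoc, Category.assoc, ← hφ, ← hφ', h]
    have h2 := congrArg CommRingCat.Hom.hom (Spec.map_injective h1)
    have h3 : Ideal.Quotient.mk I (φ c) = Ideal.Quotient.mk I (φ' c) := RingHom.congr_fun h2 c
    exact Ideal.Quotient.eq.mp h3.symm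
  -- the line modulo `K`
  let q : A →+* A ⧸ K := Ideal.Quotient.mk K
  let J : Ideal (A ⧸ K) := I.map q
  have hJ : ∀ a ∈ J, ∀ b ∈ J, a * b = 0 := by
    intro a ha b hb
    have h1 : a * b ∈ J * J := Ideal.mul_mem_mul ha hb
    have h2 : J * J = ⊥ := by
      rw [← Ideal.map_mul]
      exact Ideal.map_mk_eq_bot_of_le hII
    rw [h2] at h1
    exact h1
  have hφJ : ∀ c, (q.comp φ') c - (q.comp φ) c ∈ J := by
    intro c
    rw [RingHom.comp_apply, RingHom.comp_apply, ← map_sub]
    exact Ideal.mem_map_of_mem q (hI' c)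
  let ψ := line J hJ (q.comp φ) (q.comp φ') hφJ
  have hψσ : ψ.comp σ = (Polynomial.C : A ⧸ K →+* (A ⧸ K)[X]).comp (q.comp ρ) := by
    ext r
    have h1 : φ (σ r) = ρ r := RingHom.congr_fun hφσ r
    have h2 : φ' (σ r) = ρ r := RingHom.congr_fun hφσ' r
    have h3 : ψ (σ r) = Polynomial.C (q (φ (σ r))) + Polynomial.X * Polynomial.C (q (φ' (σ r)) - q (φ (σ r))) := rfl
    rw [RingHom.comp_apply, h3, h1, h2, sub_self, map_zero, mul_zero, add_zero]
    rfl
  -- lift the line
  let πt : A[X] →+* (A ⧸ K)[X] := mapRingHom q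
  have hπt : Function.Surjective πt := Polynomial.map_surjective q Ideal.Quotient.mk_surjective
  have hker : IsNilpotent (RingHom.ker πt) := by
    obtain ⟨n, hn⟩ := hK
    refine ⟨n, ?_⟩
    rw [Polynomial.ker_mapRingHom, Ideal.mk_ker, ← Ideal.map_pow, hn]
    exact Ideal.map_bot
  obtain ⟨γ, hγ1, hγ2⟩ := SmLift.exists_lift f πt hπt hker
    (Spec.map (CommRingCat.ofHom ψ) ≫ hU.fromSpec)
    (Spec.map (CommRingCat.ofHom (Polynomial.C : A →+* A[X])) ≫ Spec.map (CommRingCat.ofHom ρ)) (by
      have e1 : Spec.map (CommRingCat.ofHom ψ) ≫ Spec.map (CommRingCat.ofHom σ) =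
          Spec.map (CommRingCat.ofHom (ψ.comp σ)) := by rw [CommRingCat.ofHom_comp, Spec.map_comp]
      rw [Category.assoc, ← hσ, e1, hψσ, ← Spec.map_comp, ← CommRingCat.ofHom_comp, ← Spec.map_comp,
        ← CommRingCat.ofHom_comp]
      congr 2
      ext r
      simp [πt])
  refine ⟨_, _, el_line ρ f γ hγ2, ?_, ?_⟩
  · have e : Spec.map (CommRingCat.ofHom q) ≫ Spec.map (CommRingCat.ofHom (evalRingHom (0 : A))) =
        Spec.map (CommRingCat.ofHom (evalRingHom (0 : A ⧸ K))) ≫ Spec.map (CommRingCat.ofHom πt) := by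
      rw [← Spec.map_comp, ← CommRingCat.ofHom_comp, ← Spec.map_comp, ← CommRingCat.ofHom_comp]
      congr 2
      ext x <;> simp [πt]
    rw [← Category.assoc, e, Category.assoc, hγ1, ← Category.assoc, ← Spec.map_comp, ← CommRingCat.ofHom_comp,
      eval_zero_line, CommRingCat.ofHom_comp, Spec.map_comp, Category.assoc, ← hφ]
  · have e : Spec.map (CommRingCat.ofHom q) ≫ Spec.map (CommRingCat.ofHom (evalRingHom (1 : A))) =
        Spec.map (CommRingCat.ofHom (evalRingHom (1 : A ⧸ K))) ≫ Spec.map (CommRingCat.ofHom πt) := by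
      rw [← Spec.map_comp, ← CommRingCat.ofHom_comp, ← Spec.map_comp, ← CommRingCat.ofHom_comp]
      congr 2
      ext x <;> simp [πt]
    rw [← Category.assoc, e, Category.assoc, hγ1, ← Category.assoc, ← Spec.map_comp, ← CommRingCat.ofHom_comp,
      eval_one_line, CommRingCat.ofHom_comp, Spec.map_comp, Category.assoc, ← hφ']

/-- Points with values in a local ring with nilpotent maximal ideal and with the same reduction are related. -/
theorem rel_of_reduction_eq {k A R' : Type u} [Field k] [CommRing A] [IsLocalRing A] [Algebra k A] [CommRing R']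
    (ρ : R' →+* A) (hA : IsNilpotent (IsLocalRing.maximalIdeal A))
    {X : Scheme.{u}} (f : X ⟶ Spec (CommRingCat.of R')) [Smooth f]
    (y y' : Spec (CommRingCat.of A) ⟶ X) (hy : y ≫ f = Spec.map (CommRingCat.ofHom ρ))
    (hy' : y' ≫ f = Spec.map (CommRingCat.ofHom ρ))
    (h : Spec.map (CommRingCat.ofHom (Ideal.Quotient.mk (IsLocalRing.maximalIdeal A))) ≫ y =
      Spec.map (CommRingCat.ofHom (Ideal.Quotient.mk (IsLocalRing.maximalIdeal A))) ≫ y') :
    Rel (Spec.map (CommRingCat.ofHom (algebraMap k A))) (Spec.map (CommRingCat.ofHom ρ)) f y y' := by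
  obtain ⟨N, hN⟩ := hA
  let 𝔪 := IsLocalRing.maximalIdeal A
  have key : ∀ (d i : ℕ), N ≤ i + 1 + d → ∀ (y y' : Spec (CommRingCat.of A) ⟶ X)
      (_ : y ≫ f = Spec.map (CommRingCat.ofHom ρ)) (_ : y' ≫ f = Spec.map (CommRingCat.ofHom ρ))
      (_ : Spec.map (CommRingCat.ofHom (Ideal.Quotient.mk (𝔪 ^ (i + 1)))) ≫ y =
        Spec.map (CommRingCat.ofHom (Ideal.Quotient.mk (𝔪 ^ (i + 1)))) ≫ y'),
      Rel (Spec.map (CommRingCat.ofHom (algebraMap k A))) (Spec.map (CommRingCat.ofHom ρ)) f y y' := by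
    intro d
    induction d with
    | zero =>
      intro i hi y y' _ _ h
      have hbot : 𝔪 ^ (i + 1) = ⊥ := le_bot_iff.mp ((Ideal.pow_le_pow_right (by omega)).trans hN.le)
      have hbij : Function.Bijective (Ideal.Quotient.mk (𝔪 ^ (i + 1))) := by
        refine ⟨?_, Ideal.Quotient.mk_surjective⟩
        rw [RingHom.injective_iff_ker_eq_bot, Ideal.mk_ker, hbot]
      have : IsIso (CommRingCat.ofHom (Ideal.Quotient.mk (𝔪 ^ (i + 1)))) :=
        (ConcreteCategory.isIso_iff_bijective _).mpr hbij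
      have : y = y' := by
        rw [← cancel_epi (Spec.map (CommRingCat.ofHom (Ideal.Quotient.mk (𝔪 ^ (i + 1))))), h]
      rw [this]; exact Rel.refl _
    | succ d ih =>
      intro i hi y y' hy hy' h
      obtain ⟨z, z', h1, h2, h3⟩ := step (k := k) ρ f (𝔪 ^ (i + 1)) (𝔪 ^ (i + 1 + 1))
        (Ideal.pow_le_self (Nat.succ_ne_zero i)) (by
          rw [← pow_add]; exact Ideal.pow_le_pow_right (by omega))
        ⟨N, by
          rw [← pow_mul]
          refine le_bot_iff.mp ((Ideal.pow_le_pow_right ?_).trans hN.le)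
          exact Nat.le_mul_of_pos_left _ (Nat.succ_pos _)⟩ y y' hy hy' h
      exact ((ih (i + 1) (by omega) y z hy h1.left_over h2).trans (Rel.of_el h1)).trans
        (ih (i + 1) (by omega) z' y' h1.right_over hy' h3)
  refine key N 0 (by omega) y y' hy hy' ?_
  have e : 𝔪 ^ (0 + 1) = IsLocalRing.maximalIdeal A := by rw [zero_add, pow_one]
  rw [e]; exact h

end K487.Kernel
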