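import Groth.Agent.Neron.K487.Ext64

/-!
# The Néron lft-model of the Jacobian of a curve
-/

set_option autoImplicit false
universe u

open CategoryTheory CategoryTheory.Limits AlgebraicGeometry TopologicalSpace MonObj
open Groth.Agent Groth.Agent.Grpsch Groth.Agent.Grpsch.PicGrp
open K488.Psi K488.NormKer

namespace K487.Main64

/-- The Néron mapping property, over the generic point. -/
def IsNer {S : Scheme.{u}} [IrreducibleSpace S] (X : Over S) (J : Over (Spec S.functionField))
    (e : (Over.pullback (S.fromSpecStalk (genericPoint S))).obj X ≅ J) : Prop :=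
  ∀ Y : Over S, Smooth Y.hom →
    Function.Bijective (fun h : Y ⟶ X => (Over.pullback (S.fromSpecStalk (genericPoint S))).map h ≫ e.hom)

theorem main {S : Scheme.{u}} [IsIntegral S] [IsNoetherian S] [S.IsSeparated]
    (hreg : ∀ s : S, IsRegularLocalRing (S.presheaf.stalk s)) (hdimS : topologicalKrullDim S = 1)
    (hexc : ∀ U : S.affineOpens, EGA4.IsExcellent Γ(S, U))
    {C Cn : Scheme.{u}} (g : C ⟶ Spec (CommRingCat.of S.functionField)) [IsProper g] [IsReduced C]
    (hdimC : topologicalKrullDim C ≤ 1)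
    (hpt : ∀ W ∈ irreducibleComponents (C : Type u), ∃ y ∈ W, y ∈ g.smoothLocus ∧ IsIso (g.residueFieldMap y))
    (ν : Cn ⟶ C) [IsFinite ν] (hn : Pi1.IsNormalScheme Cn) (U : C.Opens) (hU : Dense (U : Set C))
    (hU' : Dense ((ν ⁻¹ᵁ U : Cn.Opens) : Set Cn)) (hiso : IsIso (ν ∣_ U))
    (J Jn : Over (Spec (CommRingCat.of S.functionField))) [GrpObj J] [GrpObj Jn]
    (φ : ∀ T : Over (Spec (CommRingCat.of S.functionField)), PicF.Cl (PicF.XT g T) → (T ⟶ J))
    (φn : ∀ T : Over (Spec (CommRingCat.of S.functionField)), PicF.Cl (PicF.XT (ν ≫ g) T) → (T ⟶ Jn))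
    (hJn : AbDual.IsDualAV Scheme.fppfPrecoverage (Over.mk (ν ≫ g)) Jn φn)
    (νt : J ⟶ Jn) [IsMonHom νt]
    (hνt : AbDual.IsTranspose (Over.homMk ν rfl : Over.mk (ν ≫ g) ⟶ Over.mk g) φn φ νt)
    (N : Over (Spec (CommRingCat.of S.functionField))) [GrpObj N] (j : N ⟶ J) [IsMonHom j] (hker : AlgGrp.IsKernel j νt)
    (A : Over S) (eA : (Over.pullback (S.fromSpecStalk (genericPoint S))).obj A ≅ N)
    [Smooth A.hom] [IsSeparated A.hom] (hA : IsNer A N eA)
    (X : Over S) (eX : (Over.pullback (S.fromSpecStalk (genericPoint S))).obj X ≅ Jn)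
    [Smooth X.hom] [IsSeparated X.hom] (hX : IsNer X Jn eX) :
    ∃ (M : Over S) (e : (Over.pullback (S.fromSpecStalk (genericPoint S))).obj M ≅ J),
      Smooth M.hom ∧ IsSeparated M.hom ∧ IsNer M J e := by
  let D : TorsGlue.Ctx (S.fromSpecStalk (genericPoint S)) :=
    { N := N
      J := J
      Q := Jn
      j := j
      p := νt
      ker := hker
      U := A.left
      X := X.left
      uu := A.hom
      xx := X.hom
      nU := _
      nX := _
      npU := TorsGlue.np_of_bij eA hA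
      npX := TorsGlue.np_of_bij eX hX }
  have : IsSeparated D.uu := ‹IsSeparated A.hom›
  have : IsSeparated D.xx := ‹IsSeparated X.hom›
  obtain ⟨M, m, nM, h1, h2, h3⟩ := TorsGlue.exists_np D (fun t => by
    obtain ⟨W, htW, σ, hσ⟩ := Ext64.exists_idx hreg hdimS.le hexc g hdimC ν hn U hU hU' hiso hpt hJn hνt X.hom D.nX
      D.npX.sq t
    exact ⟨⟨W, σ, hσ⟩, htW⟩)
  obtain ⟨e, -, he⟩ := TorsGlue.exists_bij_of_np (X := Over.mk m) (XT := J) nM h3
  exact ⟨Over.mk m, e, h1, h2, he⟩

end K487.Main64
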