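import Mathlib.AlgebraicGeometry.Morphisms.Smooth
import Mathlib.AlgebraicGeometry.Morphisms.Separated
import Mathlib.AlgebraicGeometry.FunctionField
import Mathlib.AlgebraicGeometry.Stalk
import Mathlib.AlgebraicGeometry.Noetherian
import Mathlib.AlgebraicGeometry.SpreadingOut
import Mathlib.AlgebraicGeometry.Morphisms.Preimmersion
import Mathlib.CategoryTheory.Comma.Over.Pullback

/-!
# The Néron mapping property in terms of plain morphisms of schemes

`bij_iff`: base change along `j` is bijective on `Hom (Y, G)` iff every `S`-morphism from the base change of `Y` to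
`G` extends uniquely to `Y`.
-/

universe u

open CategoryTheory CategoryTheory.Limits AlgebraicGeometry

namespace K487.MapProp

variable {S T : Scheme.{u}}

/-- Base change along `j : T ⟶ S` is bijective on `Hom_S(Y, G)` iff every `S`-morphism `Y ×_S T ⟶ G` extends uniquely
to an `S`-morphism `Y ⟶ G`. -/
theorem bij_iff (j : T ⟶ S) (Y G : Over S) :
    Function.Bijective (fun g : Y ⟶ G => (Over.pullback j).map g) ↔
      ∀ f : pullback Y.hom j ⟶ G.left, f ≫ G.hom = pullback.fst Y.hom j ≫ Y.hom →
        ∃! g : Y.left ⟶ G.left, g ≫ G.hom = Y.hom ∧ pullback.fst Y.hom j ≫ g = f := by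
  have hmap : ∀ g : Y ⟶ G, ((Over.pullback j).map g).left ≫ pullback.fst G.hom j =
      pullback.fst Y.hom j ≫ g.left := by
    intro g; exact pullback.lift_fst _ _ _
  constructor
  · intro h f hf
    let f' : (Over.pullback j).obj Y ⟶ (Over.pullback j).obj G :=
      Over.homMk (pullback.lift f (pullback.snd _ _) (by rw [hf, pullback.condition])) (pullback.lift_snd _ _ _)
    obtain ⟨g, hg⟩ := h.2 f'
    refine ⟨g.left, ⟨Over.w g, ?_⟩, ?_⟩
    · rw [← hmap g]
      have : ((Over.pullback j).map g).left = f'.left := by rw [← hg]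
      rw [this]; exact pullback.lift_fst _ _ _
    · rintro g' ⟨h1, h2⟩
      let g'' : Y ⟶ G := Over.homMk g' h1
      have : g'' = g := by
        apply h.1
        show (Over.pullback j).map g'' = (Over.pullback j).map g
        apply (Over.forget _).map_injective
        show ((Over.pullback j).map g'').left = ((Over.pullback j).map g).left
        refine pullback.hom_ext ?_ ?_
        · rw [hmap, hmap]
          show pullback.fst Y.hom j ≫ g' = _
          rw [h2, ← hmap g]
          have : ((Over.pullback j).map g).left = f'.left := by rw [← hg]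
          rw [this]; exact (pullback.lift_fst _ _ _).symm
        · exact (Over.w ((Over.pullback j).map g'')).trans (Over.w ((Over.pullback j).map g)).symm
      rw [← this]; rfl
  · intro h
    constructor
    · intro g g' hgg
      have hgg' : (Over.pullback j).map g = (Over.pullback j).map g' := hgg
      obtain ⟨g₀, -, hu⟩ := h (pullback.fst Y.hom j ≫ g.left) (by rw [Category.assoc, Over.w g])
      apply (Over.forget _).map_injective
      show g.left = g'.left
      rw [hu g.left ⟨Over.w g, rfl⟩]
      refine (hu g'.left ⟨Over.w g', ?_⟩).symm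
      rw [← hmap, ← hmap, hgg']
    · intro f'
      obtain ⟨g, ⟨h1, h2⟩, -⟩ := h (f'.left ≫ pullback.fst G.hom j) (by
        have := Over.w f'
        rw [Category.assoc, pullback.condition, ← Category.assoc]
        have e : f'.left ≫ pullback.snd G.hom j = pullback.snd Y.hom j := this
        rw [e, pullback.condition])
      refine ⟨Over.homMk g h1, ?_⟩
      apply (Over.forget _).map_injective
      show ((Over.pullback j).map (Over.homMk g h1)).left = f'.left
      refine pullback.hom_ext ?_ ?_
      · rw [hmap]; exact h2
      · exact (Over.w ((Over.pullback j).map (Over.homMk g h1))).trans (Over.w f').symm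

/-- Relative form: for `i : S' ⟶ S`, `j : T ⟶ S'`, `G` over `S` and `Z` over `S'`, base change along `j` is bijective on
`Hom_{S'}(Z, G ×_S S')` iff every `S`-morphism from `Z ×_{S'} T` to `G` extends uniquely to `Z`; here the base change
of `Z` may be any pullback square. -/
theorem exists_unique_of_bij {S' : Scheme.{u}} (i : S' ⟶ S) (j : T ⟶ S') (G : Over S)
    {Z ZT : Scheme.{u}} (z : Z ⟶ S') (a : ZT ⟶ Z) (b : ZT ⟶ T) (sq : IsPullback a b z j)
    (h : Function.Bijective (fun g : Over.mk z ⟶ (Over.pullback i).obj G => (Over.pullback j).map g))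
    (f : ZT ⟶ G.left) (hf : f ≫ G.hom = a ≫ z ≫ i) :
    ∃! g : Z ⟶ G.left, g ≫ G.hom = z ≫ i ∧ a ≫ g = f := by
  have h1 := (bij_iff j (Over.mk z) ((Over.pullback i).obj G)).mp h
  let e : pullback z j ≅ ZT := sq.isoPullback.symm
  have he : e.hom ≫ a = pullback.fst z j := sq.isoPullback_inv_fst
  obtain ⟨g, ⟨hg1, hg2⟩, hg3⟩ := h1 (pullback.lift (e.hom ≫ f) (pullback.fst z j ≫ z) (by
    rw [Category.assoc, hf, ← he]; simp)) (pullback.lift_snd _ _ _)
  have hg1' : g ≫ pullback.snd G.hom i = z := hg1
  refine ⟨g ≫ pullback.fst G.hom i, ⟨?_, ?_⟩, ?_⟩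
  · rw [Category.assoc, pullback.condition, ← Category.assoc, hg1']
  · rw [← cancel_epi e.hom, ← Category.assoc, he, ← Category.assoc]
    have : pullback.fst z j ≫ g = _ := hg2
    rw [this]; exact pullback.lift_fst _ _ _
  · rintro g' ⟨h2, h3⟩
    have := hg3 (pullback.lift g' z h2) ⟨pullback.lift_snd _ _ _, by
      show pullback.fst z j ≫ _ = _
      refine pullback.hom_ext ?_ ?_
      · rw [Category.assoc, pullback.lift_fst, pullback.lift_fst, ← he, Category.assoc, h3]
      · rw [Category.assoc, pullback.lift_snd, pullback.lift_snd]⟩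
    rw [← this]; exact (pullback.lift_fst _ _ _).symm

end K487.MapProp
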