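import Groth.Agent.Grpsch.CubeLift
import Groth.Agent.Grpsch.PicGrp
import Groth.Agent.PicF.K246.Basic
import Groth.Agent.Pic13.H953.PicDisj
import Mathlib.AlgebraicGeometry.Fiber
import Mathlib.AlgebraicGeometry.Morphisms.ClosedImmersion

/-!
# Classes of invertible modules on affine schemes over discrete schemes
-/

set_option autoImplicit false
universe u

open CategoryTheory CategoryTheory.Limits AlgebraicGeometry TopologicalSpace
open Groth.Agent.Grpsch.PicGrp Groth.Agent.Fdesc.LocGen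

namespace K487.PicNil

/-- A class on an affine scheme which is trivial on a closed subscheme with the same space is trivial. -/
theorem eq_one_of_nil {X X₀ : Scheme.{u}} [IsAffine X] (i : X₀ ⟶ X) [IsClosedImmersion i] [Surjective i]
    (c : Pic X) (h : pull i c = 1) : c = 1 := by
  obtain ⟨L, hL, rfl⟩ := exists_mk c
  rw [pull_mk, mk_eq_one_iff, K246.Basic.nonempty_iso_iff_top] at h
  obtain ⟨m, hm⟩ := h
  rw [mk_eq_one_iff]
  obtain ⟨σ, -, hσ⟩ := Groth.Agent.Grpsch.CubeLift.exists_lift i hL (W := ⊤) (isAffineOpen_top X) (m := m) hm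
  exact K246.Basic.nonempty_iso_of_isGen_top hσ

/-- A class on an affine scheme over a discrete scheme which is trivial on the fibres is trivial. -/
theorem eq_one_of_fibres {Y Z : Scheme.{u}} (f : Y ⟶ Z) [IsAffineHom f] [DiscreteTopology Z] (c : Pic Y)
    (h : ∀ z : Z, pull (f.fiberι z) c = 1) : c = 1 := by
  let O : Z → Z.Opens := fun z => ⟨{z}, isOpen_discrete _⟩
  refine Groth.Agent.Pic13.H953.PicDisj.eq_one_of_pull (V := fun z => ((f ⁻¹ᵁ O z : Y.Opens) : Scheme.{u}))
    (fun z => (f ⁻¹ᵁ O z).ι) ?_ ?_ c ?_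
  · intro z z' hz
    rw [Set.disjoint_iff_forall_ne]
    rintro _ ⟨a, rfl⟩ _ ⟨b, rfl⟩ hab
    have ha : f a.1 = z := a.2
    have hb : f b.1 = z' := b.2
    have hab' : a.1 = b.1 := hab
    exact hz (by rw [← ha, ← hb, hab'])
  · intro y
    exact ⟨f y, ⟨⟨y, rfl⟩, rfl⟩⟩
  · intro z
    have hO : IsAffineOpen (O z) := by
      obtain ⟨_, ⟨W, hW, rfl⟩, hzW, hWO⟩ :=
        Z.isBasis_affineOpens.exists_subset_of_mem_open (a := z) (u := (O z : Set Z)) rfl (O z).2
      have : W = O z := le_antisymm hWO (fun y hy => by rw [show y = z from hy]; exact hzW)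
      rw [← this]; exact hW
    have hA : IsAffineOpen (f ⁻¹ᵁ O z) := hO.preimage f
    have : IsAffine (f ⁻¹ᵁ O z : Y.Opens) := hA
    have hcl : IsClosedImmersion (Z.fromSpecResidueField z) :=
      isClosed_singleton_iff_isClosedImmersion.mp (isClosed_discrete _)
    have hcl' : IsClosedImmersion (f.fiberι z) := inferInstanceAs (IsClosedImmersion (pullback.fst _ _))
    have hr : Set.range (f.fiberι z) ⊆ Set.range (f ⁻¹ᵁ O z).ι := by
      rw [Scheme.Hom.range_fiberι, Scheme.Opens.range_ι]; exact subset_rfl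
    have hfac : IsOpenImmersion.lift (f ⁻¹ᵁ O z).ι (f.fiberι z) hr ≫ (f ⁻¹ᵁ O z).ι = f.fiberι z :=
      IsOpenImmersion.lift_fac _ _ _
    have h1 : IsClosedImmersion (IsOpenImmersion.lift (f ⁻¹ᵁ O z).ι (f.fiberι z) hr) := by
      have : IsClosedImmersion (IsOpenImmersion.lift (f ⁻¹ᵁ O z).ι (f.fiberι z) hr ≫ (f ⁻¹ᵁ O z).ι) := by
        rw [hfac]; exact hcl'
      exact IsClosedImmersion.of_comp _ (f ⁻¹ᵁ O z).ι
    have h2 : Surjective (IsOpenImmersion.lift (f ⁻¹ᵁ O z).ι (f.fiberι z) hr) := by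
      refine ⟨fun y => ?_⟩
      have hy : y.1 ∈ Set.range (f.fiberι z) := by
        rw [Scheme.Hom.range_fiberι]; exact y.2
      obtain ⟨w, hw⟩ := hy
      refine ⟨w, Subtype.ext ?_⟩
      have h3 : (IsOpenImmersion.lift (f ⁻¹ᵁ O z).ι (f.fiberι z) hr ≫ (f ⁻¹ᵁ O z).ι) w = y.1 := by
        rw [hfac]; exact hw
      exact h3
    refine eq_one_of_nil (IsOpenImmersion.lift (f ⁻¹ᵁ O z).ι (f.fiberι z) hr) _ ?_
    rw [← pull_comp, hfac]; exact h z

end K487.PicNil
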