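import Groth.Agent.Neron.K487.MapProp
import Groth.Agent.Sga7.H736.RelGlue
import Groth.Agent.FlatB.PushGlue
import Groth.Agent.EGA2.K41.SpecBC
import Groth.Prelude.Def_AlgGrp

/-!
# Extensions of Néron lft-models by Néron lft-models

`NP gn q x n`: the `S`-scheme `X` has the Néron mapping property for its base change `XT` to `T`.
`Ctx`: an extension `1 → N → J → Q → 1` of group schemes over `T`, mapping properties of `U ⊇ N` and `X ⊇ Q`, such
that `J → Q` has sections over the generic fibres of the members of an open covering of `X`. The pieces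
`U ×_S W` and their transition maps are constructed here.
-/

set_option autoImplicit false
universe u

open CategoryTheory CategoryTheory.Limits AlgebraicGeometry MonObj
open MonoidalCategory CartesianMonoidalCategory TopologicalSpace

namespace K487.TorsGlue

variable {S T : Scheme.{u}}

/-- `X` is an `S`-scheme with the Néron mapping property for its base change `XT` to `T`. -/
structure NP (gn : T ⟶ S) {X XT : Scheme.{u}} (q : X ⟶ S) (x : XT ⟶ T) (n : XT ⟶ X) : Prop where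
  sq : IsPullback n x q gn
  ext : ∀ {Y YT : Scheme.{u}} (y : Y ⟶ S) (yt : YT ⟶ T) (c : YT ⟶ Y), Smooth y → IsPullback c yt y gn →
    ∀ a : YT ⟶ XT, a ≫ x = yt → ∃ b : Y ⟶ X, b ≫ q = y ∧ c ≫ b = a ≫ n
  uniq : ∀ {Y YT : Scheme.{u}} (y : Y ⟶ S) (yt : YT ⟶ T) (c : YT ⟶ Y), Smooth y → IsPullback c yt y gn →
    ∀ b b' : Y ⟶ X, b ≫ q = y → b' ≫ q = y → c ≫ b = c ≫ b' → b = b'

variable {gn : T ⟶ S}

theorem isPullback_prod {A B AT BT : Scheme.{u}} {α : A ⟶ S} {β : B ⟶ S} {αt : AT ⟶ T} {βt : BT ⟶ T}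
    {a : AT ⟶ A} {b : BT ⟶ B} (ha : IsPullback a αt α gn) (hb : IsPullback b βt β gn)
    {P PT : Scheme.{u}} {p₁ : P ⟶ A} {p₂ : P ⟶ B} (hP : IsPullback p₁ p₂ α β)
    {t₁ : PT ⟶ AT} {t₂ : PT ⟶ BT} (hPT : IsPullback t₁ t₂ αt βt) (c : PT ⟶ P)
    (h1 : c ≫ p₁ = t₁ ≫ a) (h2 : c ≫ p₂ = t₂ ≫ b) : IsPullback c t₁ p₁ a := by
  have k1 : IsPullback (t₂ ≫ b) t₁ β (a ≫ α) := by
    rw [ha.w]; exact hPT.flip.paste_horiz hb
  refine IsPullback.of_right ?_ h1 hP.flip
  rw [h2]; exact k1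

theorem exists_ker {N J Q : Over T} [GrpObj Q] {j : N ⟶ J} {p : J ⟶ Q}
    (hN : AlgGrp.IsKernel j p) {Y : Over T} (f : Y ⟶ J) (hf : f ≫ p = 1) : ∃ g : Y ⟶ N, g ≫ j = f :=
  ⟨hN.lift f (toUnit Y) (by rw [hf]; rfl), hN.lift_fst _ _ _⟩

theorem ker_ext {N J Q : Over T} [GrpObj Q] {j : N ⟶ J} {p : J ⟶ Q}
    (hN : AlgGrp.IsKernel j p) {Y : Over T} (g g' : Y ⟶ N) (h : g ≫ j = g' ≫ j) : g = g' :=
  hN.hom_ext h (toUnit_unique _ _)

/-- The data of an extension of mapping properties. -/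
structure Ctx (gn : T ⟶ S) where
  N : Over T
  J : Over T
  Q : Over T
  [gN : GrpObj N]
  [gJ : GrpObj J]
  [gQ : GrpObj Q]
  j : N ⟶ J
  p : J ⟶ Q
  [mj : IsMonHom j]
  [mp : IsMonHom p]
  ker : AlgGrp.IsKernel j p
  U : Scheme.{u}
  X : Scheme.{u}
  uu : U ⟶ S
  xx : X ⟶ S
  nU : N.left ⟶ U
  nX : Q.left ⟶ X
  [sU : Smooth uu]
  [sX : Smooth xx]
  npU : NP gn uu N.hom nU
  npX : NP gn xx Q.hom nX

attribute [instance] Ctx.gN Ctx.gJ Ctx.gQ Ctx.mj Ctx.mp Ctx.sU Ctx.sX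

variable (D : Ctx gn)

/-- Local sections of `J → Q` over generic fibres of opens of `X`. -/
structure Idx where
  W : D.X.Opens
  σ : Over.mk ((D.nX ⁻¹ᵁ W).ι ≫ D.Q.hom) ⟶ D.J
  hσ : σ ≫ D.p = Over.homMk (D.nX ⁻¹ᵁ W).ι rfl

namespace Idx

variable {D}

instance : Preorder (Idx D) where
  le i k := i.W ≤ k.W
  le_refl _ := le_refl _
  le_trans _ _ _ h h' := le_trans h h'

variable (i k l : Idx D)

/-- The generic fibre of `W`, inside `Q`. -/
noncomputable abbrev QT : Over T := Over.mk ((D.nX ⁻¹ᵁ i.W).ι ≫ D.Q.hom)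

/-- The inclusion into `Q`. -/
noncomputable abbrev inc : i.QT ⟶ D.Q := Over.homMk (D.nX ⁻¹ᵁ i.W).ι rfl

variable {i k l}

theorem pre_le (h : i ≤ k) : D.nX ⁻¹ᵁ i.W ≤ D.nX ⁻¹ᵁ k.W := (Opens.map D.nX.base).monotone h

/-- Restriction. -/
noncomputable def res (h : i ≤ k) : i.QT ⟶ k.QT :=
  Over.homMk (D.Q.left.homOfLE (pre_le h)) (by simp)

theorem res_inc (h : i ≤ k) : res h ≫ k.inc = i.inc := by
  ext1; simp [res]

theorem res_refl : res (le_refl i) = 𝟙 _ := by
  ext1; simp [res]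

theorem res_trans (h : i ≤ k) (h' : k ≤ l) : res (h.trans h') = res h ≫ res h' := by
  ext1; simp [res]

theorem diff_aux (h : i ≤ k) : (i.σ * (res h ≫ k.σ)⁻¹) ≫ D.p = 1 := by
  rw [MonObj.mul_comp, GrpObj.inv_comp, Category.assoc, i.hσ, k.hσ]
  have : res h ≫ k.inc = i.inc := res_inc h
  rw [this]
  exact mul_inv_cancel _

/-- The difference of two sections. -/
noncomputable def diff (h : i ≤ k) : i.QT ⟶ D.N := (exists_ker D.ker _ (diff_aux h)).choose

theorem diff_j (h : i ≤ k) : diff h ≫ D.j = i.σ * (res h ≫ k.σ)⁻¹ := (exists_ker D.ker _ (diff_aux h)).choose_spec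

theorem diff_eq_one (h : i ≤ k) (hs : i.σ = res h ≫ k.σ) : diff h = 1 := by
  refine ker_ext D.ker _ _ ?_
  rw [diff_j, MonObj.one_comp, ← hs]
  exact mul_inv_cancel _

theorem diff_trans (h : i ≤ k) (h' : k ≤ l) : diff (h.trans h') = diff h * (res h ≫ diff h') := by
  refine ker_ext D.ker _ _ ?_
  rw [diff_j, MonObj.mul_comp, Category.assoc, diff_j, diff_j, MonObj.comp_mul, GrpObj.comp_inv, res_trans h h',
    Category.assoc]
  group

variable (i)

/-- The piece `U ×_S W`. -/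
noncomputable abbrev P : Scheme.{u} := pullback D.uu (i.W.ι ≫ D.xx)

/-- The generic fibre of the piece. -/
noncomputable abbrev PT : Over T := Over.mk (pullback.fst D.N.hom i.QT.hom ≫ D.N.hom)

/-- First projection. -/
noncomputable abbrev t₁ : i.PT ⟶ D.N := Over.homMk (pullback.fst D.N.hom i.QT.hom) rfl

/-- Second projection. -/
noncomputable abbrev t₂ : i.PT ⟶ i.QT := Over.homMk (pullback.snd D.N.hom i.QT.hom) pullback.condition.symm

/-- The structure map of the piece. -/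
noncomputable abbrev ps : i.P ⟶ S := pullback.fst D.uu (i.W.ι ≫ D.xx) ≫ D.uu

instance : Smooth i.ps := inferInstanceAs (Smooth (_ ≫ _))

/-- The inclusion of the generic fibre. -/
noncomputable def cP : i.PT.left ⟶ i.P :=
  pullback.lift (pullback.fst D.N.hom i.QT.hom ≫ D.nU) (pullback.snd D.N.hom i.QT.hom ≫ (D.nX ∣_ i.W)) (by
    have h1 : (D.nX ∣_ i.W) ≫ i.W.ι = (D.nX ⁻¹ᵁ i.W).ι ≫ D.nX := morphismRestrict_ι _ _
    have h2 : pullback.fst D.N.hom i.QT.hom ≫ D.N.hom = pullback.snd D.N.hom i.QT.hom ≫ (D.nX ⁻¹ᵁ i.W).ι ≫ D.Q.hom :=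
      pullback.condition
    rw [Category.assoc, D.npU.sq.w, reassoc_of% h2, Category.assoc, reassoc_of% h1, D.npX.sq.w])

theorem cP_fst : i.cP ≫ pullback.fst D.uu (i.W.ι ≫ D.xx) = pullback.fst D.N.hom i.QT.hom ≫ D.nU :=
  pullback.lift_fst _ _ _

theorem cP_snd : i.cP ≫ pullback.snd D.uu (i.W.ι ≫ D.xx) = pullback.snd D.N.hom i.QT.hom ≫ (D.nX ∣_ i.W) :=
  pullback.lift_snd _ _ _

theorem isPullback_restrict : IsPullback (D.nX ∣_ i.W) i.QT.hom (i.W.ι ≫ D.xx) gn :=
  (isPullback_morphismRestrict D.nX i.W).paste_vert D.npX.sq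

theorem isPullback_cP_snd : IsPullback i.cP (pullback.snd D.N.hom i.QT.hom) (pullback.snd D.uu (i.W.ι ≫ D.xx))
    (D.nX ∣_ i.W) :=
  isPullback_prod i.isPullback_restrict D.npU.sq (IsPullback.of_hasPullback _ _).flip
    (IsPullback.of_hasPullback _ _).flip i.cP i.cP_snd i.cP_fst

theorem isPullback_cP : IsPullback i.cP i.PT.hom i.ps gn :=
  (isPullback_prod D.npU.sq i.isPullback_restrict (IsPullback.of_hasPullback _ _)
    (IsPullback.of_hasPullback _ _) i.cP i.cP_fst i.cP_snd).paste_vert D.npU.sq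

variable {i}

/-- The translation on generic fibres. -/
noncomputable def act (h : i ≤ k) : i.PT ⟶ D.N := i.t₁ * (i.t₂ ≫ diff h)

/-- The first component of the transition map. -/
noncomputable def tu (h : i ≤ k) : i.P ⟶ D.U :=
  (D.npU.ext i.ps i.PT.hom i.cP inferInstance i.isPullback_cP (act h).left (Over.w _)).choose

theorem tu_w (h : i ≤ k) : tu h ≫ D.uu = i.ps :=
  (D.npU.ext i.ps i.PT.hom i.cP inferInstance i.isPullback_cP (act h).left (Over.w _)).choose_spec.1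

theorem cP_tu (h : i ≤ k) : i.cP ≫ tu h = (act h).left ≫ D.nU :=
  (D.npU.ext i.ps i.PT.hom i.cP inferInstance i.isPullback_cP (act h).left (Over.w _)).choose_spec.2

theorem tu_unique (h : i ≤ k) (f : i.P ⟶ D.U) (h1 : f ≫ D.uu = i.ps) (h2 : i.cP ≫ f = (act h).left ≫ D.nU) :
    f = tu h :=
  D.npU.uniq i.ps i.PT.hom i.cP inferInstance i.isPullback_cP _ _ h1 (tu_w h) (by rw [h2, cP_tu])

/-- The transition map. -/
noncomputable def tm (h : i ≤ k) : i.P ⟶ k.P :=
  pullback.lift (tu h) (pullback.snd D.uu (i.W.ι ≫ D.xx) ≫ D.X.homOfLE h) (by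
    rw [tu_w, Category.assoc, Scheme.homOfLE_ι_assoc]; exact pullback.condition)

theorem tm_fst (h : i ≤ k) : tm h ≫ pullback.fst D.uu (k.W.ι ≫ D.xx) = tu h := pullback.lift_fst _ _ _

theorem tm_snd (h : i ≤ k) : tm h ≫ pullback.snd D.uu (k.W.ι ≫ D.xx) =
    pullback.snd D.uu (i.W.ι ≫ D.xx) ≫ D.X.homOfLE h := pullback.lift_snd _ _ _

/-- The transition map on generic fibres. -/
noncomputable def tmT (h : i ≤ k) : i.PT ⟶ k.PT :=
  Over.homMk (pullback.lift (act h).left (i.t₂ ≫ res h).left (by rw [Over.w, Over.w])) (by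
    show pullback.lift _ _ _ ≫ pullback.fst _ _ ≫ _ = _
    rw [pullback.lift_fst_assoc]; exact Over.w _)

theorem tmT_fst (h : i ≤ k) : tmT h ≫ k.t₁ = act h := by
  ext1; exact pullback.lift_fst _ _ _

theorem tmT_snd (h : i ≤ k) : tmT h ≫ k.t₂ = i.t₂ ≫ res h := by
  ext1; exact pullback.lift_snd _ _ _

theorem restrict_res (h : i ≤ k) : (D.nX ∣_ i.W) ≫ D.X.homOfLE h = (res h).left ≫ (D.nX ∣_ k.W) := by
  rw [← cancel_mono k.W.ι, Category.assoc, Category.assoc, Scheme.homOfLE_ι, morphismRestrict_ι, morphismRestrict_ι]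
  simp [res]

theorem cP_tm (h : i ≤ k) : i.cP ≫ tm h = (tmT h).left ≫ k.cP := by
  refine pullback.hom_ext ?_ ?_
  · rw [Category.assoc, Category.assoc, tm_fst, cP_tu, cP_fst]
    have := congrArg (fun f => f.left) (tmT_fst h)
    rw [← Category.assoc]
    exact congrArg (· ≫ D.nU) this.symm
  · rw [Category.assoc, Category.assoc, tm_snd, reassoc_of% i.cP_snd, cP_snd, restrict_res]
    have := congrArg (fun f => f.left) (tmT_snd h)
    rw [← Category.assoc, ← Category.assoc]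
    exact congrArg (· ≫ (D.nX ∣_ k.W)) this.symm

theorem tm_ps (h : i ≤ k) : tm h ≫ k.ps = i.ps := by
  show tm h ≫ pullback.fst _ _ ≫ _ = _
  rw [← Category.assoc, tm_fst, tu_w]

theorem act_refl : act (le_refl i) = i.t₁ := by
  rw [act, diff_eq_one (le_refl i) (by rw [res_refl]; exact (Category.id_comp _).symm), MonObj.comp_one]
  exact mul_one _

theorem act_trans (h : i ≤ k) (h' : k ≤ l) : act (h.trans h') = tmT h ≫ act h' := by
  rw [act, act, MonObj.comp_mul, tmT_fst, ← Category.assoc, tmT_snd, act, diff_trans h h', MonObj.comp_mul,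
    _root_.mul_assoc, Category.assoc]

theorem tm_refl : tm (le_refl i) = 𝟙 _ := by
  refine pullback.hom_ext ?_ ?_
  · rw [tm_fst, Category.id_comp]
    refine (tu_unique (le_refl i) _ rfl ?_).symm
    rw [cP_fst, act_refl]; rfl
  · rw [tm_snd, Category.id_comp]
    simp

theorem tm_trans (h : i ≤ k) (h' : k ≤ l) : tm (h.trans h') = tm h ≫ tm h' := by
  refine pullback.hom_ext ?_ ?_
  · rw [tm_fst, Category.assoc, tm_fst]
    refine (tu_unique (h.trans h') _ ?_ ?_).symm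
    · rw [Category.assoc, tu_w, tm_ps]
    · rw [reassoc_of% cP_tm h, cP_tu, act_trans h h']
      simp
  · rw [tm_snd, Category.assoc, tm_snd, ← Category.assoc, tm_snd]
    simp

end Idx

end K487.TorsGlue
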