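import Groth.Agent.Neron.K487.TorsGlue

/-!
# The glued scheme `M → X` and its generic fibre
-/

set_option autoImplicit false
universe u

open CategoryTheory CategoryTheory.Limits AlgebraicGeometry MonObj
open MonoidalCategory CartesianMonoidalCategory TopologicalSpace
open Groth.Agent.Sga7.H736.RelGlue

namespace K487.TorsGlue

variable {S T : Scheme.{u}} {gn : T ⟶ S} {D : Ctx gn}

namespace Idx

variable {i k : Idx D}

theorem isPullback_tm_of_eq (h : i ≤ k) (hs : i.σ = res h ≫ k.σ) :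
    IsPullback (tm h) (pullback.snd D.uu (i.W.ι ≫ D.xx)) (pullback.snd D.uu (k.W.ι ≫ D.xx)) (D.X.homOfLE h) := by
  have h1 : tu h = pullback.fst D.uu (i.W.ι ≫ D.xx) := by
    refine (tu_unique h _ rfl ?_).symm
    rw [cP_fst, act, diff_eq_one h hs, MonObj.comp_one]
    have : i.t₁ * 1 = i.t₁ := _root_.mul_one _
    rw [this]; rfl
  have h2 : tm h ≫ pullback.fst D.uu (k.W.ι ≫ D.xx) = pullback.fst D.uu (i.W.ι ≫ D.xx) := by rw [tm_fst, h1]
  refine IsPullback.of_right ?_ (tm_snd h) (IsPullback.of_hasPullback D.uu (k.W.ι ≫ D.xx))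
  rw [h2, Scheme.homOfLE_ι_assoc]
  exact IsPullback.of_hasPullback _ _

theorem isPullback_tm (h : i ≤ k) :
    IsPullback (tm h) (pullback.snd D.uu (i.W.ι ≫ D.xx)) (pullback.snd D.uu (k.W.ι ≫ D.xx)) (D.X.homOfLE h) := by
  let i' : Idx D := ⟨i.W, res h ≫ k.σ, by rw [Category.assoc, k.hσ]; exact res_inc h⟩
  have h1 : i ≤ i' := le_refl i.W
  have h1' : i' ≤ i := le_refl i.W
  have h2 : i' ≤ k := h
  have e1 : tm h1 ≫ tm h1' = 𝟙 _ := by rw [← tm_trans h1 h1']; exact tm_refl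
  have e2 : tm h1' ≫ tm h1 = 𝟙 _ := by rw [← tm_trans h1' h1]; exact tm_refl
  have : IsIso (tm h1) := ⟨tm h1', e1, e2⟩
  have : IsIso (D.X.homOfLE (show i.W ≤ i'.W from h1)) := by
    have : D.X.homOfLE (show i.W ≤ i'.W from h1) = 𝟙 _ := by
      rw [← cancel_mono i.W.ι]; exact (Scheme.homOfLE_ι _ _).trans (Category.id_comp _).symm
    rw [this]; infer_instance
  have k1 : IsPullback (tm h1) (pullback.snd D.uu (i.W.ι ≫ D.xx)) (pullback.snd D.uu (i'.W.ι ≫ D.xx))
      (D.X.homOfLE (show i.W ≤ i'.W from h1)) := IsPullback.of_horiz_isIso ⟨tm_snd h1⟩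
  have k2 := isPullback_tm_of_eq h2 rfl
  have k3 := k1.paste_horiz k2
  rw [← tm_trans h1 h2] at k3
  have k4 : D.X.homOfLE (show i.W ≤ i'.W from h1) ≫ D.X.homOfLE (show i'.W ≤ k.W from h2) = D.X.homOfLE h := by
    have e5 : D.X.homOfLE (show i'.W ≤ k.W from h2) ≫ k.W.ι = i'.W.ι := Scheme.homOfLE_ι _ _
    have e6 : D.X.homOfLE (show i.W ≤ i'.W from h1) ≫ i'.W.ι = i.W.ι := Scheme.homOfLE_ι _ _
    rw [← cancel_mono k.W.ι, Category.assoc, e5, e6]
  rw [k4] at k3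
  exact k3

/-- Restriction of a local section to a smaller open. -/
noncomputable def restr (i : Idx D) (V : D.X.Opens) (h : V ≤ i.W) : Idx D where
  W := V
  σ := Over.homMk (U := Over.mk ((D.nX ⁻¹ᵁ V).ι ≫ D.Q.hom)) (V := i.QT)
    (D.Q.left.homOfLE (show D.nX ⁻¹ᵁ V ≤ D.nX ⁻¹ᵁ i.W from (Opens.map D.nX.base).monotone h)) (by simp) ≫ i.σ
  hσ := by
    rw [Category.assoc, i.hσ]; ext1; simp

end Idx

/-- The open covering of `X` by the domains of local sections. -/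
noncomputable def dir (hcov : ∀ t : D.X, ∃ i : Idx D, t ∈ i.W) : Dir D.X (Idx D) where
  U j := j.W
  f j := j.W.ι
  op j := inferInstance
  mono {i j} h := by
    have h' : i.W ≤ j.W := h
    rw [Scheme.Opens.range_ι, Scheme.Opens.range_ι]; exact h'
  cov s := by
    obtain ⟨i, hi⟩ := hcov s
    exact ⟨i, by rw [Scheme.Opens.range_ι]; exact hi⟩
  dir i j s hi hj := by
    rw [Scheme.Opens.range_ι] at hi hj
    exact ⟨i.restr (i.W ⊓ j.W) inf_le_left, (inf_le_left : i.W ⊓ j.W ≤ i.W), (inf_le_right : i.W ⊓ j.W ≤ j.W),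
      by rw [Scheme.Opens.range_ι]; exact ⟨hi, hj⟩⟩

theorem dir_tr (hcov : ∀ t : D.X, ∃ i : Idx D, t ∈ i.W) {i k : Idx D} (h : i ≤ k) :
    (dir hcov).tr h = D.X.homOfLE h := by
  refine (cancel_mono k.W.ι).mp ?_
  exact ((dir hcov).tr_f h).trans (Scheme.homOfLE_ι _ _).symm

/-- A glued scheme. -/
structure Gl (D : Ctx gn) where
  M : Scheme.{u}
  π : M ⟶ D.X
  io : ∀ i : Idx D, i.P ⟶ M
  sq : ∀ i, IsPullback (io i) (pullback.snd D.uu (i.W.ι ≫ D.xx)) π i.W.ι
  w : ∀ {i k : Idx D} (h : i ≤ k), Idx.tm h ≫ io k = io i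
  cov : ∀ t : D.X, ∃ i : Idx D, t ∈ i.W

theorem exists_gl (hcov : ∀ t : D.X, ∃ i : Idx D, t ∈ i.W) : Nonempty (Gl D) := by
  obtain ⟨M, π, io, h1, h2⟩ := exists_glue (dir hcov) (fun i => i.P)
    (fun i => pullback.snd D.uu (i.W.ι ≫ D.xx)) (fun {i k} h => Idx.tm h)
    (fun {i k} h => by rw [dir_tr]; exact Idx.isPullback_tm h) (fun i => Idx.tm_refl) (fun h h' => Idx.tm_trans h h')
  exact ⟨⟨M, π, io, h1, h2, hcov⟩⟩

namespace Gl

variable (G : Gl D)

instance (i : Idx D) : IsOpenImmersion (G.io i) :=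
  MorphismProperty.of_isPullback (G.sq i).flip inferInstance

theorem local_target (P : MorphismProperty Scheme.{u}) [IsZariskiLocalAtTarget P] [P.IsStableUnderBaseChange]
    (h : P D.uu) : P G.π := by
  refine IsZariskiLocalAtTarget.of_openCover (P := P) (dir G.cov).cover fun i => ?_
  have e := (G.sq i).isoPullback
  have h1 : P (pullback.snd D.uu (i.W.ι ≫ D.xx)) := P.pullback_snd _ _ h
  have h2 : pullback.snd G.π i.W.ι = (G.sq i).isoPullback.inv ≫ pullback.snd D.uu (i.W.ι ≫ D.xx) := by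
    rw [(G.sq i).isoPullback_inv_snd]
  show P (pullback.snd G.π i.W.ι)
  rw [h2]
  exact (P.cancel_left_of_respectsIso _ _).mpr h1

/-- The structure map. -/
noncomputable abbrev s : G.M ⟶ S := G.π ≫ D.xx

theorem io_s (i : Idx D) : G.io i ≫ G.s = i.ps := by
  rw [← Category.assoc, (G.sq i).w, Category.assoc]
  exact pullback.condition.symm

variable (D) in
/-- The part of `J` over the generic fibre of `W`. -/
noncomputable abbrev JO (i : Idx D) : Over T := Over.mk ((D.p.left ⁻¹ᵁ (D.nX ⁻¹ᵁ i.W)).ι ≫ D.J.hom)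

/-- Its inclusion. -/
noncomputable abbrev jinc (i : Idx D) : JO D i ⟶ D.J := Over.homMk (D.p.left ⁻¹ᵁ (D.nX ⁻¹ᵁ i.W)).ι rfl

/-- Its projection to the generic fibre of `W`. -/
noncomputable def jpr (i : Idx D) : JO D i ⟶ i.QT :=
  Over.homMk (D.p.left ∣_ (D.nX ⁻¹ᵁ i.W)) (by
    show _ ≫ (D.nX ⁻¹ᵁ i.W).ι ≫ D.Q.hom = _ ≫ D.J.hom
    rw [← Category.assoc, morphismRestrict_ι, Category.assoc, Over.w])

theorem jpr_inc (i : Idx D) : jpr i ≫ i.inc = jinc i ≫ D.p := by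
  ext1; exact morphismRestrict_ι _ _

theorem nn_aux (i : Idx D) : (jinc i * (jpr i ≫ i.σ)⁻¹) ≫ D.p = 1 := by
  rw [MonObj.mul_comp, GrpObj.inv_comp, Category.assoc, i.hσ]
  have : jpr i ≫ i.inc = jinc i ≫ D.p := jpr_inc i
  rw [this]
  exact mul_inv_cancel _

/-- The component in `N`. -/
noncomputable def nn (i : Idx D) : JO D i ⟶ D.N := (exists_ker D.ker _ (nn_aux i)).choose

theorem nn_j (i : Idx D) : nn i ≫ D.j = jinc i * (jpr i ≫ i.σ)⁻¹ := (exists_ker D.ker _ (nn_aux i)).choose_spec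

/-- The trivialization. -/
noncomputable def tv (i : Idx D) : JO D i ⟶ i.PT :=
  Over.homMk (pullback.lift (nn i).left (jpr i).left (by rw [Over.w, Over.w])) (by
    show pullback.lift _ _ _ ≫ pullback.fst _ _ ≫ _ = _
    rw [pullback.lift_fst_assoc]; exact Over.w _)

theorem tv_fst (i : Idx D) : tv i ≫ i.t₁ = nn i := by ext1; exact pullback.lift_fst _ _ _

theorem tv_snd (i : Idx D) : tv i ≫ i.t₂ = jpr i := by ext1; exact pullback.lift_snd _ _ _

/-- The inverse of the trivialization, into `J`. -/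
noncomputable def ti (i : Idx D) : i.PT ⟶ D.J := (i.t₁ ≫ D.j) * (i.t₂ ≫ i.σ)

theorem tv_ti (i : Idx D) : tv i ≫ ti i = jinc i := by
  rw [ti, MonObj.comp_mul, ← Category.assoc, tv_fst, ← Category.assoc, tv_snd, nn_j]
  group

theorem j_p : D.j ≫ D.p = 1 := by
  rw [D.ker.w]; rfl

theorem ti_p (i : Idx D) : ti i ≫ D.p = i.t₂ ≫ i.inc := by
  rw [ti, MonObj.mul_comp, Category.assoc, Category.assoc, j_p, i.hσ, MonObj.comp_one]
  exact _root_.one_mul _

theorem isPullback_JO (i : Idx D) : IsPullback (jinc i).left (jpr i).left D.p.left i.inc.left :=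
  (isPullback_morphismRestrict D.p.left (D.nX ⁻¹ᵁ i.W)).flip

/-- The inverse of the trivialization. -/
noncomputable def tvi (i : Idx D) : i.PT ⟶ JO D i :=
  Over.homMk ((isPullback_JO i).lift (ti i).left i.t₂.left (congrArg (fun f => f.left) (ti_p i))) (by
    show _ ≫ (jinc i).left ≫ D.J.hom = _
    rw [← Category.assoc, IsPullback.lift_fst]; exact Over.w _)

theorem tvi_jinc (i : Idx D) : tvi i ≫ jinc i = ti i := by ext1; exact (isPullback_JO i).lift_fst _ _ _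

theorem tvi_jpr (i : Idx D) : tvi i ≫ jpr i = i.t₂ := by ext1; exact (isPullback_JO i).lift_snd _ _ _

theorem tvi_nn (i : Idx D) : tvi i ≫ nn i = i.t₁ := by
  refine ker_ext D.ker _ _ ?_
  rw [Category.assoc, nn_j, MonObj.comp_mul, GrpObj.comp_inv, tvi_jinc, ← Category.assoc, tvi_jpr, ti]
  group

theorem tv_tvi (i : Idx D) : tv i ≫ tvi i = 𝟙 _ := by
  ext1
  refine (isPullback_JO i).hom_ext ?_ ?_
  · have := congrArg (fun f => f.left) (show (tv i ≫ tvi i) ≫ jinc i = 𝟙 _ ≫ jinc i by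
      rw [Category.assoc, tvi_jinc, tv_ti, Category.id_comp])
    exact this
  · have := congrArg (fun f => f.left) (show (tv i ≫ tvi i) ≫ jpr i = 𝟙 _ ≫ jpr i by
      rw [Category.assoc, tvi_jpr, tv_snd, Category.id_comp])
    exact this

theorem tvi_tv (i : Idx D) : tvi i ≫ tv i = 𝟙 _ := by
  ext1
  refine pullback.hom_ext ?_ ?_
  · have := congrArg (fun f => f.left) (show (tvi i ≫ tv i) ≫ i.t₁ = 𝟙 _ ≫ i.t₁ by
      rw [Category.assoc, tv_fst, tvi_nn, Category.id_comp])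
    exact this
  · have := congrArg (fun f => f.left) (show (tvi i ≫ tv i) ≫ i.t₂ = 𝟙 _ ≫ i.t₂ by
      rw [Category.assoc, tv_snd, tvi_jpr, Category.id_comp])
    exact this

end Gl

end K487.TorsGlue
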