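import Groth.Agent.Neron.K487.TorsGlue2

/-!
# The mapping property of the glued scheme
-/

set_option autoImplicit false
universe u

open CategoryTheory CategoryTheory.Limits AlgebraicGeometry MonObj
open MonoidalCategory CartesianMonoidalCategory TopologicalSpace
open Groth.Agent.Sga7.H736.RelGlue

namespace K487.TorsGlue

variable {S T : Scheme.{u}} {gn : T ⟶ S} {D : Ctx gn}

namespace Gl

/-- Restriction of the pieces of `J`. -/
noncomputable def jres {i k : Idx D} (h : i ≤ k) : JO D i ⟶ JO D k :=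
  Over.homMk (D.J.left.homOfLE (show D.p.left ⁻¹ᵁ (D.nX ⁻¹ᵁ i.W) ≤ D.p.left ⁻¹ᵁ (D.nX ⁻¹ᵁ k.W) from
    (Opens.map D.p.left.base).monotone (Idx.pre_le h))) (by simp)

theorem jres_inc {i k : Idx D} (h : i ≤ k) : jres h ≫ jinc k = jinc i := by ext1; simp [jres]

theorem jres_jpr {i k : Idx D} (h : i ≤ k) : jres h ≫ jpr k = jpr i ≫ Idx.res h := by
  ext1
  refine (cancel_mono (D.nX ⁻¹ᵁ k.W).ι).mp ?_
  have h1 := congrArg (fun f => f.left) (show (jres h ≫ jpr k) ≫ k.inc = (jpr i ≫ Idx.res h) ≫ k.inc by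
    rw [Category.assoc, jpr_inc, ← Category.assoc, jres_inc, Category.assoc, Idx.res_inc, jpr_inc])
  exact h1

theorem jres_nn {i k : Idx D} (h : i ≤ k) : jres h ≫ nn k = nn i * (jpr i ≫ Idx.diff h) := by
  refine ker_ext D.ker _ _ ?_
  rw [Category.assoc, nn_j, MonObj.comp_mul, GrpObj.comp_inv, jres_inc, ← Category.assoc, jres_jpr,
    MonObj.mul_comp, nn_j, Category.assoc (jpr i) (Idx.diff h), Idx.diff_j, MonObj.comp_mul, GrpObj.comp_inv,
    Category.assoc]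
  group

theorem jres_tv {i k : Idx D} (h : i ≤ k) : jres h ≫ tv k = tv i ≫ Idx.tmT h := by
  have h1 : (jres h ≫ tv k) ≫ k.t₁ = (tv i ≫ Idx.tmT h) ≫ k.t₁ := by
    rw [Category.assoc, tv_fst, jres_nn, Category.assoc, Idx.tmT_fst, Idx.act, MonObj.comp_mul, tv_fst,
      ← Category.assoc, tv_snd]
  have h2 : (jres h ≫ tv k) ≫ k.t₂ = (tv i ≫ Idx.tmT h) ≫ k.t₂ := by
    rw [Category.assoc, tv_snd, jres_jpr, Category.assoc, Idx.tmT_snd, ← Category.assoc, tv_snd]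
  ext1
  exact pullback.hom_ext (congrArg (fun f => f.left) h1) (congrArg (fun f => f.left) h2)

variable (G : Gl D)

/-- The map from the pieces of `J`. -/
noncomputable def jm (i : Idx D) : (JO D i).left ⟶ G.M := (tv i).left ≫ i.cP ≫ G.io i

theorem jres_jm {i k : Idx D} (h : i ≤ k) : (jres h).left ≫ G.jm k = G.jm i := by
  rw [jm, jm, ← G.w h, ← Category.assoc, reassoc_of% Idx.cP_tm h]
  have := congrArg (fun f => f.left) (jres_tv h)
  rw [← Category.assoc]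
  exact congrArg (· ≫ k.cP ≫ G.io k) this

instance (i : Idx D) : IsOpenImmersion (jinc i).left :=
  inferInstanceAs (IsOpenImmersion (D.p.left ⁻¹ᵁ (D.nX ⁻¹ᵁ i.W)).ι)

theorem exists_nM : ∃ nM : D.J.left ⟶ G.M, ∀ i, (jinc i).left ≫ nM = G.jm i := by
  refine Groth.Agent.FlatB.PushGlue.exists_glue (fun i : Idx D => (JO D i).left) (fun i => (jinc i).left) G.jm ?_ ?_
  · intro z
    obtain ⟨i, hi⟩ := G.cov (D.nX (D.p.left z))
    exact ⟨i, by rw [show Set.range (jinc i).left = _ from Scheme.Opens.range_ι _]; exact hi⟩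
  · intro i k z hi hk
    rw [show Set.range (jinc i).left = _ from Scheme.Opens.range_ι _] at hi
    rw [show Set.range (jinc k).left = _ from Scheme.Opens.range_ι _] at hk
    have hi' : (i.restr (i.W ⊓ k.W) inf_le_left) ≤ i := (inf_le_left : i.W ⊓ k.W ≤ i.W)
    have hk' : (i.restr (i.W ⊓ k.W) inf_le_left) ≤ k := (inf_le_right : i.W ⊓ k.W ≤ k.W)
    refine ⟨i.restr (i.W ⊓ k.W) inf_le_left, (jres hi').left, (jres hk').left, ?_, ?_, ?_, ?_⟩
    · exact congrArg (fun f => f.left) (jres_inc hi')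
    · exact congrArg (fun f => f.left) (jres_inc hk')
    · rw [show Set.range (jinc (i.restr (i.W ⊓ k.W) inf_le_left)).left = _ from Scheme.Opens.range_ι _]
      exact ⟨hi, hk⟩
    · rw [jres_jm, jres_jm]

/-- The inclusion of the generic fibre. -/
noncomputable def nM : D.J.left ⟶ G.M := G.exists_nM.choose

theorem jinc_nM (i : Idx D) : (jinc i).left ≫ G.nM = (tv i).left ≫ i.cP ≫ G.io i := G.exists_nM.choose_spec i

theorem isPullback_nM_π : IsPullback G.nM D.p.left G.π D.nX := by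
  refine (K41.SpecBC.isPullback_of_local D.p.left G.nM D.nX G.π fun q => ?_).flip
  obtain ⟨i, hi⟩ := G.cov (D.nX q)
  refine ⟨_, _, i.inc.left, inferInstanceAs (IsOpenImmersion (D.nX ⁻¹ᵁ i.W).ι), (jinc i).left, (jpr i).left, ?_,
    isPullback_JO i, ?_⟩
  · rw [show Set.range i.inc.left = _ from Scheme.Opens.range_ι _]; exact hi
  · rw [jinc_nM]
    have h1 : IsPullback (i.cP ≫ G.io i) i.t₂.left G.π ((D.nX ∣_ i.W) ≫ i.W.ι) := i.isPullback_cP_snd.paste_horiz (G.sq i)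
    have h2 : (D.nX ∣_ i.W) ≫ i.W.ι = i.inc.left ≫ D.nX := morphismRestrict_ι _ _
    rw [h2] at h1
    have h3 : IsIso (tv i).left := ⟨(tvi i).left, congrArg (fun f => f.left) (tv_tvi i),
      congrArg (fun f => f.left) (tvi_tv i)⟩
    have h4 : IsPullback (tv i).left (jpr i).left i.t₂.left (𝟙 _) :=
      IsPullback.of_horiz_isIso ⟨by rw [Category.comp_id]; exact congrArg (fun f => f.left) (tv_snd i)⟩
    have h5 := h4.paste_horiz h1
    rw [Category.id_comp] at h5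
    exact h5.flip

theorem isPullback_nM : IsPullback G.nM D.J.hom G.s gn := by
  have := G.isPullback_nM_π.paste_vert D.npX.sq
  rwa [Over.w] at this

section ext

variable {Y YT : Scheme.{u}} (y : Y ⟶ S) (yt : YT ⟶ T) (c : YT ⟶ Y) (a : Over.mk yt ⟶ D.J)
  (t : Y ⟶ D.X) (ht : c ≫ t = a.left ≫ D.p.left ≫ D.nX)

/-- The part of the generic fibre over `W`. -/
noncomputable abbrev AO (i : Idx D) : Over T := Over.mk ((c ⁻¹ᵁ (t ⁻¹ᵁ i.W)).ι ≫ yt)

/-- Its inclusion. -/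
noncomputable abbrev ainc (i : Idx D) : AO yt c t i ⟶ Over.mk yt := Over.homMk (c ⁻¹ᵁ (t ⁻¹ᵁ i.W)).ι rfl

include ht in
theorem range_aux (i : Idx D) : Set.range ((ainc yt c t i).left ≫ a.left) ⊆ Set.range (jinc i).left := by
  rintro _ ⟨z, rfl⟩
  rw [show Set.range (jinc i).left = _ from Scheme.Opens.range_ι _]
  show D.nX (D.p.left (((ainc yt c t i).left ≫ a.left) z)) ∈ i.W
  have h1 : D.nX (D.p.left (((ainc yt c t i).left ≫ a.left) z)) = (a.left ≫ D.p.left ≫ D.nX) z.1 := by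
    simp only [Scheme.Hom.comp_apply]; rfl
  rw [h1, ← ht]
  exact z.2

/-- The lift to the piece of `J`. -/
noncomputable def al (i : Idx D) : AO yt c t i ⟶ JO D i :=
  Over.homMk (IsOpenImmersion.lift (jinc i).left ((ainc yt c t i).left ≫ a.left) (range_aux yt c a t ht i)) (by
    show _ ≫ (jinc i).left ≫ D.J.hom = _
    rw [IsOpenImmersion.lift_fac_assoc, Category.assoc, Over.w]; rfl)

theorem al_jinc (i : Idx D) : al yt c a t ht i ≫ jinc i = ainc yt c t i ≫ a := by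
  ext1; exact IsOpenImmersion.lift_fac _ _ _

/-- Restriction. -/
noncomputable def ares {i k : Idx D} (h : i ≤ k) : AO yt c t i ⟶ AO yt c t k :=
  Over.homMk (YT.homOfLE (show c ⁻¹ᵁ (t ⁻¹ᵁ i.W) ≤ c ⁻¹ᵁ (t ⁻¹ᵁ k.W) from
    (Opens.map c.base).monotone ((Opens.map t.base).monotone h))) (by simp)

theorem ares_ainc {i k : Idx D} (h : i ≤ k) : ares yt c t h ≫ ainc yt c t k = ainc yt c t i := by
  ext1; simp [ares]

theorem ares_al {i k : Idx D} (h : i ≤ k) : ares yt c t h ≫ al yt c a t ht k = al yt c a t ht i ≫ jres h := by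
  ext1
  refine (cancel_mono (jinc k).left).mp ?_
  have := congrArg (fun f => f.left) (show (ares yt c t h ≫ al yt c a t ht k) ≫ jinc k =
    (al yt c a t ht i ≫ jres h) ≫ jinc k by
      rw [Category.assoc, al_jinc, ← Category.assoc, ares_ainc, Category.assoc, jres_inc, al_jinc])
  exact this

theorem isPullback_c (hc : IsPullback c yt y gn) (i : Idx D) :
    IsPullback (c ∣_ (t ⁻¹ᵁ i.W)) (AO yt c t i).hom ((t ⁻¹ᵁ i.W).ι ≫ y) gn :=
  (isPullback_morphismRestrict c (t ⁻¹ᵁ i.W)).paste_vert hc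

theorem exists_beta [Smooth y] (hc : IsPullback c yt y gn) (hty : t ≫ D.xx = y) (i : Idx D) :
    ∃ β : (t ⁻¹ᵁ i.W).toScheme ⟶ i.P, β ≫ pullback.snd D.uu (i.W.ι ≫ D.xx) = t ∣_ i.W ∧
      (c ∣_ (t ⁻¹ᵁ i.W)) ≫ β = (al yt c a t ht i ≫ tv i).left ≫ i.cP := by
  obtain ⟨v, hv1, hv2⟩ := D.npU.ext ((t ⁻¹ᵁ i.W).ι ≫ y) (AO yt c t i).hom (c ∣_ (t ⁻¹ᵁ i.W)) inferInstance
    (isPullback_c y yt c t hc i) (al yt c a t ht i ≫ nn i).left (Over.w _)
  refine ⟨pullback.lift v (t ∣_ i.W) ?_, pullback.lift_snd _ _ _, pullback.hom_ext ?_ ?_⟩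
  · rw [hv1, ← Category.assoc, morphismRestrict_ι, Category.assoc, hty]
  · rw [Category.assoc, pullback.lift_fst, hv2, Category.assoc, i.cP_fst, ← Category.assoc]
    have := congrArg (fun f => f.left) (show al yt c a t ht i ≫ nn i = (al yt c a t ht i ≫ tv i) ≫ i.t₁ by
      rw [Category.assoc, tv_fst])
    exact congrArg (· ≫ D.nU) this
  · rw [Category.assoc, pullback.lift_snd, Category.assoc, i.cP_snd, ← Category.assoc]
    refine (cancel_mono i.W.ι).mp ?_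
    have h1 := congrArg (fun f => f.left) (show (al yt c a t ht i ≫ tv i) ≫ i.t₂ ≫ i.inc =
      ainc yt c t i ≫ a ≫ D.p by
        rw [Category.assoc, ← Category.assoc (tv i), tv_snd, jpr_inc, ← Category.assoc, al_jinc, Category.assoc])
    have h2 : (D.nX ∣_ i.W) ≫ i.W.ι = i.inc.left ≫ D.nX := morphismRestrict_ι _ _
    have h3 : (t ∣_ i.W) ≫ i.W.ι = (t ⁻¹ᵁ i.W).ι ≫ t := morphismRestrict_ι _ _
    have h4 : (c ∣_ (t ⁻¹ᵁ i.W)) ≫ (t ⁻¹ᵁ i.W).ι = (ainc yt c t i).left ≫ c := morphismRestrict_ι _ _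
    have h5 : (al yt c a t ht i ≫ tv i).left ≫ pullback.snd D.N.hom i.QT.hom ≫ i.inc.left =
      (ainc yt c t i).left ≫ a.left ≫ D.p.left := h1
    rw [Category.assoc, h3, reassoc_of% h4, ht, Category.assoc, Category.assoc, h2, reassoc_of% h5]

theorem restrict_ares {i k : Idx D} (h : i ≤ k) :
    (c ∣_ (t ⁻¹ᵁ i.W)) ≫ Y.homOfLE ((Opens.map t.base).monotone h) =
      (ares yt c t h).left ≫ (c ∣_ (t ⁻¹ᵁ k.W)) := by
  rw [← cancel_mono (t ⁻¹ᵁ k.W).ι, Category.assoc, Category.assoc, Scheme.homOfLE_ι, morphismRestrict_ι,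
    morphismRestrict_ι]
  simp [ares]

theorem restrict_t {i k : Idx D} (h : i ≤ k) :
    Y.homOfLE ((Opens.map t.base).monotone h) ≫ (t ∣_ k.W) = (t ∣_ i.W) ≫ D.X.homOfLE h := by
  rw [← cancel_mono k.W.ι, Category.assoc, Category.assoc, Scheme.homOfLE_ι, morphismRestrict_ι,
    morphismRestrict_ι, ← Category.assoc, Scheme.homOfLE_ι]

theorem beta_comp [Smooth y] (hc : IsPullback c yt y gn) (hty : t ≫ D.xx = y) {i k : Idx D} (h : i ≤ k)
    (βi : (t ⁻¹ᵁ i.W).toScheme ⟶ i.P) (βk : (t ⁻¹ᵁ k.W).toScheme ⟶ k.P)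
    (hi1 : βi ≫ pullback.snd D.uu (i.W.ι ≫ D.xx) = t ∣_ i.W)
    (hk1 : βk ≫ pullback.snd D.uu (k.W.ι ≫ D.xx) = t ∣_ k.W)
    (hi2 : (c ∣_ (t ⁻¹ᵁ i.W)) ≫ βi = (al yt c a t ht i ≫ tv i).left ≫ i.cP)
    (hk2 : (c ∣_ (t ⁻¹ᵁ k.W)) ≫ βk = (al yt c a t ht k ≫ tv k).left ≫ k.cP) :
    Y.homOfLE ((Opens.map t.base).monotone h) ≫ βk = βi ≫ Idx.tm h := by
  have hps : ∀ (l : Idx D) (β : (t ⁻¹ᵁ l.W).toScheme ⟶ l.P), β ≫ pullback.snd D.uu (l.W.ι ≫ D.xx) = t ∣_ l.W →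
      β ≫ l.ps = (t ⁻¹ᵁ l.W).ι ≫ y := by
    intro l β hβ
    show β ≫ pullback.fst _ _ ≫ _ = _
    rw [pullback.condition, reassoc_of% hβ, ← Category.assoc, morphismRestrict_ι, Category.assoc, hty]
  refine pullback.hom_ext ?_ ?_
  · refine D.npU.uniq ((t ⁻¹ᵁ i.W).ι ≫ y) (AO yt c t i).hom (c ∣_ (t ⁻¹ᵁ i.W)) inferInstance
      (isPullback_c y yt c t hc i) _ _ ?_ ?_ ?_
    · have := hps k βk hk1
      have h2 : βk ≫ pullback.fst D.uu (k.W.ι ≫ D.xx) ≫ D.uu = (t ⁻¹ᵁ k.W).ι ≫ y := this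
      rw [Category.assoc, Category.assoc, h2, ← Category.assoc, Scheme.homOfLE_ι]
    · rw [Category.assoc, Category.assoc, ← Category.assoc (Idx.tm h), Idx.tm_fst, Idx.tu_w]
      exact hps i βi hi1
    · have e1 : (c ∣_ (t ⁻¹ᵁ i.W)) ≫ Y.homOfLE ((Opens.map t.base).monotone h) ≫ βk =
          (ares yt c t h ≫ al yt c a t ht k ≫ tv k).left ≫ k.cP := by
        rw [← Category.assoc, restrict_ares yt c t h, Category.assoc, hk2]
        simp
      have e2 : ares yt c t h ≫ al yt c a t ht k ≫ tv k = al yt c a t ht i ≫ tv i ≫ Idx.tmT h := by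
        rw [← Category.assoc, ares_al, Category.assoc, jres_tv]
      have e3 : (c ∣_ (t ⁻¹ᵁ i.W)) ≫ Y.homOfLE ((Opens.map t.base).monotone h) ≫ βk =
          (c ∣_ (t ⁻¹ᵁ i.W)) ≫ βi ≫ Idx.tm h := by
        rw [e1, e2, reassoc_of% hi2, Idx.cP_tm]
        simp
      have e4 := congrArg (· ≫ pullback.fst D.uu (k.W.ι ≫ D.xx)) e3
      simpa only [Category.assoc] using e4
  · rw [Category.assoc, hk1, Category.assoc, Idx.tm_snd, ← Category.assoc, hi1]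
    exact restrict_t t h

theorem np_ext [Smooth y] (hc : IsPullback c yt y gn) (a : YT ⟶ D.J.left) (ha : a ≫ D.J.hom = yt) :
    ∃ b : Y ⟶ G.M, b ≫ G.s = y ∧ c ≫ b = a ≫ G.nM := by
  obtain ⟨t, hty, ht⟩ := D.npX.ext y yt c inferInstance hc (a ≫ D.p.left) (by rw [Category.assoc, Over.w, ha])
  rw [Category.assoc] at ht
  let a' : Over.mk yt ⟶ D.J := Over.homMk a ha
  choose β hβ1 hβ2 using fun i : Idx D => exists_beta y yt c a' t ht hc hty i
  have comp : ∀ {i k : Idx D} (h : i ≤ k), Y.homOfLE ((Opens.map t.base).monotone h) ≫ β k = β i ≫ Idx.tm h :=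
    fun {i k} h => beta_comp y yt c a' t ht hc hty h (β i) (β k) (hβ1 i) (hβ1 k) (hβ2 i) (hβ2 k)
  obtain ⟨b, hb⟩ := Groth.Agent.FlatB.PushGlue.exists_glue (fun i : Idx D => (t ⁻¹ᵁ i.W).toScheme)
    (fun i => (t ⁻¹ᵁ i.W).ι) (fun i => β i ≫ G.io i) (by
      intro z
      obtain ⟨i, hi⟩ := G.cov (t z)
      exact ⟨i, by rw [Scheme.Opens.range_ι]; exact hi⟩) (by
      intro i k z hi hk
      rw [Scheme.Opens.range_ι] at hi hk
      have hi' : (i.restr (i.W ⊓ k.W) inf_le_left) ≤ i := (inf_le_left : i.W ⊓ k.W ≤ i.W)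
      have hk' : (i.restr (i.W ⊓ k.W) inf_le_left) ≤ k := (inf_le_right : i.W ⊓ k.W ≤ k.W)
      refine ⟨i.restr (i.W ⊓ k.W) inf_le_left, Y.homOfLE ((Opens.map t.base).monotone hi'),
        Y.homOfLE ((Opens.map t.base).monotone hk'), Scheme.homOfLE_ι _ _, Scheme.homOfLE_ι _ _, ?_, ?_⟩
      · rw [Scheme.Opens.range_ι]; exact ⟨hi, hk⟩
      · rw [reassoc_of% comp hi', reassoc_of% comp hk', G.w, G.w])
  have hbt : b ≫ G.π = t := by
    refine Groth.Agent.FlatB.PushGlue.hom_ext_imm fun z => ?_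
    obtain ⟨i, hi⟩ := G.cov (t z)
    refine ⟨_, (t ⁻¹ᵁ i.W).ι, inferInstance, by rw [Scheme.Opens.range_ι]; exact hi, ?_⟩
    rw [reassoc_of% hb i, (G.sq i).w, reassoc_of% hβ1 i, morphismRestrict_ι]
  refine ⟨b, by rw [← Category.assoc, hbt, hty], ?_⟩
  refine Groth.Agent.FlatB.PushGlue.hom_ext_imm fun z => ?_
  obtain ⟨i, hi⟩ := G.cov (t (c z))
  refine ⟨_, (ainc yt c t i).left, inferInstanceAs (IsOpenImmersion (c ⁻¹ᵁ (t ⁻¹ᵁ i.W)).ι), by
    rw [show Set.range (ainc yt c t i).left = _ from Scheme.Opens.range_ι _]; exact hi, ?_⟩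
  have h4 : (c ∣_ (t ⁻¹ᵁ i.W)) ≫ (t ⁻¹ᵁ i.W).ι = (ainc yt c t i).left ≫ c := morphismRestrict_ι _ _
  have h5 := congrArg (fun f => f.left) (al_jinc yt c a' t ht i)
  have h6 : (al yt c a' t ht i).left ≫ (jinc i).left = (ainc yt c t i).left ≫ a := h5
  rw [← reassoc_of% h4, hb i, reassoc_of% hβ2 i, ← reassoc_of% h6, G.jinc_nM]
  simp

theorem np_uniq [Smooth y] (hc : IsPullback c yt y gn) (b b' : Y ⟶ G.M) (hb : b ≫ G.s = y) (hb' : b' ≫ G.s = y)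
    (h : c ≫ b = c ≫ b') : b = b' := by
  have ht : b ≫ G.π = b' ≫ G.π := by
    refine D.npX.uniq y yt c inferInstance hc _ _ ?_ ?_ ?_
    · rw [Category.assoc]; exact hb
    · rw [Category.assoc]; exact hb'
    · rw [reassoc_of% h]
  obtain ⟨t, rfl⟩ : ∃ t, t = b ≫ G.π := ⟨_, rfl⟩
  refine Groth.Agent.FlatB.PushGlue.hom_ext_imm fun z => ?_
  obtain ⟨i, hi⟩ := G.cov ((b ≫ G.π) z)
  refine ⟨_, ((b ≫ G.π) ⁻¹ᵁ i.W).ι, inferInstance, by rw [Scheme.Opens.range_ι]; exact hi, ?_⟩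
  have k0 : ((b ≫ G.π) ∣_ i.W) ≫ i.W.ι = ((b ≫ G.π) ⁻¹ᵁ i.W).ι ≫ b ≫ G.π := morphismRestrict_ι _ _
  have w1 : (((b ≫ G.π) ⁻¹ᵁ i.W).ι ≫ b) ≫ G.π = ((b ≫ G.π) ∣_ i.W) ≫ i.W.ι := by rw [k0, Category.assoc]
  have w2 : (((b ≫ G.π) ⁻¹ᵁ i.W).ι ≫ b') ≫ G.π = ((b ≫ G.π) ∣_ i.W) ≫ i.W.ι := by rw [k0, Category.assoc, ht]
  have e1 : (G.sq i).lift _ _ w1 ≫ G.io i = ((b ≫ G.π) ⁻¹ᵁ i.W).ι ≫ b := (G.sq i).lift_fst _ _ w1
  have e2 : (G.sq i).lift _ _ w2 ≫ G.io i = ((b ≫ G.π) ⁻¹ᵁ i.W).ι ≫ b' := (G.sq i).lift_fst _ _ w2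
  have f1 : (G.sq i).lift _ _ w1 ≫ pullback.snd D.uu (i.W.ι ≫ D.xx) = _ := (G.sq i).lift_snd _ _ w1
  have f2 : (G.sq i).lift _ _ w2 ≫ pullback.snd D.uu (i.W.ι ≫ D.xx) = _ := (G.sq i).lift_snd _ _ w2
  have key : (G.sq i).lift _ _ w1 = (G.sq i).lift _ _ w2 := by
    refine pullback.hom_ext ?_ (by rw [f1, f2])
    refine D.npU.uniq (((b ≫ G.π) ⁻¹ᵁ i.W).ι ≫ y) (AO yt c (b ≫ G.π) i).hom (c ∣_ ((b ≫ G.π) ⁻¹ᵁ i.W)) inferInstance
      (isPullback_c y yt c (b ≫ G.π) hc i) _ _ ?_ ?_ ?_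
    · have : (G.sq i).lift _ _ w1 ≫ i.ps = ((b ≫ G.π) ⁻¹ᵁ i.W).ι ≫ y := by
        rw [← G.io_s, ← Category.assoc, e1, Category.assoc, hb]
      rw [Category.assoc]; exact this
    · have : (G.sq i).lift _ _ w2 ≫ i.ps = ((b ≫ G.π) ⁻¹ᵁ i.W).ι ≫ y := by
        rw [← G.io_s, ← Category.assoc, e2, Category.assoc, hb']
      rw [Category.assoc]; exact this
    · have h4 : (c ∣_ ((b ≫ G.π) ⁻¹ᵁ i.W)) ≫ ((b ≫ G.π) ⁻¹ᵁ i.W).ι = (ainc yt c (b ≫ G.π) i).left ≫ c :=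
        morphismRestrict_ι _ _
      have h6 : (c ∣_ ((b ≫ G.π) ⁻¹ᵁ i.W)) ≫ (G.sq i).lift _ _ w1 =
          (c ∣_ ((b ≫ G.π) ⁻¹ᵁ i.W)) ≫ (G.sq i).lift _ _ w2 := by
        rw [← cancel_mono (G.io i), Category.assoc, Category.assoc, e1, e2, reassoc_of% h4, reassoc_of% h4, h]
      rw [← Category.assoc, h6, Category.assoc]
  rw [← e1, ← e2, key]

end ext

end Gl

end K487.TorsGlue
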