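import Groth.Agent.Neron.K487.TorsGlue3
import Mathlib.CategoryTheory.Comma.Over.Pullback
import Mathlib.AlgebraicGeometry.Morphisms.Smooth

/-!
# The extension theorem for mapping properties

`exists_np`: an extension `1 → N → J → Q → 1` where `N` and `Q` have smooth separated models with the Néron mapping
property and `J → Q` has sections over the generic fibres of the members of an open covering of the model of `Q` has a
smooth separated model with the Néron mapping property.
-/

set_option autoImplicit false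
universe u

open CategoryTheory CategoryTheory.Limits AlgebraicGeometry MonObj
open MonoidalCategory CartesianMonoidalCategory TopologicalSpace

namespace K487.TorsGlue

variable {S T : Scheme.{u}} {gn : T ⟶ S}

theorem exists_np (D : Ctx gn) [IsSeparated D.uu] [IsSeparated D.xx] (hcov : ∀ t : D.X, ∃ i : Idx D, t ∈ i.W) :
    ∃ (M : Scheme.{u}) (m : M ⟶ S) (nM : D.J.left ⟶ M), Smooth m ∧ IsSeparated m ∧ NP gn m D.J.hom nM := by
  obtain ⟨G⟩ := exists_gl hcov
  have h0 : IsZariskiLocalAtTarget (@Smooth : MorphismProperty Scheme.{u}) :=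
    HasRingHomProperty.instIsZariskiLocalAtTarget (Q := RingHom.Smooth) _
  have h1 : Smooth G.π := G.local_target (@Smooth : MorphismProperty Scheme.{u}) D.sU
  have h2 : IsSeparated G.π := G.local_target (@IsSeparated : MorphismProperty Scheme.{u}) ‹_›
  refine ⟨G.M, G.s, G.nM, inferInstance, inferInstance, G.isPullback_nM, ?_, ?_⟩
  · intro Y YT y yt c hy hc a ha
    exact G.np_ext y yt c hc a ha
  · intro Y YT y yt c hy hc b b' hb hb' h
    exact G.np_uniq y yt c hc b b' hb hb' h

section conv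

variable {X : Over S} {XT : Over T}

theorem isPullback_of_iso (e : (Over.pullback gn).obj X ≅ XT) :
    IsPullback (e.inv.left ≫ pullback.fst X.hom gn) XT.hom X.hom gn := by
  have hi : IsIso e.inv.left := ⟨e.hom.left, congrArg (fun f => f.left) e.inv_hom_id,
    congrArg (fun f => f.left) e.hom_inv_id⟩
  have h : IsPullback e.inv.left XT.hom (pullback.snd X.hom gn) (𝟙 T) :=
    IsPullback.of_horiz_isIso ⟨by rw [Category.comp_id]; exact Over.w e.inv⟩
  have := h.paste_horiz (IsPullback.of_hasPullback X.hom gn)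
  rwa [Category.id_comp] at this

theorem np_of_bij (e : (Over.pullback gn).obj X ≅ XT)
    (h : ∀ Y : Over S, Smooth Y.hom → Function.Bijective (fun f : Y ⟶ X => (Over.pullback gn).map f ≫ e.hom)) :
    NP gn X.hom XT.hom (e.inv.left ≫ pullback.fst X.hom gn) := by
  have key : ∀ {Y YT : Scheme.{u}} (y : Y ⟶ S) (yt : YT ⟶ T) (c : YT ⟶ Y), Smooth y → IsPullback c yt y gn →
      ∀ f : YT ⟶ X.left, f ≫ X.hom = c ≫ y → ∃! g : Y ⟶ X.left, g ≫ X.hom = y ∧ c ≫ g = f := by
    intro Y YT y yt c hy hc f hf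
    have h1 : Function.Bijective (fun g : Over.mk y ⟶ X => (Over.pullback gn).map g) := by
      have h2 := h (Over.mk y) hy
      constructor
      · intro g g' hg
        refine h2.1 ?_
        have hg' : (Over.pullback gn).map g = (Over.pullback gn).map g' := hg
        show (Over.pullback gn).map g ≫ e.hom = (Over.pullback gn).map g' ≫ e.hom
        rw [hg']
      · intro g
        obtain ⟨g', hg'⟩ := h2.2 (g ≫ e.hom)
        exact ⟨g', (cancel_mono e.hom).mp hg'⟩
    have h3 := (MapProp.bij_iff gn (Over.mk y) X).mp h1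
    have he : hc.isoPullback.inv ≫ c = pullback.fst y gn := hc.isoPullback_inv_fst
    obtain ⟨g, ⟨hg1, hg2⟩, hg3⟩ := h3 (hc.isoPullback.inv ≫ f) (by
      rw [Category.assoc, hf, ← Category.assoc, he]; rfl)
    have hg2' : pullback.fst y gn ≫ g = hc.isoPullback.inv ≫ f := hg2
    refine ⟨g, ⟨hg1, ?_⟩, ?_⟩
    · rw [← cancel_epi hc.isoPullback.inv, ← Category.assoc, he, hg2']
    · rintro g' ⟨k1, k2⟩
      refine hg3 g' ⟨k1, ?_⟩
      show pullback.fst y gn ≫ g' = _
      rw [← he, Category.assoc, k2]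
  refine ⟨isPullback_of_iso e, ?_, ?_⟩
  · intro Y YT y yt c hy hc a ha
    obtain ⟨g, ⟨hg1, hg2⟩, -⟩ := key y yt c hy hc (a ≫ e.inv.left ≫ pullback.fst X.hom gn) (by
      rw [Category.assoc, (isPullback_of_iso e).w, ← Category.assoc, ha, hc.w])
    exact ⟨g, hg1, hg2⟩
  · intro Y YT y yt c hy hc b b' hb hb' hbb
    obtain ⟨g, -, hg3⟩ := key y yt c hy hc (c ≫ b) (by rw [Category.assoc, hb])
    rw [hg3 b ⟨hb, rfl⟩, hg3 b' ⟨hb', hbb.symm⟩]

theorem exists_bij_of_np (n : XT.left ⟶ X.left) (h : NP gn X.hom XT.hom n) :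
    ∃ e : (Over.pullback gn).obj X ≅ XT, e.inv.left ≫ pullback.fst X.hom gn = n ∧
      ∀ Y : Over S, Smooth Y.hom → Function.Bijective (fun f : Y ⟶ X => (Over.pullback gn).map f ≫ e.hom) := by
  let e : (Over.pullback gn).obj X ≅ XT :=
    Over.isoMk h.sq.isoPullback.symm (by
      show h.sq.isoPullback.inv ≫ XT.hom = pullback.snd X.hom gn
      exact h.sq.isoPullback_inv_snd)
  have he : e.inv.left ≫ pullback.fst X.hom gn = n := h.sq.isoPullback_hom_fst
  refine ⟨e, he, fun Y hY => ?_⟩
  have h1 : Function.Bijective (fun g : Y ⟶ X => (Over.pullback gn).map g) := by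
    refine (MapProp.bij_iff gn Y X).mpr fun f hf => ?_
    have w : f ≫ X.hom = pullback.snd Y.hom gn ≫ gn := by rw [hf, pullback.condition]
    obtain ⟨b, hb1, hb2⟩ := h.ext Y.hom (pullback.snd Y.hom gn) (pullback.fst Y.hom gn) hY
      (IsPullback.of_hasPullback _ _) (h.sq.lift f (pullback.snd Y.hom gn) w) (h.sq.lift_snd _ _ w)
    refine ⟨b, ⟨hb1, by rw [hb2]; exact h.sq.lift_fst _ _ w⟩, ?_⟩
    rintro b' ⟨k1, k2⟩
    refine h.uniq Y.hom (pullback.snd Y.hom gn) (pullback.fst Y.hom gn) hY (IsPullback.of_hasPullback _ _) b' b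
      k1 hb1 ?_
    rw [k2, hb2]; exact (h.sq.lift_fst _ _ w).symm
  constructor
  · intro g g' hg
    exact h1.1 ((cancel_mono e.hom).mp hg)
  · intro f
    obtain ⟨g, hg⟩ := h1.2 (f ≫ e.inv)
    have hg' : (Over.pullback gn).map g = f ≫ e.inv := hg
    refine ⟨g, ?_⟩
    show (Over.pullback gn).map g ≫ e.hom = f
    rw [hg', Category.assoc, e.inv_hom_id, Category.comp_id]

end conv

end K487.TorsGlue
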