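import Groth.Prelude.Def_WeilRes
import Groth.Agent.Neron.K487.Elem
import Groth.Agent.Sga3.H778.NeutralPts

/-!
# Connectedness of points of a Weil restriction
-/

set_option autoImplicit false
universe u

open CategoryTheory CategoryTheory.Limits AlgebraicGeometry MonoidalCategory CartesianMonoidalCategory MonObj GrpObj

namespace K487.WeilConn

open K487.Elem

variable {S S' : Scheme.{u}} {f : S' ⟶ S} {N' : Over S'} {W : Over S} {q : Red.bc f W ⟶ N'}

/-- Elementarily connected points of `N'` with values in `T ×_S S'` define points of the Weil restriction with values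
in `T` in the same connected component. -/
theorem lift_connected_of_el (hW : WeilRes.IsWeilRes f N' W q) {T : Over S} (t : T.left)
    (x x' : T ⟶ W)
    (h : El (pullback.fst T.hom f) (pullback.snd T.hom f) N'.hom (WeilRes.restr f q T x).left
      (WeilRes.restr f q T x').left) :
    (lift (𝟙 T) x').left t ∈ connectedComponent ((lift (𝟙 T) x).left t) := by
  obtain ⟨C, c, s, s', γ, hC, hs, hs', hγ, h1, h2⟩ := h
  let TC : Over S := Over.mk (c ≫ T.hom)
  let cC : TC ⟶ T := Over.homMk c rfl
  -- comparison of the two pullbacks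
  let r : pullback (c ≫ T.hom) f ⟶ pullback c (pullback.fst T.hom f) :=
    pullback.lift (pullback.fst _ _) (pullback.lift (pullback.fst _ _ ≫ c) (pullback.snd _ _)
      (by rw [Category.assoc, pullback.condition])) (by rw [pullback.lift_fst])
  have hrf : r ≫ pullback.fst _ _ = pullback.fst (c ≫ T.hom) f := pullback.lift_fst _ _ _
  have hrs : r ≫ pullback.snd _ _ = pullback.lift (pullback.fst _ _ ≫ c) (pullback.snd _ _)
      (by rw [Category.assoc, pullback.condition]) := pullback.lift_snd _ _ _
  have hrsf : r ≫ pullback.snd _ _ ≫ pullback.fst T.hom f = pullback.fst _ _ ≫ c := by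
    rw [← Category.assoc, hrs, pullback.lift_fst]
  have hrss : r ≫ pullback.snd _ _ ≫ pullback.snd T.hom f = pullback.snd (c ≫ T.hom) f := by
    rw [← Category.assoc, hrs, pullback.lift_snd]
  let γ' : Red.bc f TC ⟶ N' := Over.homMk (r ≫ γ) (by
    rw [Category.assoc, hγ, hrss]; rfl)
  let ξ : TC ⟶ W := hW.lift TC γ'
  have hξ : WeilRes.restr f q TC ξ = γ' := hW.restr_lift TC γ'
  have key : ∀ (sC : T ⟶ TC) (_ : sC ≫ cC = 𝟙 T) (x : T ⟶ W)
      (_ : ∀ (τ : pullback T.hom f ⟶ pullback c (pullback.fst T.hom f)),
        τ ≫ pullback.fst c (pullback.fst T.hom f) = pullback.fst T.hom f ≫ sC.left →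
        τ ≫ pullback.snd c (pullback.fst T.hom f) = 𝟙 (pullback T.hom f) →
        τ ≫ γ = (WeilRes.restr f q T x).left), sC ≫ ξ = x := by
    intro sC hsC x hx
    have hscl : sC.left ≫ c = 𝟙 _ := by
      have := congrArg (fun z => z.left) hsC
      exact this
    apply (hW T).injective
    rw [WeilRes.restr_comp, hξ]
    apply Over.OverMorphism.ext
    rw [Over.comp_left]
    have hmf : ((Over.pullback f).map sC).left ≫ pullback.fst (c ≫ T.hom) f = pullback.fst T.hom f ≫ sC.left :=
      pullback.lift_fst _ _ _
    have hms : ((Over.pullback f).map sC).left ≫ pullback.snd (c ≫ T.hom) f = pullback.snd T.hom f :=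
      pullback.lift_snd _ _ _
    have := hx (((Over.pullback f).map sC).left ≫ r) (by
      rw [Category.assoc, hrf, hmf]) (by
      apply pullback.hom_ext
      · rw [Category.assoc, Category.assoc, hrsf, ← Category.assoc, hmf, Category.assoc, hscl, Category.comp_id,
          Category.id_comp]
      · rw [Category.assoc, Category.assoc, hrss, hms, Category.id_comp])
    rw [← this, Category.assoc]
    rfl
  let sC : T ⟶ TC := Over.homMk s (by
    show s ≫ c ≫ T.hom = T.hom
    rw [← Category.assoc, hs, Category.id_comp])
  let sC' : T ⟶ TC := Over.homMk s' (by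
    show s' ≫ c ≫ T.hom = T.hom
    rw [← Category.assoc, hs', Category.id_comp])
  have hsC : sC ≫ cC = 𝟙 T := Over.OverMorphism.ext hs
  have hsC' : sC' ≫ cC = 𝟙 T := Over.OverMorphism.ext hs'
  have e1 : sC ≫ ξ = x := key sC hsC x h1
  have e2 : sC' ≫ ξ = x' := key sC' hsC' x' h2
  have e3 : lift (𝟙 T) x = sC ≫ lift cC ξ := by
    rw [comp_lift, hsC, e1]
  have e4 : lift (𝟙 T) x' = sC' ≫ lift cC ξ := by
    rw [comp_lift, hsC', e2]
  have hC' : _root_.IsPreconnected (Set.range (lift cC ξ).left) := by
    have : PreconnectedSpace ↥TC.left := hC.toPreconnectedSpace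
    exact isPreconnected_range (lift cC ξ).left.continuous
  have m1 : (lift (𝟙 T) x).left t ∈ Set.range (lift cC ξ).left := by
    rw [e3, Over.comp_left, Scheme.Hom.comp_apply]
    exact ⟨_, rfl⟩
  have m2 : (lift (𝟙 T) x').left t ∈ Set.range (lift cC ξ).left := by
    rw [e4, Over.comp_left, Scheme.Hom.comp_apply]
    exact ⟨_, rfl⟩
  exact hC'.subset_connectedComponent m1 m2

/-- The same for the equivalence relation generated by elementary connections. -/
theorem lift_connected_of_rel (hW : WeilRes.IsWeilRes f N' W q) {T : Over S} (t : T.left)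
    (x x' : T ⟶ W)
    (h : Rel (pullback.fst T.hom f) (pullback.snd T.hom f) N'.hom (WeilRes.restr f q T x).left
      (WeilRes.restr f q T x').left) :
    (lift (𝟙 T) x').left t ∈ connectedComponent ((lift (𝟙 T) x).left t) := by
  have key : ∀ (y : pullback T.hom f ⟶ N'.left) (_ : Rel (pullback.fst T.hom f) (pullback.snd T.hom f) N'.hom
      (WeilRes.restr f q T x).left y) (x' : T ⟶ W) (_ : y = (WeilRes.restr f q T x').left),
      (lift (𝟙 T) x').left t ∈ connectedComponent ((lift (𝟙 T) x).left t) := by
    intro y hy
    induction hy with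
    | refl =>
      intro x' hx'
      have : x = x' := (hW T).injective (Over.OverMorphism.ext hx')
      rw [this]
      exact mem_connectedComponent
    | tail h1 h2 ih =>
      rename_i y y'
      intro x'' hx''
      have hyo : y ≫ N'.hom = pullback.snd T.hom f := h2.left_over
      let Y : Red.bc f T ⟶ N' := Over.homMk y hyo
      let x' : T ⟶ W := hW.lift T Y
      have hx' : WeilRes.restr f q T x' = Y := hW.restr_lift T Y
      have e1 := ih x' (by rw [hx']; rfl)
      have e2 := lift_connected_of_el hW t x' x'' (by rw [hx', ← hx'']; exact h2)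
      rw [connectedComponent_eq e1]
      exact e2
  exact key _ h x' rfl

end K487.WeilConn
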