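import Groth.Agent.Neron.K487.WeilRed

/-!
# The reduction homomorphism on the special fibre of a Weil restriction
-/

set_option autoImplicit false
universe u

open CategoryTheory CategoryTheory.Limits AlgebraicGeometry MonoidalCategory CartesianMonoidalCategory MonObj GrpObj

namespace K487.WeilHom

open K487.WeilRed K487.WeilOpen Groth.Agent.Sga3.H778.NeutralPts

variable {R R' : Type u} [CommRing R] [IsDomain R] [IsDiscreteValuationRing R] [CommRing R'] [IsDomain R']
  [IsDiscreteValuationRing R'] [Algebra R R'] [Module.Finite R R'] [FaithfulSMul R R']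

/-- The morphism `Spec R' ⟶ Spec R`. -/
local notation "𝔣" => Spec.map (CommRingCat.ofHom (algebraMap R R'))

/-- The closed point `Spec k`. -/
local notation "𝕋" => Over.mk (Spec.map (CommRingCat.ofHom (IsLocalRing.residue R)))

/-- The closed point `Spec k'`. -/
local notation "𝕋'" => Over.mk (Spec.map (CommRingCat.ofHom (IsLocalRing.residue R')))

theorem apply_left {T T' : Over (Spec (CommRingCat.of R'))} {N' : Over (Spec (CommRingCat.of R'))} (δ : T' ⟶ T)
    (g : T ⟶ N') (t : T'.left) : (δ ≫ g).left t = g.left (δ.left t) := by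
  rw [Over.comp_left, Scheme.Hom.comp_apply]

/-- The reduction homomorphism. -/
theorem exists_red [IsAlgClosed (IsLocalRing.ResidueField R)]
    {N' : Over (Spec (CommRingCat.of R'))} [GrpObj N'] [Smooth N'.hom]
    {W : Over (Spec (CommRingCat.of R))} [GrpObj W] {q : Red.bc 𝔣 W ⟶ N'} [IsMonHom q]
    (hW : WeilRes.IsWeilRes 𝔣 N' W q) :
    ∃ r : (𝕋 ⟶ W) →* (𝕋' ⟶ N'), Function.Surjective r ∧ ∀ x : 𝕋 ⟶ W,
      (x.left.base (IsLocalRing.closedPoint (IsLocalRing.ResidueField R)) ∈ SGA3x.neutralSet W ↔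
        (r x).left.base (IsLocalRing.closedPoint (IsLocalRing.ResidueField R')) ∈ SGA3x.neutralSet N') := by
  obtain ⟨δ, hδ, hδ'⟩ := exists_delta R R'
  let r : (𝕋 ⟶ W) →* (𝕋' ⟶ N') :=
    { toFun := fun x => δ ≫ WeilRes.restr 𝔣 q 𝕋 x
      map_one' := by rw [WeilRes.restr_one, MonObj.comp_one]
      map_mul' := fun x y => by rw [WeilRes.restr_mul, MonObj.comp_mul] }
  refine ⟨r, ?_, ?_⟩
  · intro x'
    obtain ⟨g, hg⟩ := hδ' N' x'
    refine ⟨hW.lift _ g, ?_⟩
    show δ ≫ WeilRes.restr 𝔣 q 𝕋 (hW.lift _ g) = x'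
    rw [hW.restr_lift, hg]
  · intro x
    refine (mem_iff hW x (δ.left (IsLocalRing.closedPoint (IsLocalRing.ResidueField R')))).trans ?_
    have := apply_left δ (WeilRes.restr 𝔣 q 𝕋 x) (IsLocalRing.closedPoint (IsLocalRing.ResidueField R'))
    exact (congrArg (· ∈ SGA3x.neutralSet N') this).symm ▸ Iff.rfl

end K487.WeilHom
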