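import Groth.Agent.Neron.K487.WeilRel
import Mathlib.AlgebraicGeometry.Morphisms.Finite
import Mathlib.AlgebraicGeometry.Morphisms.FlatDescent
import Mathlib.AlgebraicGeometry.Morphisms.UniversallyOpen
import Mathlib.FieldTheory.IsAlgClosed.AlgebraicClosure

/-!
# The neutral component of a Weil restriction
-/

set_option autoImplicit false
universe u

open CategoryTheory CategoryTheory.Limits AlgebraicGeometry MonoidalCategory CartesianMonoidalCategory MonObj GrpObj
open scoped TensorProduct

namespace K487.WeilNeutral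

open K487.Elem K487.Fin K487.WeilConn K487.WeilRel Groth.Agent.Sga3.H778.NeutralPts

section general

variable {S S' : Scheme.{u}} {f : S' ⟶ S}

theorem cond_neutral (N' : Over S') [GrpObj N'] {T : Over S} [Subsingleton T.left] (y : Red.bc f T ⟶ N')
    (hy : ∀ z, y.left z ∈ SGA3x.neutralSet N') :
    Cond (pullback.fst T.hom f) (pullback.snd T.hom f) N'.hom y.left (1 : Red.bc f T ⟶ N').left := by
  intro a ha b hb w w' h1 h2 h3 h4 x
  let T'' : Over S' := Over.mk b
  have hsub : Subsingleton T''.left := ‹Subsingleton T.left›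
  let aa : T'' ⟶ Red.bc f T := Over.homMk a hb
  let g : T'' ⟶ N' := aa ≫ y
  have hg : g.left x ∈ SGA3x.neutralSet N' := by
    rw [Over.comp_left, Scheme.Hom.comp_apply]
    exact hy _
  rw [← lift_mem_iff] at hg
  let e : (T'' ⊗ N').left ≅ pullback N'.hom b := pullbackSymmetry b N'.hom
  have key : ∀ (g : T'' ⟶ N') (w : T.left ⟶ pullback N'.hom b) (_ : w ≫ pullback.snd _ _ = 𝟙 _)
      (_ : w ≫ pullback.fst _ _ = g.left), w = (lift (𝟙 T'') g).left ≫ e.hom := by
    intro g w h1 h2
    apply pullback.hom_ext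
    · rw [h2, Category.assoc, pullbackSymmetry_hom_comp_fst]
      exact (congrArg (fun z => z.left) (lift_snd (𝟙 T'') g)).symm
    · rw [h1, Category.assoc, pullbackSymmetry_hom_comp_snd]
      exact (congrArg (fun z => z.left) (lift_fst (𝟙 T'') g)).symm
  have k1 := key g w h1 h2
  have k2 := key 1 w' h3 (by
    rw [h4]
    have : (1 : T'' ⟶ N') = aa ≫ (1 : Red.bc f T ⟶ N') := by rw [MonObj.comp_one]
    rw [this]; rfl)
  have h5 := e.hom.continuous.image_connectedComponent_subset ((oneSec T'' N').left x) ⟨_, hg, rfl⟩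
  have h6 : w x ∈ connectedComponent (w' x) := by
    rw [k1, k2, Scheme.Hom.comp_apply, Scheme.Hom.comp_apply]
    exact h5
  rw [← connectedComponent_eq h6]
  exact mem_connectedComponent

/-- The preimage of a connected set along an open and closed map is connected if some fibre is a single point. -/
theorem isPreconnected_preimage {X Y : Type*} [TopologicalSpace X] [TopologicalSpace Y] (p : X → Y) (hc : Continuous p)
    (ho : IsOpenMap p) (hcl : IsClosedMap p) (C : Set Y) (hC : _root_.IsPreconnected C) (e : Y) (he : e ∈ C)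
    (hs : (p ⁻¹' {e}).Subsingleton) : _root_.IsPreconnected (p ⁻¹' C) := by
  rw [isPreconnected_iff_subset_of_disjoint_closed]
  intro u v hu hv huv hd
  by_contra hne
  push Not at hne
  obtain ⟨h1, h2⟩ := hne
  -- both closed pieces are nonempty
  have key : ∀ u v : Set X, IsClosed u → IsClosed v → p ⁻¹' C ⊆ u ∪ v → p ⁻¹' C ∩ (u ∩ v) = ∅ → ¬ p ⁻¹' C ⊆ u →
      ∃ x, p x = e ∧ x ∈ v ∧ x ∉ u := by
    intro u v hu hv huv hd h1
    rw [Set.not_subset] at h1
    obtain ⟨a, ha, hau⟩ := h1
    -- `p (vᶜᶜ ...)`: the image of the complement of `u` is open and the image of `v` is closed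
    have hO : IsOpen (p '' uᶜ) := ho _ hu.isOpen_compl
    have hK : IsClosed (p '' v) := hcl _ hv
    have hOK : C ∩ p '' uᶜ = C ∩ p '' v := by
      apply Set.Subset.antisymm
      · rintro y ⟨hy, x, hx, rfl⟩
        exact ⟨hy, x, (huv hy).resolve_left hx, rfl⟩
      · rintro y ⟨hy, x, hx, rfl⟩
        refine ⟨hy, x, fun hxu => ?_, rfl⟩
        have : x ∈ p ⁻¹' C ∩ (u ∩ v) := ⟨hy, hxu, hx⟩
        rw [hd] at this
        exact this
    have hsub : C ⊆ p '' v := by
      by_contra hcon
      have := hC (p '' uᶜ) (p '' v)ᶜ hO hK.isOpen_compl (by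
        intro y hy
        by_cases hyv : y ∈ p '' v
        · left
          have : y ∈ C ∩ p '' uᶜ := by rw [hOK]; exact ⟨hy, hyv⟩
          exact this.2
        · right; exact hyv) ⟨p a, ha, a, hau, rfl⟩ (by
          rw [Set.not_subset] at hcon
          obtain ⟨y, hy, hyv⟩ := hcon
          exact ⟨y, hy, hyv⟩)
      obtain ⟨y, hyC, hy1, hy2⟩ := this
      have h3 : y ∈ C ∩ p '' v := by rw [← hOK]; exact ⟨hyC, hy1⟩
      exact hy2 h3.2
    obtain ⟨x, hxv, hxe⟩ := hsub he
    refine ⟨x, hxe, hxv, fun hxu => ?_⟩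
    have : x ∈ p ⁻¹' C ∩ (u ∩ v) := ⟨by rw [Set.mem_preimage, hxe]; exact he, hxu, hxv⟩
    rw [hd] at this
    exact this
  obtain ⟨x, hx, hxv, hxu⟩ := key u v hu hv huv hd h1
  obtain ⟨x', hx', hxu', hxv'⟩ := key v u hv hu (by rwa [Set.union_comm]) (by rwa [Set.inter_comm v u]) h2
  have := hs (show x ∈ p ⁻¹' {e} from hx) (show x' ∈ p ⁻¹' {e} from hx')
  subst this
  exact hxu hxu'

/-- The base change square of a morphism over `S`. -/
theorem isPullback_map {T W : Over S} (g : T ⟶ W) :
    IsPullback (pullback.fst T.hom f) ((Over.pullback f).map g).left g.left (pullback.fst W.hom f) := by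
  have h1 : ((Over.pullback f).map g).left ≫ pullback.snd W.hom f = pullback.snd T.hom f := pullback.lift_snd _ _ _
  have h2 : ((Over.pullback f).map g).left ≫ pullback.fst W.hom f = pullback.fst T.hom f ≫ g.left :=
    pullback.lift_fst _ _ _
  refine IsPullback.of_bot (v₂₁ := pullback.snd W.hom f) (v₂₂ := W.hom) (h₃₁ := f) ?_ h2.symm
    (IsPullback.of_hasPullback _ _)
  rw [h1, Over.w g]
  exact IsPullback.of_hasPullback _ _

theorem one_left {T G : Over S} [GrpObj G] : (1 : T ⟶ G).left = T.hom ≫ unitSec G := by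
  rw [Hom.one_def, Over.comp_left]
  congr 1

/-- The universal morphism of a Weil restriction along an open, closed and injective map preserves neutral components. -/
theorem neutral_sub {N' : Over S'} [GrpObj N'] {W : Over S} [GrpObj W] (q : Red.bc f W ⟶ N') [IsMonHom q]
    (hf : Function.Injective f) (ho : IsOpenMap (pullback.fst W.hom f)) (hcl : IsClosedMap (pullback.fst W.hom f))
    (v : (Red.bc f W).left) (hv : pullback.fst W.hom f v ∈ SGA3x.neutralSet W) :
    q.left v ∈ SGA3x.neutralSet N' := by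
  let p := pullback.fst W.hom f
  have hqo : q.left ≫ N'.hom = pullback.snd W.hom f := Over.w q
  have hcond : ∀ v : (Red.bc f W).left, W.hom (p v) = f (N'.hom (q.left v)) := by
    intro v
    rw [← Scheme.Hom.comp_apply, ← Scheme.Hom.comp_apply, ← Scheme.Hom.comp_apply, reassoc_of% hqo, pullback.condition]
  rw [neutralSet_eq] at hv ⊢
  set s := W.hom (p v) with hs
  have hv' : p v ∈ connectedComponentIn (W.hom ⁻¹' {s}) (unitSec W s) := hv
  show q.left v ∈ connectedComponentIn (N'.hom ⁻¹' {N'.hom (q.left v)}) (unitSec N' (N'.hom (q.left v)))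
  set s' := N'.hom (q.left v) with hs'
  have hss' : s = f s' := hcond v
  -- the unit section over `S` as a point
  let T : Over S := Over.mk (𝟙 S)
  have h1 : (1 : T ⟶ W).left = unitSec W := by rw [one_left]; exact Category.id_comp _
  let ν := (Over.pullback f).map (1 : T ⟶ W)
  have sqν : IsPullback (pullback.fst (𝟙 S) f) ν.left (unitSec W) p := by
    have := isPullback_map (f := f) (1 : T ⟶ W)
    rwa [h1] at this
  have hsurj : ∀ v₁ : (Red.bc f W).left, p v₁ = unitSec W s →
      ∃ z : ↥(pullback (𝟙 S) f), ν.left z = v₁ ∧ pullback.fst (𝟙 S) f z = s := by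
    intro v₁ hv₁
    obtain ⟨z, hz1, hz2⟩ := Scheme.exists_preimage_of_isPullback sqν s v₁ hv₁.symm
    exact ⟨z, hz2, hz1⟩
  have hsnd : Function.Injective (pullback.snd (𝟙 S) f) :=
    (Scheme.Hom.homeomorph (asIso (pullback.snd (𝟙 S) f)).hom).injective
  have hz' : ∀ z : ↥(pullback (𝟙 S) f), pullback.fst (𝟙 S) f z = s → pullback.snd (𝟙 S) f z = s' := by
    intro z hz
    apply hf
    rw [← hss', ← hz, ← Scheme.Hom.comp_apply, ← pullback.condition, Scheme.Hom.comp_apply]
    rfl
  have hsub : (p ⁻¹' {unitSec W s}).Subsingleton := by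
    intro v₁ h1 v₂ h2
    obtain ⟨z₁, e1, e1'⟩ := hsurj v₁ h1
    obtain ⟨z₂, e2, e2'⟩ := hsurj v₂ h2
    rw [← e1, ← e2]
    congr 1
    exact hsnd ((hz' _ e1').trans (hz' _ e2').symm)
  have hpre : _root_.IsPreconnected (p ⁻¹' (connectedComponentIn (W.hom ⁻¹' {s}) (unitSec W s))) :=
    isPreconnected_preimage p p.continuous ho hcl _ isPreconnected_connectedComponentIn (unitSec W s)
      (mem_connectedComponentIn (hom_unitSec W s)) hsub
  -- a point over the unit
  obtain ⟨z, hz1, hz2⟩ : ∃ z : ↥(pullback (𝟙 S) f), pullback.fst (𝟙 S) f z = s ∧ True := by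
    obtain ⟨z, hz⟩ := (Scheme.Hom.homeomorph (asIso (pullback.snd (𝟙 S) f)).hom).surjective s'
    refine ⟨z, ?_, trivial⟩
    have hz2 : pullback.snd (𝟙 S) f z = s' := hz
    rw [hss', ← hz2, ← Scheme.Hom.comp_apply, ← pullback.condition, Scheme.Hom.comp_apply]
    rfl
  have hqν : q.left (ν.left z) = unitSec N' s' := by
    have e1 : ν ≫ q = 1 := by
      have := WeilRes.restr_one f q T
      exact this
    have e2 : ν.left ≫ q.left = (1 : Red.bc f T ⟶ N').left := by rw [← e1]; rfl
    rw [← Scheme.Hom.comp_apply, e2, one_left, Scheme.Hom.comp_apply]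
    congr 1
    exact hz' z hz1
  have hpν : p (ν.left z) = unitSec W s := by
    rw [← Scheme.Hom.comp_apply, ← sqν.w, Scheme.Hom.comp_apply, hz1]
  refine (hpre.image q.left q.left.continuous.continuousOn).subset_connectedComponentIn ?_ ?_ ⟨v, hv', rfl⟩
  · refine ⟨ν.left z, ?_, hqν⟩
    rw [Set.mem_preimage, hpν]
    exact mem_connectedComponentIn (hom_unitSec W s)
  · rintro _ ⟨v₁, hv₁, rfl⟩
    have h2 : p v₁ ∈ W.hom ⁻¹' {s} := connectedComponentIn_subset _ _ hv₁
    apply hf
    have h3 : W.hom (p v₁) = s := h2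
    rw [← hcond v₁, h3, hss']

end general

section affine

variable {R R' : Type u} [CommRing R] [CommRing R'] [Algebra R R']

/-- The morphism `Spec R' ⟶ Spec R`. -/
local notation "𝔣" => Spec.map (CommRingCat.ofHom (algebraMap R R'))

/-- A geometric point of the Weil restriction of a smooth group scheme lies in the neutral component if its restriction
has values in the neutral component. -/
theorem mem_neutral_of_restr [Module.Finite R R'] {N' : Over (Spec (CommRingCat.of R'))} [GrpObj N'] [Smooth N'.hom]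
    {W : Over (Spec (CommRingCat.of R))} [GrpObj W] {q : Red.bc 𝔣 W ⟶ N'} [IsMonHom q]
    (hW : WeilRes.IsWeilRes 𝔣 N' W q) {k : Type u} [Field k] [IsAlgClosed k]
    (ω : Spec (CommRingCat.of k) ⟶ Spec (CommRingCat.of R)) (x : Over.mk ω ⟶ W)
    (hx : ∀ z, (WeilRes.restr 𝔣 q (Over.mk ω) x).left z ∈ SGA3x.neutralSet N') (t : ↥(Over.mk ω).left) :
    x.left t ∈ SGA3x.neutralSet W := by
  have hsub : Subsingleton ↥(Over.mk ω).left := inferInstanceAs (Subsingleton (PrimeSpectrum k))
  have h1 := rel_of_cond N' ω _ _ (cond_neutral (T := Over.mk ω) N' (WeilRes.restr 𝔣 q (Over.mk ω) x) hx)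
  rw [← WeilRes.restr_one 𝔣 q (Over.mk ω)] at h1
  have h2 := lift_connected_of_rel hW t x 1 h1
  rw [← lift_mem_iff]
  have h3 : (oneSec (Over.mk ω) W).left t ∈ connectedComponent ((lift (𝟙 (Over.mk ω)) x).left t) := h2
  rw [← connectedComponent_eq h3]
  exact mem_connectedComponent

/-- The neutral components of the fibres of the Weil restriction. -/
theorem mem_neutral_iff [IsNoetherianRing R] [Module.Finite R R'] [Module.Flat R R']
    (hinj : Function.Injective (𝔣 : Spec (CommRingCat.of R') ⟶ Spec (CommRingCat.of R)))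
    {N' : Over (Spec (CommRingCat.of R'))} [GrpObj N'] [Smooth N'.hom]
    {W : Over (Spec (CommRingCat.of R))} [GrpObj W] {q : Red.bc 𝔣 W ⟶ N'} [IsMonHom q]
    (hW : WeilRes.IsWeilRes 𝔣 N' W q) (w : W.left) :
    w ∈ SGA3x.neutralSet W ↔ ∀ v : (Red.bc 𝔣 W).left, pullback.fst W.hom 𝔣 v = w →
      q.left v ∈ SGA3x.neutralSet N' := by
  constructor
  · rintro hw v rfl
    have h1 : IsFinite (𝔣 : Spec (CommRingCat.of R') ⟶ Spec (CommRingCat.of R)) :=
      (IsFinite.SpecMap_iff _).mpr (RingHom.finite_algebraMap.mpr inferInstance)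
    have h2 : Flat (𝔣 : Spec (CommRingCat.of R') ⟶ Spec (CommRingCat.of R)) :=
      Flat.SpecMap_iff.mpr (RingHom.flat_algebraMap_iff.mpr inferInstance)
    have h3 : LocallyOfFinitePresentation (𝔣 : Spec (CommRingCat.of R') ⟶ Spec (CommRingCat.of R)) :=
      (HasRingHomProperty.Spec_iff (P := @LocallyOfFinitePresentation)).mpr
        (RingHom.finitePresentation_algebraMap.mpr (Algebra.FinitePresentation.of_finiteType.mp inferInstance))
    exact neutral_sub q hinj (Scheme.Hom.isOpenMap _) (Scheme.Hom.isClosedMap _) v hw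
  · intro h
    let k := AlgebraicClosure (W.left.residueField w)
    let i₀ : Spec (CommRingCat.of k) ⟶ Spec (W.left.residueField w) :=
      Spec.map (CommRingCat.ofHom (algebraMap (W.left.residueField w) k))
    let ξ : Spec (CommRingCat.of k) ⟶ W.left := i₀ ≫ W.left.fromSpecResidueField w
    let x : Over.mk (ξ ≫ W.hom) ⟶ W := Over.homMk ξ rfl
    have hxt : ∀ t, x.left t = w := by
      intro t
      show (i₀ ≫ W.left.fromSpecResidueField w) t = w
      rw [Scheme.Hom.comp_apply, Scheme.fromSpecResidueField_apply]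
    have h0 : ∀ z, (WeilRes.restr 𝔣 q (Over.mk (ξ ≫ W.hom)) x).left z ∈ SGA3x.neutralSet N' := by
      intro z
      have e1 : (WeilRes.restr 𝔣 q (Over.mk (ξ ≫ W.hom)) x).left = ((Over.pullback 𝔣).map x).left ≫ q.left := rfl
      rw [e1, Scheme.Hom.comp_apply]
      apply h
      rw [← Scheme.Hom.comp_apply, ← (isPullback_map (f := 𝔣) x).w, Scheme.Hom.comp_apply, hxt]
    have t : ↥(Over.mk (ξ ≫ W.hom)).left := IsLocalRing.closedPoint k
    rw [← hxt t]
    exact mem_neutral_of_restr hW _ x h0 t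

end affine

end K487.WeilNeutral
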