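import Groth.Agent.Neron.K487.WeilNeutral
import Mathlib.RingTheory.Flat.TorsionFree

/-!
# Weil restriction of open subschemes
-/

set_option autoImplicit false
universe u

open CategoryTheory CategoryTheory.Limits AlgebraicGeometry MonoidalCategory CartesianMonoidalCategory MonObj GrpObj

namespace K487.WeilOpen

open K487.WeilNeutral

section general

variable {S S' : Scheme.{u}} {f : S' ⟶ S}

/-- The Weil restriction of an open subscheme, along a closed map. -/
theorem weil_open {N' N'₀ : Over S'} (j : N'₀ ⟶ N') [hj : IsOpenImmersion j.left] {W W₀ : Over S}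
    {q : Red.bc f W ⟶ N'} {q₀ : Red.bc f W₀ ⟶ N'₀} (hW : WeilRes.IsWeilRes f N' W q)
    (hW₀ : WeilRes.IsWeilRes f N'₀ W₀ q₀) (hcl : IsClosedMap (pullback.fst W.hom f)) :
    IsOpenImmersion (hW.lift W₀ (q₀ ≫ j)).left ∧ Set.range (hW.lift W₀ (q₀ ≫ j)).left =
      {w | ∀ v, pullback.fst W.hom f v = w → q.left v ∈ Set.range j.left} := by
  let p := pullback.fst W.hom f
  set φ := hW.lift W₀ (q₀ ≫ j) with hφ
  have hφr : (Over.pullback f).map φ ≫ q = q₀ ≫ j := hW.restr_lift W₀ (q₀ ≫ j)
  have hjm : Mono j := by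
    have : Mono j.left := inferInstance
    exact Over.mono_of_mono_left j
  -- the open subset
  have hset : {w | ∀ v, p v = w → q.left v ∈ Set.range j.left} = (p '' (q.left ⁻¹' (Set.range j.left))ᶜ)ᶜ := by
    ext w
    simp only [Set.mem_setOf_eq, Set.mem_compl_iff, Set.mem_image, Set.mem_preimage, not_exists, not_and,
      not_not]
    constructor
    · intro h v hv hvw
      exact hv (h v hvw)
    · intro h v hvw
      by_contra hv
      exact h v hv hvw
  have hopen : IsOpen {w | ∀ v, p v = w → q.left v ∈ Set.range j.left} := by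
    rw [hset]
    exact (hcl _ ((hj.base_open.isOpen_range.preimage q.left.continuous).isClosed_compl)).isOpen_compl
  let U : W.left.Opens := ⟨_, hopen⟩
  let WU : Over S := Over.mk (U.ι ≫ W.hom)
  let i₀ : WU ⟶ W := Over.homMk U.ι rfl
  have hi₀m : Mono i₀ := by
    have : Mono i₀.left := inferInstanceAs (Mono U.ι)
    exact Over.mono_of_mono_left i₀
  -- the point of `W₀` with values in `U`
  let m := (Over.pullback f).map i₀ ≫ q
  have hm : Set.range m.left ⊆ Set.range j.left := by
    rintro _ ⟨z, rfl⟩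
    have e1 : m.left = ((Over.pullback f).map i₀).left ≫ q.left := rfl
    rw [e1, Scheme.Hom.comp_apply]
    have e2 : p (((Over.pullback f).map i₀).left z) = U.ι (pullback.fst WU.hom f z) := by
      rw [← Scheme.Hom.comp_apply, ← (isPullback_map (f := f) i₀).w, Scheme.Hom.comp_apply]
      rfl
    have e3 : U.ι (pullback.fst WU.hom f z) ∈ U := by
      have : U.ι (pullback.fst WU.hom f z) ∈ Set.range U.ι := ⟨_, rfl⟩
      rwa [Scheme.Opens.range_ι] at this
    exact e3 _ e2
  let g : Red.bc f WU ⟶ N'₀ := Over.homMk (IsOpenImmersion.lift j.left m.left hm) (by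
    rw [← Over.w j, IsOpenImmersion.lift_fac_assoc, Over.w m])
  have hg : g ≫ j = m := by
    apply Over.OverMorphism.ext
    exact IsOpenImmersion.lift_fac _ _ _
  let ψ : WU ⟶ W₀ := hW₀.lift WU g
  have hψr : (Over.pullback f).map ψ ≫ q₀ = g := hW₀.restr_lift WU g
  have hψφ : ψ ≫ φ = i₀ := by
    apply (hW WU).injective
    show (Over.pullback f).map (ψ ≫ φ) ≫ q = (Over.pullback f).map i₀ ≫ q
    rw [Functor.map_comp, Category.assoc, hφr, reassoc_of% hψr, hg]
  -- `φ` factors through `U`
  have hφU : Set.range φ.left ⊆ Set.range U.ι := by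
    rw [Scheme.Opens.range_ι]
    rintro _ ⟨w₀, rfl⟩ v hv
    obtain ⟨v₀, -, hv₀⟩ := Scheme.exists_preimage_of_isPullback (isPullback_map (f := f) φ) w₀ v hv.symm
    have hv₀' : ((Over.pullback f).map φ).left v₀ = v := hv₀
    rw [← hv₀', ← Scheme.Hom.comp_apply]
    have e1 : ((Over.pullback f).map φ).left ≫ q.left = q₀.left ≫ j.left := congrArg (fun z => z.left) hφr
    rw [e1, Scheme.Hom.comp_apply]
    exact ⟨_, rfl⟩
  let φ' : W₀ ⟶ WU := Over.homMk (IsOpenImmersion.lift U.ι φ.left hφU) (by
    show _ ≫ U.ι ≫ W.hom = _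
    rw [IsOpenImmersion.lift_fac_assoc, Over.w φ])
  have hφ' : φ' ≫ i₀ = φ := by
    apply Over.OverMorphism.ext
    exact IsOpenImmersion.lift_fac _ _ _
  have h1 : φ' ≫ ψ = 𝟙 _ := by
    apply (hW₀ W₀).injective
    show (Over.pullback f).map (φ' ≫ ψ) ≫ q₀ = (Over.pullback f).map (𝟙 _) ≫ q₀
    rw [Functor.map_comp, Category.assoc, hψr, CategoryTheory.Functor.map_id, Category.id_comp, ← cancel_mono j, Category.assoc, hg,
      ← hφr, ← hφ', Functor.map_comp, Category.assoc]
  have h2 : ψ ≫ φ' = 𝟙 _ := by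
    rw [← cancel_mono i₀, Category.assoc, hφ', hψφ, Category.id_comp]
  have hiso : IsIso φ'.left := ⟨ψ.left, by rw [← Over.comp_left, h1]; rfl, by rw [← Over.comp_left, h2]; rfl⟩
  have hφl : φ.left = φ'.left ≫ U.ι := by rw [← hφ']; rfl
  refine ⟨?_, ?_⟩
  · rw [hφl]; infer_instance
  · have hs : Function.Surjective φ'.left := φ'.left.surjective
    rw [hφl]
    have : Set.range (φ'.left ≫ U.ι) = Set.range U.ι := by
      rw [Scheme.Hom.comp_base]
      simp only [TopCat.hom_comp, ContinuousMap.coe_comp, Set.range_comp]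
      have : Set.range φ'.left = Set.univ := Set.range_eq_univ.mpr hs
      erw [this]
      rw [Set.image_univ]
    rw [this, Scheme.Opens.range_ι]
    rfl

end general

section DVR

variable (R R' : Type u) [CommRing R] [IsDomain R] [IsDiscreteValuationRing R] [CommRing R'] [IsDomain R']
  [IsDiscreteValuationRing R'] [Algebra R R'] [Module.Finite R R'] [FaithfulSMul R R']

theorem isLocalHom_algebraMap : IsLocalHom (algebraMap R R') :=
  (algebraMap_isIntegral_iff.mpr inferInstance).isLocalHom (FaithfulSMul.algebraMap_injective R R')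

theorem eq_bot_or (p : Ideal R') [hp : p.IsPrime] : p = ⊥ ∨ p = IsLocalRing.maximalIdeal R' := by
  by_cases h : p = ⊥
  · exact Or.inl h
  · right
    exact IsLocalRing.eq_maximalIdeal (hp.isMaximal h)

theorem injective_specMap : Function.Injective (Spec.map (CommRingCat.ofHom (algebraMap R R'))) := by
  intro p q h
  have := isLocalHom_algebraMap R R'
  have hpq : p.asIdeal.comap (algebraMap R R') = q.asIdeal.comap (algebraMap R R') := congrArg PrimeSpectrum.asIdeal h
  have h1 : (IsLocalRing.maximalIdeal R').comap (algebraMap R R') = IsLocalRing.maximalIdeal R :=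
    IsLocalRing.maximalIdeal_comap _
  have h2 : (⊥ : Ideal R').comap (algebraMap R R') = ⊥ :=
    (RingHom.injective_iff_ker_eq_bot _).mp (FaithfulSMul.algebraMap_injective R R')
  have h3 : IsLocalRing.maximalIdeal R ≠ ⊥ := IsDiscreteValuationRing.not_a_field R
  apply PrimeSpectrum.ext
  have := p.2
  have := q.2
  rcases eq_bot_or R' p.asIdeal with hp | hp <;> rcases eq_bot_or R' q.asIdeal with hq | hq
  · rw [hp, hq]
  · rw [hp, hq, h1, h2] at hpq
    exact absurd hpq.symm h3
  · rw [hp, hq, h1, h2] at hpq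
    exact absurd hpq h3
  · rw [hp, hq]

theorem isFinite_specMap : IsFinite (Spec.map (CommRingCat.ofHom (algebraMap R R'))) :=
  (IsFinite.SpecMap_iff _).mpr (RingHom.finite_algebraMap.mpr inferInstance)

end DVR

end K487.WeilOpen
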