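import Groth.Agent.Neron.K487.WeilOpen
import Groth.Prelude.Def_SGA7IX

/-!
# Reduction of points of a Weil restriction
-/

set_option autoImplicit false
universe u

open CategoryTheory CategoryTheory.Limits AlgebraicGeometry MonoidalCategory CartesianMonoidalCategory MonObj GrpObj
open scoped TensorProduct

namespace K487.WeilRed

open K487.WeilNeutral K487.WeilOpen Groth.Agent.Sga3.H778.NeutralPts

section normal

variable {S : Scheme.{u}} {G : Over S} [GrpObj G]

/-- `G⁰` is stable under conjugation by points. -/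
theorem conj_mem_pt (T : Over S) [Subsingleton T.left] (t : T.left) (g h : T ⟶ G)
    (hh : h.left t ∈ SGA3x.neutralSet G) : (g * h * g⁻¹).left t ∈ SGA3x.neutralSet G := by
  rw [← lift_mem_iff] at hh ⊢
  let A : T ⊗ G ⟶ T ⊗ G := lift (fst T G) ((fst T G ≫ g) * snd T G * (fst T G ≫ g)⁻¹)
  have hA (a : T ⟶ G) : lift (𝟙 T) a ≫ A = lift (𝟙 T) (g * a * g⁻¹) := by
    ext1
    · simp [A]
    · rw [Category.assoc, lift_snd, lift_snd, comp_mul, comp_mul, GrpObj.comp_inv, lift_fst_assoc, lift_snd,
        Category.id_comp]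
  have h1 : A.left ((oneSec T G).left t) = (oneSec T G).left t := by
    have : oneSec T G ≫ A = oneSec T G := by
      rw [oneSec, hA, _root_.mul_one, mul_inv_cancel]
    rw [← Scheme.Hom.comp_apply, ← Over.comp_left, this]
  have h2 := A.left.continuous.image_connectedComponent_subset ((oneSec T G).left t)
  rw [h1] at h2
  have h3 := h2 ⟨_, hh, rfl⟩
  rwa [← Scheme.Hom.comp_apply, ← Over.comp_left, hA] at h3

/-- Points congruent modulo `G⁰` have congruent powers. -/
theorem pow_mul_inv_pow_mem_pt (T : Over S) [Subsingleton T.left] (t : T.left) (x y : T ⟶ G)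
    (h : (x * y⁻¹).left t ∈ SGA3x.neutralSet G) (n : ℕ) : (x ^ n * (y ^ n)⁻¹).left t ∈ SGA3x.neutralSet G := by
  induction n with
  | zero =>
    rw [pow_zero, pow_zero, inv_one, _root_.mul_one, one_left, Scheme.Hom.comp_apply]
    exact unitSec_mem _
  | succ n ih =>
    have e : x ^ (n + 1) * (y ^ (n + 1))⁻¹ = (x * (x ^ n * (y ^ n)⁻¹) * x⁻¹) * (x * y⁻¹) := by
      rw [pow_succ' x, pow_succ y]; group
    rw [e]
    exact mul_mem_pt T t _ _ (conj_mem_pt T t _ _ ih) h

theorem pow_mem_iff (T : Over S) [Subsingleton T.left] (t : T.left) (x y : T ⟶ G)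
    (h : (x * y⁻¹).left t ∈ SGA3x.neutralSet G) (n : ℕ) (hy : (y ^ n).left t ∈ SGA3x.neutralSet G) :
    (x ^ n).left t ∈ SGA3x.neutralSet G := by
  have := mul_mem_pt T t _ _ (pow_mul_inv_pow_mem_pt T t x y h n) hy
  rwa [inv_mul_cancel_right] at this

end normal

section DVR

variable (R R' : Type u) [CommRing R] [IsDomain R] [IsDiscreteValuationRing R] [CommRing R'] [IsDomain R']
  [IsDiscreteValuationRing R'] [Algebra R R'] [Module.Finite R R'] [FaithfulSMul R R']

/-- The morphism `Spec R' ⟶ Spec R`. -/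
local notation "𝔣" => Spec.map (CommRingCat.ofHom (algebraMap R R'))

/-- The closed point `Spec k`. -/
local notation "𝕋" => Over.mk (Spec.map (CommRingCat.ofHom (IsLocalRing.residue R)))

/-- The closed point `Spec k'`. -/
local notation "𝕋'" => Over.mk (Spec.map (CommRingCat.ofHom (IsLocalRing.residue R')))

/-- The closed point of `Spec k ×_R R'`. -/
theorem exists_delta : ∃ δ : 𝕋' ⟶ Red.bc 𝔣 𝕋,
    (∀ z, δ.left (IsLocalRing.closedPoint (IsLocalRing.ResidueField R')) = z) ∧
      ∀ (N' : Over (Spec (CommRingCat.of R'))) [Smooth N'.hom] (x' : 𝕋' ⟶ N'), ∃ g, δ ≫ g = x' := by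
  have := isLocalHom_algebraMap R R'
  let k := IsLocalRing.ResidueField R
  let k' := IsLocalRing.ResidueField R'
  let A := k ⊗[R] R'
  let ρ : R' →+* A := (Algebra.TensorProduct.includeRight (R := R) (A := k) (B := R')).toRingHom
  have sq : IsPullback (Spec.map (CommRingCat.ofHom (algebraMap k A)))
      (Spec.map (CommRingCat.ofHom ρ))
      (Spec.map (CommRingCat.ofHom (IsLocalRing.residue R))) (Spec.map (CommRingCat.ofHom (algebraMap R R'))) :=
    isPullback_SpecMap_of_isPushout _ _ _ _ (CommRingCat.isPushout_tensorProduct R k R')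
  let π : A →ₐ[k] k' := Algebra.TensorProduct.lift (Algebra.ofId k k') (IsScalarTower.toAlgHom R R' k')
    (fun _ _ => mul_comm _ _)
  have hπρ : π.toRingHom.comp ρ = IsLocalRing.residue R' := by
    ext r
    have h0 := Algebra.TensorProduct.lift_tmul (Algebra.ofId k k') (IsScalarTower.toAlgHom R R' k')
      (fun _ _ => mul_comm _ _) 1 r
    rw [map_one, _root_.one_mul] at h0
    exact h0
  have hρs : Function.Surjective ρ := Algebra.TensorProduct.includeRight_surjective _ IsLocalRing.residue_surjective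
  have hπs : Function.Surjective π.toRingHom := by
    intro x
    obtain ⟨r, rfl⟩ := IsLocalRing.residue_surjective x
    exact ⟨ρ r, by rw [← RingHom.comp_apply, hπρ]⟩
  have hker : RingHom.ker π.toRingHom = (IsLocalRing.maximalIdeal R').map ρ := by
    apply le_antisymm
    · intro a ha
      obtain ⟨r, rfl⟩ := hρs a
      apply Ideal.mem_map_of_mem
      have : (π.toRingHom.comp ρ) r = 0 := ha
      rw [hπρ] at this
      exact (IsLocalRing.residue_eq_zero_iff r).mp this
    · rw [Ideal.map_le_iff_le_comap]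
      intro r hr
      show (π.toRingHom.comp ρ) r = 0
      rw [hπρ]
      exact (IsLocalRing.residue_eq_zero_iff r).mpr hr
  have hnil : IsNilpotent (RingHom.ker π.toRingHom) := by
    have hne : (IsLocalRing.maximalIdeal R).map (algebraMap R R') ≠ ⊥ := by
      intro h
      rw [Ideal.map_eq_bot_iff_of_injective (FaithfulSMul.algebraMap_injective R R')] at h
      exact IsDiscreteValuationRing.not_a_field R h
    obtain ⟨ϖ, hϖ⟩ := IsDiscreteValuationRing.exists_irreducible R'
    obtain ⟨n, hn⟩ := IsDiscreteValuationRing.ideal_eq_span_pow_irreducible hne hϖ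
    refine ⟨n, ?_⟩
    have h1 : IsLocalRing.maximalIdeal R' ^ n = (IsLocalRing.maximalIdeal R).map (algebraMap R R') := by
      rw [hn, hϖ.maximalIdeal_eq, Ideal.span_singleton_pow]
    rw [hker, ← Ideal.map_pow, h1, Ideal.map_map]
    rw [Ideal.zero_eq_bot, eq_bot_iff, Ideal.map_le_iff_le_comap]
    intro r hr
    show (ρ.comp (algebraMap R R')) r = 0
    have e1 : (ρ.comp (algebraMap R R')) r = algebraMap k A (IsLocalRing.residue R r) := by
      have : (ρ.comp (algebraMap R R')) r = algebraMap R A r :=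
        (Algebra.TensorProduct.includeRight (R := R) (A := k) (B := R')).commutes r
      rw [this, IsScalarTower.algebraMap_apply R k A]
      rfl
    rw [e1, (IsLocalRing.residue_eq_zero_iff r).mpr hr, map_zero]
  let δ : 𝕋' ⟶ Red.bc 𝔣 𝕋 := Over.homMk (Spec.map (CommRingCat.ofHom π.toRingHom) ≫ sq.isoPullback.hom) (by
    show (_ ≫ _) ≫ pullback.snd _ _ = _
    rw [Category.assoc, sq.isoPullback_hom_snd, ← Spec.map_comp, ← CommRingCat.ofHom_comp, hπρ]
    rfl)
  refine ⟨δ, ?_, ?_⟩
  · intro z
    obtain ⟨a, rfl⟩ : ∃ a, sq.isoPullback.hom a = z := (Scheme.Hom.homeomorph sq.isoPullback.hom).surjective z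
    refine (Scheme.Hom.comp_apply (Spec.map (CommRingCat.ofHom π.toRingHom)) sq.isoPullback.hom _).trans ?_
    congr 1
    apply PrimeSpectrum.ext
    have hmax : (RingHom.ker π.toRingHom).IsMaximal := RingHom.ker_isMaximal_of_surjective _ hπs
    have ha : (a : PrimeSpectrum A).asIdeal.IsPrime := PrimeSpectrum.isPrime a
    have h1 : RingHom.ker π.toRingHom ≤ (a : PrimeSpectrum A).asIdeal := by
      obtain ⟨n, hn⟩ := hnil
      apply Ideal.IsPrime.le_of_pow_le (n := n) 
      rw [hn]
      exact bot_le
    have h2 := hmax.eq_of_le ha.ne_top h1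
    rw [← h2]
    show (IsLocalRing.closedPoint k').asIdeal.comap π.toRingHom = _
    have h3 : (IsLocalRing.closedPoint k').asIdeal = ⊥ := IsLocalRing.maximalIdeal_eq_bot
    rw [h3]
    rfl
  · intro N' _ x'
    obtain ⟨l, hl1, hl2⟩ := K487.SmLift.exists_lift N'.hom π.toRingHom hπs hnil x'.left
      (Spec.map (CommRingCat.ofHom ρ)) (by
        rw [← Spec.map_comp, ← CommRingCat.ofHom_comp, hπρ]
        exact (Over.w x').symm)
    refine ⟨Over.homMk (sq.isoPullback.inv ≫ l) (by
      rw [Category.assoc, hl2, sq.isoPullback_inv_snd]; rfl), ?_⟩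
    apply Over.OverMorphism.ext
    show (Spec.map (CommRingCat.ofHom π.toRingHom) ≫ sq.isoPullback.hom) ≫ sq.isoPullback.inv ≫ l = _
    rw [Category.assoc, Iso.hom_inv_id_assoc, hl1]

/-- The residue field of `R'` is algebraically closed. -/
theorem isAlgClosed_residueField [IsAlgClosed (IsLocalRing.ResidueField R)] :
    IsAlgClosed (IsLocalRing.ResidueField R') := by
  have := isLocalHom_algebraMap R R'
  have h1 : Module.Finite (IsLocalRing.ResidueField R) (IsLocalRing.ResidueField R') := by
    have : Module.Finite R (IsLocalRing.ResidueField R') :=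
      Module.Finite.of_surjective (IsScalarTower.toAlgHom R R' (IsLocalRing.ResidueField R')).toLinearMap
        IsLocalRing.residue_surjective
    exact Module.Finite.of_restrictScalars_finite R _ _
  have h2 : Function.Bijective (algebraMap (IsLocalRing.ResidueField R) (IsLocalRing.ResidueField R')) :=
    IsAlgClosed.algebraMap_bijective_of_isIntegral
  exact IsAlgClosed.of_ringEquiv _ _ (RingEquiv.ofBijective _ h2)

variable {R R'}

/-- A point of the special fibre of the Weil restriction lies in the neutral component iff its reduction does. -/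
theorem mem_iff [IsAlgClosed (IsLocalRing.ResidueField R)]
    {N' : Over (Spec (CommRingCat.of R'))} [GrpObj N'] [Smooth N'.hom]
    {W : Over (Spec (CommRingCat.of R))} [GrpObj W] {q : Red.bc 𝔣 W ⟶ N'} [IsMonHom q]
    (hW : WeilRes.IsWeilRes 𝔣 N' W q) (x : 𝕋 ⟶ W) (z : ↥(Red.bc 𝔣 𝕋).left) :
    x.left (IsLocalRing.closedPoint (IsLocalRing.ResidueField R)) ∈ SGA3x.neutralSet W ↔
      (WeilRes.restr 𝔣 q 𝕋 x).left z ∈ SGA3x.neutralSet N' := by
  obtain ⟨δ, hδ, -⟩ := exists_delta R R'
  constructor
  · intro h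
    have e1 : (WeilRes.restr 𝔣 q 𝕋 x).left = ((Over.pullback 𝔣).map x).left ≫ q.left := rfl
    rw [e1, Scheme.Hom.comp_apply]
    refine (mem_neutral_iff (injective_specMap R R') hW _).mp h _ ?_
    rw [← Scheme.Hom.comp_apply, ← (isPullback_map (f := 𝔣) x).w, Scheme.Hom.comp_apply]
    congr 1
    exact Subsingleton.elim (α := PrimeSpectrum (IsLocalRing.ResidueField R)) _ _
  · intro h
    refine mem_neutral_of_restr hW (Spec.map (CommRingCat.ofHom (IsLocalRing.residue R))) x ?_ _
    intro z'
    rw [← hδ z', hδ z]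
    exact h

/-- The components of the special fibre have rational points. -/
theorem exists_pt_component [IsAlgClosed (IsLocalRing.ResidueField R')] (N' : Over (Spec (CommRingCat.of R')))
    [Smooth N'.hom] (y : N'.left) (hy : y ∈ SGA7.specialFibreSet R' N') :
    ∃ x' : 𝕋' ⟶ N', x'.left (IsLocalRing.closedPoint (IsLocalRing.ResidueField R')) ∈
      connectedComponentIn (SGA7.specialFibreSet R' N') y := by
  let k' := IsLocalRing.ResidueField R'
  let κ : Spec (CommRingCat.of k') ⟶ Spec (CommRingCat.of R') := Spec.map (CommRingCat.ofHom (IsLocalRing.residue R'))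
  have hκ : ∀ t, κ t = IsLocalRing.closedPoint R' := by
    intro t
    apply PrimeSpectrum.ext
    have ht : (t : PrimeSpectrum k').asIdeal = ⊥ := Subsingleton.elim (α := PrimeSpectrum k') t ⊥ ▸ rfl
    show (t : PrimeSpectrum k').asIdeal.comap (IsLocalRing.residue R') = _
    rw [ht]
    exact IsLocalRing.ker_residue
  let F := K487.Comp.Fib (AlgHom.id k' k') (IsLocalRing.residue R') N'.hom
  let φ : F ⟶ N'.left := pullback.fst _ _
  obtain ⟨y₀, hy₀, -⟩ := Scheme.Pullback.exists_preimage_pullback (f := N'.hom) (g := κ) y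
    (IsLocalRing.closedPoint k') (hy.trans (hκ _).symm)
  have hφ : ∀ v, φ v ∈ SGA7.specialFibreSet R' N' := by
    intro v
    show N'.hom (φ v) = _
    rw [← Scheme.Hom.comp_apply]
    have : φ ≫ N'.hom = pullback.snd _ _ ≫ κ := pullback.condition
    rw [this, Scheme.Hom.comp_apply, hκ]
  have hft : LocallyOfFiniteType N'.hom := inferInstance
  have hft' : LocallyOfFiniteType (pullback.snd N'.hom
      (Spec.map (CommRingCat.ofHom ((AlgHom.id k' k').toRingHom.comp (IsLocalRing.residue R'))))) := inferInstance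
  have : IsLocallyNoetherian F := LocallyOfFiniteType.isLocallyNoetherian (pullback.snd N'.hom
      (Spec.map (CommRingCat.ofHom ((AlgHom.id k' k').toRingHom.comp (IsLocalRing.residue R')))))
  have : LocallyConnectedSpace F := Groth.Agent.Sga3C.LocConn.locallyConnectedSpace_of_isLocallyNoetherian _
  obtain ⟨w, hw1, hw2⟩ := K487.Comp.exists_pt (AlgHom.id k' k') (IsLocalRing.residue R') N'.hom
    (connectedComponent y₀) isOpen_connectedComponent ⟨y₀, mem_connectedComponent⟩
  have hww : (w ≫ φ) ≫ N'.hom = κ := by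
    have : φ ≫ N'.hom = pullback.snd _ _ ≫ κ := pullback.condition
    rw [Category.assoc, this]
    exact (Category.assoc _ _ _).symm.trans ((congrArg (· ≫ κ) hw1).trans (Category.id_comp _))
  refine ⟨Over.homMk (w ≫ φ) hww, ?_⟩
  have h1 := (isPreconnected_connectedComponent (x := y₀)).image φ φ.continuous.continuousOn
  have h2 : φ '' (connectedComponent y₀) ⊆ connectedComponentIn (SGA7.specialFibreSet R' N') y :=
    h1.subset_connectedComponentIn ⟨y₀, mem_connectedComponent, hy₀⟩ (by
      rintro _ ⟨v, -, rfl⟩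
      exact hφ v)
  apply h2
  refine ⟨w (IsLocalRing.closedPoint k'), hw2, ?_⟩
  exact (Scheme.Hom.comp_apply _ _ _).symm

end DVR

end K487.WeilRed
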