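import Groth.Agent.Neron.K487.Fin
import Groth.Agent.Neron.K487.WeilConn

/-!
# Points of a Weil restriction with values in an algebraically closed field
-/

set_option autoImplicit false
universe u

open CategoryTheory CategoryTheory.Limits AlgebraicGeometry MonoidalCategory CartesianMonoidalCategory MonObj GrpObj
open scoped TensorProduct

namespace K487.WeilRel

open K487.Elem K487.Fin K487.WeilConn

theorem el_of_iso {P S' X 𝔸 𝔸' : Scheme.{u}} {a₁ : 𝔸 ⟶ P} {a₂ : 𝔸 ⟶ S'} {f : X ⟶ S'} {y y' : 𝔸 ⟶ X}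
    (h : El a₁ a₂ f y y') (e : 𝔸' ≅ 𝔸) : El (e.hom ≫ a₁) (e.hom ≫ a₂) f (e.hom ≫ y) (e.hom ≫ y') := by
  obtain ⟨C, c, t, t', γ, hC, ht, ht', hγ, h1, h2⟩ := h
  let τ : 𝔸 ⟶ pullback c a₁ := pullback.lift (a₁ ≫ t) (𝟙 _) (by
    rw [Category.assoc, ht, Category.comp_id, Category.id_comp])
  let τ' : 𝔸 ⟶ pullback c a₁ := pullback.lift (a₁ ≫ t') (𝟙 _) (by
    rw [Category.assoc, ht', Category.comp_id, Category.id_comp])
  have ef : τ ≫ pullback.fst c a₁ = a₁ ≫ t := pullback.lift_fst _ _ _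
  have es : τ ≫ pullback.snd c a₁ = 𝟙 _ := pullback.lift_snd _ _ _
  have ef' : τ' ≫ pullback.fst c a₁ = a₁ ≫ t' := pullback.lift_fst _ _ _
  have es' : τ' ≫ pullback.snd c a₁ = 𝟙 _ := pullback.lift_snd _ _ _
  have sq : IsPullback (pullback.fst c a₁) (pullback.snd c a₁ ≫ e.inv) c (e.hom ≫ a₁) := by
    refine IsPullback.of_iso (IsPullback.of_hasPullback c a₁) (Iso.refl _) (Iso.refl _) e.symm (Iso.refl _) ?_ ?_ ?_ ?_
    · simp
    · simp
    · simp
    · simp
  refine El.of_isPullback c (pullback.fst c a₁) (pullback.snd c a₁ ≫ e.inv) sq t t' ht ht' γ ?_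
    (e.hom ≫ τ) (e.hom ≫ τ') ?_ ?_ ?_ ?_ ?_ ?_
  · rw [hγ, Category.assoc, Iso.inv_hom_id_assoc]
  · rw [Category.assoc, ef, Category.assoc]
  · rw [Category.assoc, reassoc_of% es, Iso.hom_inv_id]
  · rw [Category.assoc, ef', Category.assoc]
  · rw [Category.assoc, reassoc_of% es', Iso.hom_inv_id]
  · rw [Category.assoc, h1 τ ef es]
  · rw [Category.assoc, h2 τ' ef' es']

theorem rel_of_iso {P S' X 𝔸 𝔸' : Scheme.{u}} {a₁ : 𝔸 ⟶ P} {a₂ : 𝔸 ⟶ S'} {f : X ⟶ S'} {y y' : 𝔸 ⟶ X}
    (h : Rel a₁ a₂ f y y') (e : 𝔸' ≅ 𝔸) : Rel (e.hom ≫ a₁) (e.hom ≫ a₂) f (e.hom ≫ y) (e.hom ≫ y') := by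
  induction h with
  | refl => exact Rel.refl _
  | tail _ h2 ih => exact ih.trans (Rel.of_el (el_of_iso h2 e))

variable {R R' : Type u} [CommRing R] [CommRing R'] [Algebra R R'] [Module.Finite R R']

theorem rel_of_cond (N' : Over (Spec (CommRingCat.of R'))) [Smooth N'.hom] {k : Type u} [Field k] [IsAlgClosed k]
    (ω : Spec (CommRingCat.of k) ⟶ Spec (CommRingCat.of R))
    (y y' : Red.bc (Spec.map (CommRingCat.ofHom (algebraMap R R'))) (Over.mk ω) ⟶ N')
    (hc : Cond (pullback.fst ω (Spec.map (CommRingCat.ofHom (algebraMap R R'))))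
      (pullback.snd ω (Spec.map (CommRingCat.ofHom (algebraMap R R')))) N'.hom y.left y'.left) :
    Rel (pullback.fst ω (Spec.map (CommRingCat.ofHom (algebraMap R R'))))
      (pullback.snd ω (Spec.map (CommRingCat.ofHom (algebraMap R R')))) N'.hom y.left y'.left := by
  obtain ⟨φ, rfl⟩ := Spec.map_surjective ω
  let _ : Algebra R k := φ.hom.toAlgebra
  let A := k ⊗[R] R'
  have sq : IsPullback (Spec.map (CommRingCat.ofHom (algebraMap k A)))
      (Spec.map (CommRingCat.ofHom (Algebra.TensorProduct.includeRight (R := R) (A := k) (B := R')).toRingHom))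
      (Spec.map φ) (Spec.map (CommRingCat.ofHom (algebraMap R R'))) :=
    isPullback_SpecMap_of_isPushout _ _ _ _ (CommRingCat.isPushout_tensorProduct R k R')
  let e : pullback (Spec.map φ) (Spec.map (CommRingCat.ofHom (algebraMap R R'))) ≅ Spec (CommRingCat.of A) :=
    sq.isoPullback.symm
  have e1 : e.hom ≫ Spec.map (CommRingCat.ofHom (algebraMap k A)) = pullback.fst _ _ := sq.isoPullback_inv_fst
  have e2 : e.hom ≫ Spec.map (CommRingCat.ofHom (Algebra.TensorProduct.includeRight (R := R) (A := k) (B := R')).toRingHom)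
    = pullback.snd _ _ := sq.isoPullback_inv_snd
  have e1' : e.inv ≫ pullback.fst _ _ = Spec.map (CommRingCat.ofHom (algebraMap k A)) := sq.isoPullback_hom_fst
  have e2' : e.inv ≫ pullback.snd _ _ =
    Spec.map (CommRingCat.ofHom (Algebra.TensorProduct.includeRight (R := R) (A := k) (B := R')).toRingHom) :=
      sq.isoPullback_hom_snd
  have hA : Module.Finite k A := inferInstance
  have h1 := rel_of_finite (k := k) (A := A) N'.hom
    (Algebra.TensorProduct.includeRight (R := R) (A := k) (B := R')).toRingHom (e.inv ≫ y.left) (e.inv ≫ y'.left)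
    (by rw [Category.assoc, ← e2']; congr 1; exact Over.w y)
    (by rw [Category.assoc, ← e2']; congr 1; exact Over.w y') (by
      rw [← e1', ← e2']
      exact hc.restrict e.inv)
  have h2 := rel_of_iso h1 e
  rwa [e1, e2, Iso.hom_inv_id_assoc, Iso.hom_inv_id_assoc] at h2

end K487.WeilRel
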